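import Cfsg.Agent.H37.Autos

/-! The symmetries of the Dynkin diagrams of types D₄ and E₆, and the map `r ↦ -r`, as signed automorphisms of the
tables. -/

set_option autoImplicit false
set_option maxRecDepth 100000

namespace Cfsg.Agent.H37

open Cfsg.Lie Matrix

/-- the permutation matrix `h_j ↦ h_{ρ j}` -/
def permP (ρ : List ℕ) (j' j : ℕ) : ℤ := if j' = ρ.getD j 0 then 1 else 0

/-- the matrix `h_j ↦ -h_j` -/
def negP (j' j : ℕ) : ℤ := if j' = j then -1 else 0

/-- a signed automorphism of the tables that extends the permutation `ρ` of the fundamental roots, with sign `+1` on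
the fundamental roots -/
structure GraphData (D : ChevalleyDatum) (ρ : List ℕ) (π : ℕ → ℕ) (η : ℕ → ℤ) : Prop where
  aut : IsAut D (permP ρ) π η
  simple : ∀ i < D.rank, π (D.simple i) = D.simple (ρ.getD i 0)
  eta : ∀ i < D.rank, η (D.simple i) = 1

theorem graphData_of {D : ChevalleyDatum} {wd md : ℕ} {rows : List ℕ} {cor car : ℕ → ℕ}
    (hL : checkLink D wd md rows cor car = true) {ρ : List ℕ} {T Tinv : ℕ}
    (h1 : checkAutChain D.rank D.nroots (codeG wd md rows) T = true)
    (h2 : band (checkAutRest D.rank D.nroots cor car (permP ρ) T Tinv)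
      (allLt (fun i => band (Nat.beq (piT T (D.simple i)) (D.simple (ρ.getD i 0))) (ieq (etaT T (D.simple i)) 1))
        D.rank) = true) : GraphData D ρ (piT T) (etaT T) := by
  obtain ⟨h2, h3⟩ := band_iff.1 h2
  have h4 := allLt_sound h3
  simp only [band_iff, ieq_iff, Nat.beq_eq] at h4
  exact ⟨(checkAut_sound (checkLink_sound hL) h1 h2).1, fun i hi => (h4 i hi).1, fun i hi => (h4 i hi).2⟩

theorem IsAut.congr' {D : ChevalleyDatum} {P : ℕ → ℕ → ℤ} {π : ℕ → ℕ} {η η' : ℕ → ℤ} (h : IsAut D P π η) (hB : Basic D)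
    (hη : ∀ s < D.nroots, η' s = η s) : IsAut D P π η' := by
  refine ⟨h.lt, h.inj, h.neg, fun s hs => hη s hs ▸ h.sgn s hs,
    fun s hs => by rw [hη s hs, hη _ (hB.neg_lt s hs), h.sgn_neg s hs], fun r hr s hs => ?_, h.cartan, h.co⟩
  rw [h.chain r hr s hs, hη r hr, hη s hs]
  have key : ∀ (L : List (ℕ × ℤ)) (a b : ℤ), (∀ e ∈ L, e.1 < D.nroots) → twist π η a b L = twist π η' a b L := by
    intro L a
    induction L with
    | nil => intros; rfl
    | cons e L ih =>
      intro b hL
      rw [twist_cons, twist_cons, hη _ (hL e List.mem_cons_self), ih _ fun x hx => hL x (List.mem_cons_of_mem _ hx)]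
  exact key _ _ _ (hB.chain_lt r hr s)

theorem negAut_of {D : ChevalleyDatum} {wd md : ℕ} {rows : List ℕ} {cor car : ℕ → ℕ}
    (hL : checkLink D wd md rows cor car = true) {T : ℕ}
    (h1 : checkAutChain D.rank D.nroots (codeG wd md rows) T = true)
    (h2 : band (checkAutRest D.rank D.nroots cor car negP T T)
      (allLt (fun s => band (Nat.beq (Nat.succ (Nat.add (piT T s) s)) D.nroots) (ieq (etaT T s) (-1)))
        D.nroots) = true) : IsAut D negP D.neg (fun _ => -1) := by
  obtain ⟨h2, h3⟩ := band_iff.1 h2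
  have h4 := allLt_sound h3
  simp only [band_iff, ieq_iff, Nat.beq_eq] at h4
  have L := checkLink_sound hL
  refine ((checkAut_sound L h1 h2).1.congr L.basic fun s hs => ?_).congr' L.basic fun s hs => ((h4 s hs).2).symm
  have h5 : piT T s + s + 1 = D.nroots := (h4 s hs).1
  have := L.neg s hs
  omega

/-- packed table of the symmetry [5, 1, 4, 3, 2, 0] of type E6 -/
def grTE6 : ℕ := 0x2388c228841bc882086d1f86918c7816c521344821c811a87d198601ec641785c1dc581444a1d05713873150700783a074400e41a1103f0d8190c8300a8150b82804c2403c09118430f0350582d09c1008c0c018210280400800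

theorem graphDataE6 : GraphData chevE6 [5, 1, 4, 3, 2, 0] (piT grTE6) (etaT grTE6) :=
  graphData_of linkE6 (Tinv := 0x2388c228841b8882086c1f868188781685213048218801a87c198601e8641785c1d8581404a1d05613872150700783a070400e01a1103e0d8180c8300a8140b8280482403808118420f0340582c098100880c018200280400800)
    (by decide +kernel) (by decide +kernel)

/-- packed table of the symmetry [2, 1, 3, 0] of type D4 -/
def grTD4a : ℕ := 0xb82c08c2a0841a0a41e09c1c060240281604809040070500f0100d00800

theorem graphDataD4a : GraphData chevD4 [2, 1, 3, 0] (piT grTD4a) (etaT grTD4a) :=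
  graphData_of linkD4 (Tinv := 0xb82c0a022078180a8260801c0901a0500a0480e02004058100300600800)
    (by decide +kernel) (by decide +kernel)

/-- packed table of the symmetry [3, 1, 0, 2] of type D4 -/
def grTD4b : ℕ := 0xb82c0a02307c180ac270801c0901a0500a0480e02405058110340600800

theorem graphDataD4b : GraphData chevD4 [3, 1, 0, 2] (piT grTD4b) (etaT grTD4b) :=
  graphData_of linkD4 (Tinv := 0xb82c0882a0801a0a01e0981c060240281604808040060500e0100c00800)
    (by decide +kernel) (by decide +kernel)

/-- packed table of the symmetry [0, 1, 3, 2] of type D4 -/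
def grTD4c : ℕ := 0xb82c0a02a098240881e0801c0601a050160480e0400c028080100600800

theorem graphDataD4c : GraphData chevD4 [0, 1, 3, 2] (piT grTD4c) (etaT grTD4c) :=
  graphData_of linkD4 (Tinv := 0xb82c0a02a098240881e0801c0601a050160480e0400c028080100600800)
    (by decide +kernel) (by decide +kernel)

/-- packed table of the symmetry [2, 1, 0, 3] of type D4 -/
def grTD4d : ℕ := 0xb82c0a8230841a0a4270781c090180580a04810024070500f0340400800

theorem graphDataD4d : GraphData chevD4 [2, 1, 0, 3] (piT grTD4d) (etaT grTD4d) :=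
  graphData_of linkD4 (Tinv := 0xb82c0a8220801a0a0260781c090180580a04810020060500e0300400800)
    (by decide +kernel) (by decide +kernel)

/-- packed table of the symmetry [3, 1, 2, 0] of type D4 -/
def grTD4e : ℕ := 0xb82c08c2807c180ac2009c1c06824028140480903805058110180d00800

theorem graphDataD4e : GraphData chevD4 [3, 1, 2, 0] (piT grTD4e) (etaT grTD4e) :=
  graphData_of linkD4 (Tinv := 0xb82c08828078180a8200981c06824028140480803804058100180c00800)
    (by decide +kernel) (by decide +kernel)

theorem negAutG2 : IsAut chevG2 negP chevG2.neg (fun _ => -1) :=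
  negAut_of linkG2 (T := 0x403014070240b0340f0441305417)
    (by decide +kernel) (by decide +kernel)

theorem negAutB2 : IsAut chevB2 negP chevB2.neg (fun _ => -1) :=
  negAut_of linkB2 (T := 0x403014070240b0340f)
    (by decide +kernel) (by decide +kernel)

theorem negAutD4 : IsAut chevD4 negP chevD4.neg (fun _ => -1) :=
  negAut_of linkD4 (T := 0x403014070240b0340f04413054170641b0741f08423094270a42b0b42f)
    (by decide +kernel) (by decide +kernel)

theorem negAutF4 : IsAut chevF4 negP chevF4.neg (fun _ => -1) :=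
  negAut_of linkF4 (T := 0x403014070240b0340f04413054170641b0741f08423094270a42b0b42f0c4330d4370e43b0f43f10443114471244b1344f14453154571645b1745f)
    (by decide +kernel) (by decide +kernel)

theorem negAutE6 : IsAut chevE6 negP chevE6.neg (fun _ => -1) :=
  negAut_of linkE6 (T := 0x403014070240b0340f04413054170641b0741f08423094270a42b0b42f0c4330d4370e43b0f43f10443114471244b1344f14453154571645b1745f18463194671a46b1b46f1c4731d4771e47b1f47f20483214872248b2348f)
    (by decide +kernel) (by decide +kernel)

theorem negAutE7 : IsAut chevE7 negP chevE7.neg (fun _ => -1) :=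
  negAut_of linkE7 (T := 0x403014070240b0340f04413054170641b0741f08423094270a42b0b42f0c4330d4370e43b0f43f10443114471244b1344f14453154571645b1745f18463194671a46b1b46f1c4731d4771e47b1f47f20483214872248b2348f24493254972649b2749f284a3294a72a4ab2b4af2c4b32d4b72e4bb2f4bf304c3314c7324cb334cf344d3354d7364db374df384e3394e73a4eb3b4ef3c4f33d4f73e4fb)
    (by decide +kernel) (by decide +kernel)

theorem negAutE8 : IsAut chevE8 negP chevE8.neg (fun _ => -1) :=
  negAut_of linkE8 (T := 0x403014070240b0340f04413054170641b0741f08423094270a42b0b42f0c4330d4370e43b0f43f10443114471244b1344f14453154571645b1745f18463194671a46b1b46f1c4731d4771e47b1f47f20483214872248b2348f24493254972649b2749f284a3294a72a4ab2b4af2c4b32d4b72e4bb2f4bf304c3314c7324cb334cf344d3354d7364db374df384e3394e73a4eb3b4ef3c4f33d4f73e4fb3f4ff40503415074250b4350f44513455174651b4751f48523495274a52b4b52f4c5334d5374e53b4f53f50543515475254b5354f54553555575655b5755f58563595675a56b5b56f5c5735d5775e57b5f57f60583615876258b6358f64593655976659b6759f685a3695a76a5ab6b5af6c5b36d5b76e5bb6f5bf705c3715c7725cb735cf745d3755d7765db775df)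
    (by decide +kernel) (by decide +kernel)

/-- `e_r ↦ -e_{-r}`, `h ↦ -h` is an automorphism of the tables -/
theorem negAut {D : ChevalleyDatum} (hD : D ∈ [chevG2, chevB2, chevD4, chevF4, chevE6, chevE7, chevE8]) :
    IsAut D negP D.neg (fun _ => -1) := by
  simp only [List.mem_cons, List.not_mem_nil, or_false] at hD
  rcases hD with rfl | rfl | rfl | rfl | rfl | rfl | rfl
  exacts [negAutG2, negAutB2, negAutD4, negAutF4, negAutE6, negAutE7, negAutE8]

variable {D : ChevalleyDatum} {F : Type*} [Field F]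

namespace Valid

variable (V : Valid D)
include V

theorem autOf_simple {ρ : List ℕ} {π : ℕ → ℕ} {η : ℕ → ℤ} (h : GraphData D ρ π η) {i : ℕ} (hi : i < D.rank) (t : F) :
    V.autOf F h.aut (V.xE F (D.simple i) t) = V.xE F (D.simple (ρ.getD i 0)) t := by
  rw [V.autOf_xE _ (V.basic.simple_lt i hi), h.simple i hi, h.eta i hi]; simp

theorem autOf_neg_simple {ρ : List ℕ} {π : ℕ → ℕ} {η : ℕ → ℤ} (h : GraphData D ρ π η) {i : ℕ} (hi : i < D.rank)
    (t : F) : V.autOf F h.aut (V.xE F (D.neg (D.simple i)) t) = V.xE F (D.neg (D.simple (ρ.getD i 0))) t := by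
  have hp := V.basic.simple_lt i hi
  rw [V.autOf_xE _ (V.basic.neg_lt _ hp), h.aut.neg _ hp, h.aut.sgn_neg _ hp, h.simple i hi, h.eta i hi]; simp

theorem autOf_neg (h : IsAut D negP D.neg (fun _ => -1)) {r : ℕ} (hr : r < D.nroots) (t : F) :
    V.autOf F h (V.xE F r t) = V.xE F (D.neg r) (-t) := by
  rw [V.autOf_xE _ hr]; simp

theorem co_refl {i : ℕ} (hi : i < D.rank) {s : ℕ} (hs : s < D.nroots) {j : ℕ} (hj : j < D.rank) :
    co D (D.reflectRoot i s) j = co D s j - if j = i then D.pairing s (D.simple i) else 0 := by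
  rw [(V.aut i hi).co s hs j hj, pairing_eq_sum]
  simp only [reflP, sub_mul, Finset.sum_sub_distrib, ite_mul, one_mul, zero_mul]
  rw [Finset.sum_ite_eq (Finset.range D.rank) j]
  split_ifs with h1 h2 h2
  · simp [mul_comm]
  · simp
  · exact absurd (Finset.mem_range.2 hj) h1
  · exact absurd (Finset.mem_range.2 hj) h1

/-- an automorphism permuting the root elements of `± p_i` according to a symmetry of the Cartan matrix permutes all
root subgroups -/
theorem exists_image_of_perm (π : Equiv.Perm (Fin D.rank))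
    (hπ : ∀ i j : Fin D.rank, D.cartan (π i) (D.simple (π j)) = D.cartan i (D.simple j))
    {φ : D.group F →* D.group F}
    (h1 : ∀ (i : Fin D.rank) t, φ (V.xE F (D.simple i) t) = V.xE F (D.simple (π i)) t)
    (h2 : ∀ (i : Fin D.rank) t, φ (V.xE F (D.neg (D.simple i)) t) = V.xE F (D.neg (D.simple (π i))) t) :
    ∀ r < D.nroots, ∃ s < D.nroots, (∀ i : Fin D.rank, co D s (π i) = co D r i) ∧
      ∃ ε : F, (ε = 1 ∨ ε = -1) ∧ ∀ t, φ (V.xE F r t) = V.xE F s (ε * t) := by
  refine V.root_induction (fun i hi => ?_) fun i hi r hr ⟨s, hs, hco, ε, hε, h⟩ => ?_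
  · refine ⟨_, V.basic.simple_lt _ (π ⟨i, hi⟩).2, fun j => ?_, 1, Or.inl rfl, fun t => by rw [one_mul]; exact h1 ⟨i, hi⟩ t⟩
    rw [V.basic.co_simple _ (π ⟨i, hi⟩).2 _ (π j).2, V.basic.co_simple i hi j j.2]
    simp [Fin.val_inj, Fin.ext_iff]
  · have hn : φ (V.nE F (D.simple i) 1) = V.nE F (D.simple (π ⟨i, hi⟩)) 1 := by
      rw [nE_eq, nE_eq, map_mul, map_mul, h1 ⟨i, hi⟩, h2 ⟨i, hi⟩]
    have hi' := (π ⟨i, hi⟩).2
    refine ⟨_, V.refl_lt hi' hs, fun j => ?_, ((V.η (π ⟨i, hi⟩) s : ℤ) : F) * ε * ((V.η i r : ℤ) : F), ?_, fun t => ?_⟩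
    · rw [V.co_refl hi' hs (π j).2, V.co_refl hi hr j.2, hco j, pairing_eq_sum, pairing_eq_sum, Finset.sum_range,
        Finset.sum_range, ← Equiv.sum_comp π]
      simp only [hco, hπ _ ⟨i, hi⟩]
      simp [Fin.val_inj, Fin.ext_iff]
    · rcases (V.aut _ hi').sgn s hs with a | a <;> rcases (V.aut _ hi).sgn r hr with b | b <;>
        rcases hε with c | c <;> simp [a, b, c]
    · have := V.nE_simple_conj hi hr (((V.η i r : ℤ) : F) * t)
      rw [← mul_assoc, (V.aut i hi).sqF hr, one_mul] at this
      rw [← this, map_mul, map_mul, map_inv, hn, h, V.nE_simple_conj hi' hs]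
      congr 1; ring

end Valid

theorem permRoot_eq (π : Equiv.Perm (Fin D.rank))
    (hinj : ∀ r < D.nroots, ∀ s < D.nroots, (∀ j < D.rank, co D r j = co D s j) → r = s)
    {r s : ℕ} (hs : s < D.nroots) (h : ∀ i : Fin D.rank, co D s (π i) = co D r i) : D.permRoot π r = s := by
  unfold ChevalleyDatum.permRoot
  rcases hf : (List.range D.nroots).find? (fun s => (List.finRange D.rank).all fun i =>
      (D.coroot.getD s #[]).getD (π i).val 0 == (D.coroot.getD r #[]).getD i.val 0) with _ | s'
  · rw [List.find?_eq_none] at hf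
    exact absurd (by simpa [co] using h) (hf s (List.mem_range.2 hs))
  · have h1 := List.find?_some hf
    have h2 := List.mem_range.1 (List.mem_of_find?_eq_some hf)
    simp only [List.all_eq_true, List.mem_finRange, beq_iff_eq, true_implies] at h1
    refine hinj _ h2 _ hs fun j hj => ?_
    obtain ⟨i, hi⟩ := π.surjective ⟨j, hj⟩
    have : j = π i := by rw [hi]
    rw [this, h i]; exact h1 i

noncomputable def checkInj (l n : ℕ) (cor : ℕ → ℕ) : Bool :=
  allLt (fun r => (fun a => allLt (fun s => (fun b => anyLt (fun j => Bool.not (ieq (nib a j) (nib b j))) l) (cor s)) r)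
    (cor r)) n

theorem checkInj_sound {l n : ℕ} {cor : ℕ → ℕ} (h : checkInj l n cor = true) {f : ℕ → ℕ → ℤ}
    (hf : ∀ r < n, ∀ j < l, nib (cor r) j = f r j) : ∀ r < n, ∀ s < n, (∀ j < l, f r j = f s j) → r = s := by
  have key : ∀ r < n, ∀ s < r, ¬ ∀ j < l, f r j = f s j := by
    intro r hr s hs e
    obtain ⟨j, hj, h'⟩ := anyLt_sound (allLt_sound (allLt_sound h r hr) s hs)
    rw [Bool.not_eq_true', ← Bool.not_eq_true, ieq_iff, hf r hr j hj, hf s (by omega) j hj] at h'
    exact h' (e j hj)
  intro r hr s hs e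
  rcases lt_trichotomy r s with h | h | h
  · exact absurd (fun j hj => (e j hj).symm) (key s hs r h)
  · exact h
  · exact absurd e (key r hr s h)

theorem coInjG2 : band (checkInj 2 12 corG2) (checkInj 2 12 carG2) = true := by decide +kernel
theorem coInjB2 : band (checkInj 2 8 corB2) (checkInj 2 8 carB2) = true := by decide +kernel
theorem coInjD4 : band (checkInj 4 24 corD4) (checkInj 4 24 carD4) = true := by decide +kernel
theorem coInjF4 : band (checkInj 4 48 corF4) (checkInj 4 48 carF4) = true := by decide +kernel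
theorem coInjE6 : band (checkInj 6 72 corE6) (checkInj 6 72 carE6) = true := by decide +kernel
theorem coInjE7 : band (checkInj 7 126 corE7) (checkInj 7 126 carE7) = true := by decide +kernel
theorem coInjE8 : band (checkInj 8 240 corE8) (checkInj 8 240 carE8) = true := by decide +kernel

theorem inj_of {wd md : ℕ} {rows : List ℕ} {cor car : ℕ → ℕ} (hL : checkLink D wd md rows cor car = true)
    (h : band (checkInj D.rank D.nroots cor) (checkInj D.rank D.nroots car) = true) :
    (∀ r < D.nroots, ∀ s < D.nroots, (∀ j < D.rank, co D r j = co D s j) → r = s) ∧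
      ∀ r < D.nroots, ∀ s < D.nroots, (∀ j < D.rank, D.cartan j r = D.cartan j s) → r = s :=
  ⟨checkInj_sound (band_iff.1 h).1 (checkLink_sound hL).fast.cor,
    checkInj_sound (f := fun r j => D.cartan j r) (band_iff.1 h).2 (checkLink_sound hL).car⟩

theorem co_cartan_inj (hD : D ∈ [chevG2, chevB2, chevD4, chevF4, chevE6, chevE7, chevE8]) :
    (∀ r < D.nroots, ∀ s < D.nroots, (∀ j < D.rank, co D r j = co D s j) → r = s) ∧
      ∀ r < D.nroots, ∀ s < D.nroots, (∀ j < D.rank, D.cartan j r = D.cartan j s) → r = s := by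
  simp only [List.mem_cons, List.not_mem_nil, or_false] at hD
  rcases hD with rfl | rfl | rfl | rfl | rfl | rfl | rfl
  exacts [inj_of linkG2 coInjG2, inj_of linkB2 coInjB2, inj_of linkD4 coInjD4, inj_of linkF4 coInjF4,
    inj_of linkE6 coInjE6, inj_of linkE7 coInjE7, inj_of linkE8 coInjE8]

/-- a root is determined by its coroot -/
theorem co_inj (hD : D ∈ [chevG2, chevB2, chevD4, chevF4, chevE6, chevE7, chevE8]) :
    ∀ r < D.nroots, ∀ s < D.nroots, (∀ j < D.rank, co D r j = co D s j) → r = s := (co_cartan_inj hD).1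

/-- a root is determined by its Cartan integers -/
theorem cartan_inj (hD : D ∈ [chevG2, chevB2, chevD4, chevF4, chevE6, chevE7, chevE8]) :
    ∀ r < D.nroots, ∀ s < D.nroots, (∀ j < D.rank, D.cartan j r = D.cartan j s) → r = s := (co_cartan_inj hD).2

end Cfsg.Agent.H37
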