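import Cfsg.Agent.H37.InvChev
import Cfsg.Agent.H37.OutCard

/-! The classes of involutions of the Chevalley group of type F4 in characteristic two. -/

set_option autoImplicit false
set_option maxRecDepth 100000

namespace Cfsg.Agent.H37

open Cfsg.Lie Cfsg.Agent.H34

/-- the fast tables of type F4 -/
noncomputable def tabF4 : Tab chevF4 := mkTab chevF4 24 16777216 rowsF4 corF4 carF4 reflF4 [44, 47] linkF4 reflChkF4

theorem orthOKF4 : OrthOK chevF4 := by decide +kernel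

def stF4 : List (List ℕ × List ℕ × List (ℕ × List ℕ × List ℕ × List ℕ × List ℕ)) := [
  ([], [0, 1, 2, 3], [(44, [], [44], [], [44]),
    (47, [], [47], [], [47])]),
  ([47], [0, 1, 2], [(37, [], [47, 37], [], [47, 37]),
    (41, [18], [47, 44], [], [47, 44])]),
  ([44], [1, 2, 3], [(29, [6], [47, 44], [], [47, 44]),
    (32, [], [32, 44], [3, 2, 1, 0], [47, 37])]),
  ([47, 44], [1, 2], [(28, [42, 23], [47, 28], [1, 0], [47, 37]),
    (30, [36, 14], [30, 44], [3, 2, 1, 2, 3, 0], [47, 37])]),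
  ([47, 37], [0, 2], [(25, [26, 23, 9], [47, 37], [], [47, 37]),
    (33, [36, 18, 17], [47, 37], [], [47, 37])])]

theorem closedF4 : tabF4.Closed 15 stF4 := by decide +kernel

theorem repsF4 : tabF4.Reps (stF4.map Prod.fst) [
    ([47], [], [47], [], [47]),
    ([44], [], [44], [], [44]),
    ([47, 44], [], [47, 44], [], [47, 44]),
    ([47, 37], [], [37, 47], [1, 0, 0, 1, 2, 3], [39, 45])]
    [[47], [44], [47, 44], [39, 45]] := by decide +kernel

theorem sepF4_01 : tabF4.Move [44] [] [44] [1, 2, 1, 3, 2, 1, 0] [33] ∧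
    tabF4.Sep [16, 30, 42, 22] [47] [33] 11 [0, 1, 2, 3] [47] [0] [4] := by
  decide +kernel

theorem sepF4_02 : tabF4.Move [47, 44] [] [47, 44] [0, 3, 2, 1, 2, 3, 2, 1, 0] [30, 27] ∧
    tabF4.Sep [16, 30, 42, 22] [47] [30, 27] 11 [0, 1, 2, 3] [47] [1] [2] := by
  decide +kernel

theorem sepF4_03 : tabF4.Move [39, 45] [] [39, 45] [1, 2, 1, 3, 2, 1, 0, 2, 1, 2, 0, 1] [33, 25] ∧
    tabF4.Sep [16, 30, 42, 22] [47] [33, 25] 11 [0, 1, 2, 3] [47] [0, 2] [] := by
  decide +kernel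

theorem sepF4_13 : tabF4.Move [39, 45] [] [39, 45] [1, 2, 1, 3, 2, 1, 0, 2, 1, 2, 0, 1] [33, 25] ∧
    tabF4.Sep [16, 30, 42, 22] [44] [33, 25] 8 [0, 1, 2, 3] [44, 45, 46, 47] [0, 2] [] := by
  decide +kernel

theorem sepF4_23 : tabF4.Move [39, 45] [] [39, 45] [1, 2, 1, 3, 2, 1, 0, 2, 1, 2, 0, 1] [33, 25] ∧
    tabF4.Sep [16, 30, 42, 22] [47, 44] [33, 25] 8 [0, 1, 2, 3] [44, 45, 46, 47] [0, 2] [] := by
  decide +kernel

variable {F : Type*} [Field F] [CharP F 2]

theorem sepF4_12 [Finite F] (C : Cert chevF4) : ¬ IsConj (xl C F [44]) (xl C F [47, 44]) := fun h => by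
  obtain ⟨γ, -, hγ⟩ := exists_excF4 (F := F) C
  have h1 : ∀ L : List ℕ, (∀ r ∈ L, r < chevF4.nroots) → γ.toMonoidHom (xl C F L) = xl C F (L.map (nthN rhoF4)) :=
    fun L hL => map_xl _ _ fun r hr => (hγ r (hL r hr) 1).trans (by rw [one_pow]; rfl)
  have h2 := γ.toMonoidHom.map_isConj h
  rw [h1 _ (by decide +kernel), h1 _ (by decide +kernel), show [44].map (nthN rhoF4) = [47] by decide +kernel,
    show [47, 44].map (nthN rhoF4) = [44, 47] by decide +kernel,
    tabF4.xl_eq (L := [44, 47]) (R := [47, 44]) (by decide +kernel)] at h2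
  exact Tab.Sep.not_isConj' orthOKF4 _ sepF4_02 h2

theorem invF4_conj [Finite F] (C : Cert chevF4) (t : chevF4.group F) (ht : t * t = 1) (h1 : t ≠ 1) :
    ∃ Y ∈ [[47], [44], [47, 44], [39, 45]], IsConj t (xl C F Y) :=
  Tab.Reps.exists_isConj orthOKF4 _ closedF4 repsF4 t ht h1

theorem invF4_sep [Finite F] (C : Cert chevF4) :
    [[47], [44], [47, 44], [39, 45]].Pairwise fun a b => ¬ IsConj (xl C F a) (xl C F b) := by
  simp only [List.pairwise_cons, List.forall_mem_cons, List.not_mem_nil, IsEmpty.forall_iff, implies_true, and_true,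
    List.Pairwise.nil]
  exact ⟨⟨Tab.Sep.not_isConj' orthOKF4 _ sepF4_01,
      Tab.Sep.not_isConj' orthOKF4 _ sepF4_02,
      Tab.Sep.not_isConj' orthOKF4 _ sepF4_03⟩,
    ⟨sepF4_12 C,
      Tab.Sep.not_isConj' orthOKF4 _ sepF4_13⟩,
    Tab.Sep.not_isConj' orthOKF4 _ sepF4_23⟩

end Cfsg.Agent.H37
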