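import Cfsg.Agent.H1.SpD
import Cfsg.Agent.H27.AltCard

/-! Project SP4, piece SYL: the Sylow subgroup of `Sp₄(q)` in the defining characteristic. -/

set_option autoImplicit false

universe u

namespace Cfsg.Agent.H37.SpS

open Cfsg.Agent.H1.SP Subgroup Matrix

variable {K : Type u} [Field K]

theorem card_U : Nat.card (U K) = Nat.card K ^ 4 := by
  rw [Nat.card_congr (⟨fun x => (x.t, x.u, x.v, x.w), fun x => ⟨x.1, x.2.1, x.2.2.1, x.2.2.2⟩,
    fun _ => rfl, fun _ => rfl⟩ : U K ≃ K × K × K × K)]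
  simp only [Nat.card_prod]; ring

/-- the matrix -/
def mat (x : U K) : Matrix (Fin 2 ⊕ Fin 2) (Fin 2 ⊕ Fin 2) K :=
  fromBlocks !![1, x.t; 0, 1] !![x.w - x.t * x.v, x.v; x.v - x.t * x.u, x.u] 0 !![1, 0; -x.t, 1]

/-- the embedding -/
def toSp : U K →* symplecticGroup (Fin 2) K :=
  MonoidHom.mk' (fun x => ⟨mat x, by
    rw [SymplecticGroup.mem_iff]
    ext (i | i) (j | j) <;> fin_cases i <;> fin_cases j <;>
      simp [mat, J, fromBlocks_multiply, fromBlocks_transpose, mul_apply] <;> ring⟩)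
    fun x y => Subtype.ext (by
      show mat _ = mat x * mat y
      ext (i | i) (j | j) <;> fin_cases i <;> fin_cases j <;>
        simp [mat, fromBlocks_multiply] <;> ring)

theorem toSp_inj : Function.Injective (toSp (K := K)) := (injective_iff_map_eq_one _).2 fun x e => by
  have h : mat x = 1 := congrArg Subtype.val e
  have h1 := congrFun₂ h (.inl 0) (.inl 1)
  have h2 := congrFun₂ h (.inl 1) (.inr 1)
  have h3 := congrFun₂ h (.inl 0) (.inr 1)
  have h4 := congrFun₂ h (.inl 0) (.inr 0)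
  simp [mat] at h1 h2 h3 h4
  exact U.ext h1 h2 h3 (by simpa [h1] using h4)

/-- **SYL** -/
theorem syl : SylStmt.{u} := by
  intro K _ _ p hp _
  obtain ⟨f, -, hq⟩ := FiniteField.card K p
  have hc : Nat.card (U K) = p ^ (f * 4 : ℕ) := by rw [card_U, Nat.card_eq_fintype_card, hq, pow_mul]
  have hP : IsPGroup p (U K) := .of_card hc
  refine ⟨hP, fun T => ?_⟩
  have e := MonoidHom.ofInjective (toSp_inj (K := K))
  refine ⟨e.trans (Sylow.equiv ((hP.of_equiv e).toSylow fun h => ?_) T)⟩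
  have h1 := (toSp (K := K)).range.card_mul_index
  rw [← Nat.card_congr e.toEquiv, card_U, H27.card_sp, H27.spOrder, Nat.card_eq_fintype_card,
    Fintype.card_fin] at h1
  rw [Nat.eq_of_mul_eq_mul_left (pow_pos Fintype.card_pos 4) h1] at h
  obtain ⟨i, -, h⟩ := (Prime.dvd_finsetProd_iff hp.out.prime _).1 h
  exact hp.out.one_lt.ne' (Nat.dvd_one.1 ((Nat.dvd_sub_iff_right (Nat.one_le_pow _ _ Fintype.card_pos)
    (dvd_pow (hq ▸ dvd_pow_self p f.ne_zero) (by omega))).1 h))

end Cfsg.Agent.H37.SpS
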