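import Cfsg.Agent.H37.InvChev

/-! The classes of involutions of the Chevalley group of type E7 in characteristic two. -/

set_option autoImplicit false
set_option maxRecDepth 100000

namespace Cfsg.Agent.H37

open Cfsg.Lie Cfsg.Agent.H34

/-- the fast tables of type E7 -/
noncomputable def tabE7 : Tab chevE7 := mkTab chevE7 12 4096 rowsE7 corE7 carE7 reflE7 [125] linkE7 reflChkE7

theorem orthOKE7 : OrthOK chevE7 := tabE7.orthOK (by decide +kernel)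

def stE7 : List (List ℕ × List ℕ × List (ℕ × List ℕ × List ℕ × List ℕ × List ℕ)) := [
  ([], [0, 1, 2, 3, 4, 5, 6], [(125, [], [125], [], [125])]),
  ([125], [1, 2, 3, 4, 5, 6], [(92, [], [125, 92], [], [125, 92])]),
  ([125, 92], [1, 2, 3, 4, 6], [(63, [], [125, 92, 63], [], [125, 92, 63]),
    (87, [], [125, 92, 87], [], [125, 92, 87])]),
  ([125, 92, 63], [1, 2, 3, 4], [(87, [], [125, 92, 63, 87], [], [125, 92, 63, 87])]),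
  ([125, 92, 87], [1, 2, 4, 6], [(63, [], [63, 92, 125, 87], [5, 4, 3, 2, 1, 3, 4, 5, 0, 2, 3, 4, 5, 1, 3, 4, 2, 3, 0, 2, 1, 3, 4, 5], [125, 92, 63, 87]),
    (66, [], [66, 87, 125, 92], [5, 4, 3, 2, 1, 3, 4, 5, 0, 2, 3, 4, 5, 6, 1, 3, 4, 5, 2, 3, 0, 2, 1, 3], [125, 92, 63, 87]),
    (73, [94, 32, 22, 17], [87, 92, 125], [5, 6, 4, 5, 0, 2, 3, 4, 5, 6, 1, 3, 4, 5, 2, 0], [125, 92, 87]),
    (78, [], [78, 87, 92, 125], [5, 6, 4, 5, 3, 2, 1, 3, 0, 2, 3, 4, 5, 6, 1, 3, 4, 5, 2, 3, 4, 0, 2, 3], [125, 92, 63, 87])]),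
  ([125, 92, 63, 87], [1, 2, 4], [(66, [65, 61, 58, 37], [66, 87, 125, 92], [5, 4, 3, 2, 1, 3, 4, 5, 0, 2, 3, 4, 5, 6, 1, 3, 4, 5, 2, 3, 0, 2, 1, 3], [125, 92, 63, 87]),
    (73, [94, 32, 22, 17], [63, 92, 125, 87], [5, 4, 3, 2, 1, 3, 4, 5, 0, 2, 3, 4, 5, 1, 3, 4, 2, 3, 0, 2, 1, 3, 4, 5], [125, 92, 63, 87]),
    (78, [98, 28, 24, 10], [78, 87, 92, 125], [5, 6, 4, 5, 3, 2, 1, 3, 0, 2, 3, 4, 5, 6, 1, 3, 4, 5, 2, 3, 4, 0, 2, 3], [125, 92, 63, 87])])]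

theorem closedE7 : tabE7.Closed 33 stE7 := by decide +kernel

theorem repsE7 : tabE7.Reps (stE7.map Prod.fst) [
    ([125], [], [125], [], [125]),
    ([125, 92], [], [125, 92], [1, 3, 2, 0], [118, 121]),
    ([125, 92, 63], [], [125, 92, 63], [0, 2, 3, 1, 4, 3, 2, 0, 2, 3, 4, 5], [92, 107, 111]),
    ([125, 92, 87], [], [125, 92, 87], [3, 1, 4, 3, 2, 0, 4, 5], [114, 116, 119]),
    ([125, 92, 63, 87], [], [125, 92, 63, 87], [0, 2, 3, 1, 4, 3, 2, 0, 2, 3, 4, 5, 2, 3], [92, 107, 111, 112])]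
    [[125], [118, 121], [114, 116, 119], [92, 107, 111], [92, 107, 111, 112]] := by decide +kernel

theorem sepE7_01 : tabE7.Move [118, 121] [] [118, 121] [2, 3, 1, 4, 3, 2, 5, 4, 3, 1, 6, 5, 4, 3, 2, 0, 5, 4, 3, 1, 2, 3, 4, 5, 0, 2, 3, 1] [93, 78] ∧
    tabE7.Sep [34, 49, 66, 96, 75, 52, 27] [125] [93, 78] 17 [0, 1, 2, 3, 4, 5, 6] [125] [0, 1] [] := by
  decide +kernel

theorem sepE7_02 : tabE7.Move [114, 116, 119] [] [114, 116, 119] [2, 3, 1, 4, 3, 2, 5, 4, 3, 1, 6, 5, 4, 3, 2, 0, 5, 4, 3, 1, 2, 3, 4, 5, 3, 1, 2, 3, 5, 4, 0, 2, 3, 4, 1, 3] [93, 78, 66] ∧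
    tabE7.Sep [34, 49, 66, 96, 75, 52, 27] [125] [93, 78, 66] 17 [0, 1, 2, 3, 4, 5, 6] [125] [0, 1] [] := by
  decide +kernel

theorem sepE7_03 : tabE7.Move [92, 107, 111] [] [92, 107, 111] [3, 2, 0, 4, 3, 2, 5, 4, 3, 1, 6, 5, 4, 3, 2, 0, 3, 1, 4, 3, 5, 4, 6, 5, 5, 4, 3, 2, 0, 2, 3, 4, 1, 3, 2, 0] [78, 66, 63] ∧
    tabE7.Sep [34, 49, 66, 96, 75, 52, 27] [125] [78, 66, 63] 17 [0, 1, 2, 3, 4, 5, 6] [125] [1, 4] [] := by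
  decide +kernel

theorem sepE7_04 : tabE7.Move [92, 107, 111, 112] [] [92, 107, 111, 112] [3, 2, 0, 4, 3, 2, 5, 4, 3, 1, 6, 5, 4, 3, 2, 0, 3, 1, 4, 3, 5, 4, 6, 5, 1, 2, 4, 3, 3, 2, 5, 4, 3, 2, 0, 2, 3, 4, 1, 3, 2, 0] [78, 66, 63, 93] ∧
    tabE7.Sep [34, 49, 66, 96, 75, 52, 27] [125] [78, 66, 63, 93] 17 [0, 1, 2, 3, 4, 5, 6] [125] [0, 1] [] := by
  decide +kernel

theorem sepE7_12 : tabE7.Move [114, 116, 119] [] [114, 116, 119] [2, 3, 1, 4, 3, 2, 5, 4, 3, 1, 6, 5, 4, 3, 2, 0, 5, 4, 3, 1, 2, 3, 4, 5, 3, 1, 2, 3, 5, 4, 0, 2, 3, 4, 1, 3] [93, 78, 66] ∧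
    tabE7.Sep [34, 49, 66, 96, 75, 52, 27] [118, 121] [93, 78, 66] 13 [0, 1, 2, 3, 4, 5, 6] [118, 121, 122, 123, 124, 125] [0, 1, 4] [] := by
  decide +kernel

theorem sepE7_13 : tabE7.Move [92, 107, 111] [] [92, 107, 111] [3, 2, 0, 4, 3, 2, 5, 4, 3, 1, 6, 5, 4, 3, 2, 0, 3, 1, 4, 3, 5, 4, 6, 5, 5, 4, 3, 2, 0, 2, 3, 4, 1, 3, 2, 0] [78, 66, 63] ∧
    tabE7.Sep [34, 49, 66, 96, 75, 52, 27] [118, 121] [78, 66, 63] 13 [0, 1, 2, 3, 4, 5, 6] [118, 121, 122, 123, 124, 125] [1, 4, 6] [] := by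
  decide +kernel

theorem sepE7_14 : tabE7.Move [92, 107, 111, 112] [] [92, 107, 111, 112] [3, 2, 0, 4, 3, 2, 5, 4, 3, 1, 6, 5, 4, 3, 2, 0, 3, 1, 4, 3, 5, 4, 6, 5, 1, 2, 4, 3, 3, 2, 5, 4, 3, 2, 0, 2, 3, 4, 1, 3, 2, 0] [78, 66, 63, 93] ∧
    tabE7.Sep [34, 49, 66, 96, 75, 52, 27] [118, 121] [78, 66, 63, 93] 13 [0, 1, 2, 3, 4, 5, 6] [118, 121, 122, 123, 124, 125] [0, 1, 4] [] := by
  decide +kernel

theorem sepE7_23 : tabE7.Move [92, 107, 111] [] [92, 107, 111] [3, 2, 0, 4, 3, 2, 5, 4, 3, 1, 6, 5, 4, 3, 2, 0, 3, 1, 4, 3, 5, 4, 6, 5, 5, 4, 3, 2, 0, 2, 3, 4, 1, 3, 2, 0] [78, 66, 63] ∧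
    tabE7.Sep [34, 49, 66, 96, 75, 52, 27] [114, 116, 119] [78, 66, 63] 11 [0, 1, 2, 3, 4, 5, 6] [114, 116, 117, 118, 119, 120, 121, 122, 123, 124, 125] [1, 4, 6] [0, 1] := by
  decide +kernel

theorem sepE7_24 : tabE7.Move [92, 107, 111, 112] [] [92, 107, 111, 112] [3, 2, 0, 4, 3, 2, 5, 4, 3, 1, 6, 5, 4, 3, 2, 0, 3, 1, 4, 3, 5, 4, 6, 5, 1, 2, 4, 3, 3, 2, 5, 4, 3, 2, 0, 2, 3, 4, 1, 3, 2, 0] [78, 66, 63, 93] ∧
    tabE7.Sep [34, 49, 66, 96, 75, 52, 27] [114, 116, 119] [78, 66, 63, 93] 11 [0, 1, 2, 3, 4, 5, 6] [114, 116, 117, 118, 119, 120, 121, 122, 123, 124, 125] [0, 1, 4, 6] [] := by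
  decide +kernel

theorem sepE7_34 : tabE7.Move [92, 107, 111, 112] [] [92, 107, 111, 112] [3, 2, 0, 4, 3, 2, 5, 4, 3, 1, 6, 5, 4, 3, 2, 0, 3, 1, 4, 3, 5, 4, 6, 5, 1, 2, 4, 3, 3, 2, 5, 4, 3, 2, 0, 2, 3, 4, 1, 3, 2, 0] [78, 66, 63, 93] ∧
    tabE7.Sep [34, 49, 66, 96, 75, 52, 27] [92, 107, 111] [78, 66, 63, 93] 9 [6] [92, 107, 108, 111, 113, 114, 116, 117, 118, 120, 121, 122, 123, 124, 125] [0, 1, 4, 6] [] := by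
  decide +kernel

variable {F : Type*} [Field F] [CharP F 2]

theorem invE7_conj [Finite F] (C : Cert chevE7) (t : chevE7.group F) (ht : t * t = 1) (h1 : t ≠ 1) :
    ∃ Y ∈ [[125], [118, 121], [114, 116, 119], [92, 107, 111], [92, 107, 111, 112]], IsConj t (xl C F Y) :=
  Tab.Reps.exists_isConj orthOKE7 _ closedE7 repsE7 t ht h1

theorem invE7_sep (C : Cert chevE7) :
    [[125], [118, 121], [114, 116, 119], [92, 107, 111], [92, 107, 111, 112]].Pairwise fun a b => ¬ IsConj (xl C F a) (xl C F b) := by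
  simp only [List.pairwise_cons, List.forall_mem_cons, List.not_mem_nil, IsEmpty.forall_iff, implies_true, and_true,
    List.Pairwise.nil]
  exact ⟨⟨Tab.Sep.not_isConj' orthOKE7 _ sepE7_01,
      Tab.Sep.not_isConj' orthOKE7 _ sepE7_02,
      Tab.Sep.not_isConj' orthOKE7 _ sepE7_03,
      Tab.Sep.not_isConj' orthOKE7 _ sepE7_04⟩,
    ⟨Tab.Sep.not_isConj' orthOKE7 _ sepE7_12,
      Tab.Sep.not_isConj' orthOKE7 _ sepE7_13,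
      Tab.Sep.not_isConj' orthOKE7 _ sepE7_14⟩,
    ⟨Tab.Sep.not_isConj' orthOKE7 _ sepE7_23,
      Tab.Sep.not_isConj' orthOKE7 _ sepE7_24⟩,
    Tab.Sep.not_isConj' orthOKE7 _ sepE7_34⟩

end Cfsg.Agent.H37
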