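import Cfsg.Agent.H37.InvChev

/-! The classes of involutions of the Chevalley group of type E8 in characteristic two. -/

set_option autoImplicit false
set_option maxRecDepth 100000

namespace Cfsg.Agent.H37

open Cfsg.Lie Cfsg.Agent.H34

/-- the fast tables of type E8 -/
noncomputable def tabE8 : Tab chevE8 := mkTab chevE8 12 4096 rowsE8 corE8 carE8 reflE8 [239] linkE8 reflChkE8

theorem orthOKE8 : OrthOK chevE8 := tabE8.orthOK (by decide +kernel)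

def stE8 : List (List ℕ × List ℕ × List (ℕ × List ℕ × List ℕ × List ℕ × List ℕ)) := [
  ([], [0, 1, 2, 3, 4, 5, 6, 7], [(239, [], [239], [], [239])]),
  ([239], [0, 1, 2, 3, 4, 5, 6], [(226, [], [239, 226], [], [239, 226])]),
  ([239, 226], [1, 2, 3, 4, 5, 6], [(159, [], [239, 226, 159], [], [239, 226, 159])]),
  ([239, 226, 159], [1, 2, 3, 4, 6], [(121, [122, 119, 79, 12], [159, 226, 239], [0, 2, 3, 4, 1, 3, 2, 0, 7, 6, 5, 4, 3, 2, 1, 3, 4, 5, 6, 7, 0, 2, 3, 4, 1, 3, 2, 0], [239, 226, 159]),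
    (152, [], [239, 226, 159, 152], [], [239, 226, 159, 152])]),
  ([239, 226, 159, 152], [1, 2, 4, 6], [(121, [122, 119, 79, 12], [152, 159, 226, 239], [5, 6, 4, 5, 0, 2, 3, 4, 5, 6, 1, 3, 4, 5, 2, 0, 7, 6, 5, 4, 3, 2, 1, 3, 4, 5, 6, 7, 0, 2, 3, 4, 5, 6, 1, 3, 4, 5, 2, 0], [239, 226, 159, 152]),
    (126, [129, 114, 84, 10], [152, 159, 226, 239], [5, 6, 4, 5, 0, 2, 3, 4, 5, 6, 1, 3, 4, 5, 2, 0, 7, 6, 5, 4, 3, 2, 1, 3, 4, 5, 6, 7, 0, 2, 3, 4, 5, 6, 1, 3, 4, 5, 2, 0], [239, 226, 159, 152]),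
    (135, [163, 77, 65, 58], [152, 159, 226, 239], [5, 6, 4, 5, 0, 2, 3, 4, 5, 6, 1, 3, 4, 5, 2, 0, 7, 6, 5, 4, 3, 2, 1, 3, 4, 5, 6, 7, 0, 2, 3, 4, 5, 6, 1, 3, 4, 5, 2, 0], [239, 226, 159, 152]),
    (141, [173, 71, 43, 36], [152, 159, 226, 239], [5, 6, 4, 5, 0, 2, 3, 4, 5, 6, 1, 3, 4, 5, 2, 0, 7, 6, 5, 4, 3, 2, 1, 3, 4, 5, 6, 7, 0, 2, 3, 4, 5, 6, 1, 3, 4, 5, 2, 0], [239, 226, 159, 152])])]

theorem moveE8_30 : tabE8.Move ([239, 226, 159] ++ [121]) [122, 119, 79, 12] [159, 226, 239]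
    [0, 2, 3, 4, 1, 3, 2, 0, 7, 6, 5, 4, 3, 2, 1, 3, 4, 5, 6, 7, 0, 2, 3, 4, 1, 3, 2, 0] [239, 226, 159] := by
  decide +kernel

theorem moveE8_40 : tabE8.Move ([239, 226, 159, 152] ++ [121]) [122, 119, 79, 12] [152, 159, 226, 239]
    [5, 6, 4, 5, 0, 2, 3, 4, 5, 6, 1, 3, 4, 5, 2, 0, 7, 6, 5, 4, 3, 2, 1, 3, 4, 5, 6, 7, 0, 2, 3, 4, 5, 6, 1, 3, 4, 5, 2, 0] [239, 226, 159, 152] := by
  decide +kernel

theorem moveE8_41 : tabE8.Move ([239, 226, 159, 152] ++ [126]) [129, 114, 84, 10] [152, 159, 226, 239]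
    [5, 6, 4, 5, 0, 2, 3, 4, 5, 6, 1, 3, 4, 5, 2, 0, 7, 6, 5, 4, 3, 2, 1, 3, 4, 5, 6, 7, 0, 2, 3, 4, 5, 6, 1, 3, 4, 5, 2, 0] [239, 226, 159, 152] := by
  decide +kernel

theorem moveE8_42 : tabE8.Move ([239, 226, 159, 152] ++ [135]) [163, 77, 65, 58] [152, 159, 226, 239]
    [5, 6, 4, 5, 0, 2, 3, 4, 5, 6, 1, 3, 4, 5, 2, 0, 7, 6, 5, 4, 3, 2, 1, 3, 4, 5, 6, 7, 0, 2, 3, 4, 5, 6, 1, 3, 4, 5, 2, 0] [239, 226, 159, 152] := by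
  decide +kernel

theorem moveE8_43 : tabE8.Move ([239, 226, 159, 152] ++ [141]) [173, 71, 43, 36] [152, 159, 226, 239]
    [5, 6, 4, 5, 0, 2, 3, 4, 5, 6, 1, 3, 4, 5, 2, 0, 7, 6, 5, 4, 3, 2, 1, 3, 4, 5, 6, 7, 0, 2, 3, 4, 5, 6, 1, 3, 4, 5, 2, 0] [239, 226, 159, 152] := by
  decide +kernel

theorem closedE8 : tabE8.Closed 57 stE8 := by
  simp only [Tab.Closed, stE8, List.forall_mem_cons, List.not_mem_nil, IsEmpty.forall_iff, implies_true, and_true]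
  exact ⟨⟨by decide +kernel, by decide +kernel, by decide +kernel, by decide +kernel⟩,
    ⟨by decide +kernel, by decide +kernel, by decide +kernel, by decide +kernel⟩,
    ⟨by decide +kernel, by decide +kernel, by decide +kernel, by decide +kernel⟩,
    ⟨by decide +kernel, by decide +kernel, by decide +kernel, ⟨by decide, moveE8_30⟩, by decide +kernel⟩,
    ⟨by decide +kernel, by decide +kernel, by decide +kernel, ⟨by decide, moveE8_40⟩, ⟨by decide, moveE8_41⟩, ⟨by decide, moveE8_42⟩, ⟨by decide, moveE8_43⟩⟩⟩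

theorem repsE8 : tabE8.Reps (stE8.map Prod.fst) [
    ([239], [], [239], [], [239]),
    ([239, 226], [], [239, 226], [1, 3, 4, 5, 6, 7], [232, 233]),
    ([239, 226, 159], [], [239, 226, 159], [5, 4, 3, 1, 2, 3, 4, 5, 6, 7, 4, 3, 2, 0], [228, 222, 218]),
    ([239, 226, 159, 152], [], [239, 226, 159, 152], [7, 6, 5, 4, 3, 1, 2, 3, 4, 5, 6, 7, 6, 5, 4, 3, 2, 0, 4, 5], [226, 220, 213, 216])]
    [[239], [232, 233], [228, 222, 218], [226, 220, 213, 216]] := by decide +kernel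

theorem sepE8_01 : tabE8.Move [232, 233] [] [232, 233] [2, 3, 1, 4, 3, 2, 5, 4, 3, 1, 6, 5, 4, 3, 2, 0, 7, 6, 5, 4, 3, 1, 2, 3, 4, 5, 6, 7, 5, 4, 3, 1, 2, 0, 3, 2, 4, 3, 1, 5, 4, 3, 2, 0, 7, 6, 5, 4, 3, 1] [162, 141] ∧
    tabE8.Sep [92, 136, 182, 270, 220, 168, 114, 58] [239] [162, 141] 29 [0, 1, 2, 3, 4, 5, 6, 7] [239] [0, 1] [] := by
  decide +kernel

theorem sepE8_02 : tabE8.Move [228, 222, 218] [] [228, 222, 218] [2, 3, 1, 4, 3, 2, 5, 4, 3, 1, 6, 5, 4, 3, 2, 0, 7, 6, 5, 4, 3, 1, 2, 3, 4, 5, 6, 7, 5, 4, 3, 1, 2, 0, 3, 2, 4, 3, 1, 5, 4, 3, 2, 0, 3, 2, 4, 3, 5, 4, 6, 5, 0, 2, 3, 4, 7, 6, 5, 4, 3, 2, 1, 3, 4, 5] [162, 141, 126] ∧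
    tabE8.Sep [92, 136, 182, 270, 220, 168, 114, 58] [239] [162, 141, 126] 29 [0, 1, 2, 3, 4, 5, 6, 7] [239] [0, 1] [] := by
  decide +kernel

theorem sepE8_03 : tabE8.Move [226, 220, 213, 216] [] [226, 220, 213, 216] [2, 3, 1, 4, 3, 2, 5, 4, 3, 1, 6, 5, 4, 3, 2, 0, 7, 6, 5, 4, 3, 1, 2, 3, 4, 5, 6, 7, 5, 4, 3, 1, 2, 0, 3, 2, 4, 3, 1, 5, 4, 3, 2, 0, 3, 2, 4, 3, 5, 4, 6, 5, 3, 1, 4, 3, 5, 4, 0, 2, 3, 4, 5, 6, 7, 6, 5, 4, 3, 2, 1, 3, 4, 5, 6, 7] [162, 141, 126, 121] ∧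
    tabE8.Sep [92, 136, 182, 270, 220, 168, 114, 58] [239] [162, 141, 126, 121] 29 [0, 1, 2, 3, 4, 5, 6, 7] [239] [0, 1] [] := by
  decide +kernel

theorem sepE8_12 : tabE8.Move [228, 222, 218] [] [228, 222, 218] [2, 3, 1, 4, 3, 2, 5, 4, 3, 1, 6, 5, 4, 3, 2, 0, 7, 6, 5, 4, 3, 1, 2, 3, 4, 5, 6, 7, 5, 4, 3, 1, 2, 0, 3, 2, 4, 3, 1, 5, 4, 3, 2, 0, 3, 2, 4, 3, 5, 4, 6, 5, 0, 2, 3, 4, 7, 6, 5, 4, 3, 2, 1, 3, 4, 5] [162, 141, 126] ∧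
    tabE8.Sep [92, 136, 182, 270, 220, 168, 114, 58] [232, 233] [162, 141, 126] 23 [0, 1, 2, 3, 4, 5, 6, 7] [232, 233, 234, 235, 236, 237, 238, 239] [0, 1, 4] [] := by
  decide +kernel

theorem sepE8_13 : tabE8.Move [226, 220, 213, 216] [] [226, 220, 213, 216] [2, 3, 1, 4, 3, 2, 5, 4, 3, 1, 6, 5, 4, 3, 2, 0, 7, 6, 5, 4, 3, 1, 2, 3, 4, 5, 6, 7, 5, 4, 3, 1, 2, 0, 3, 2, 4, 3, 1, 5, 4, 3, 2, 0, 3, 2, 4, 3, 5, 4, 6, 5, 3, 1, 4, 3, 5, 4, 0, 2, 3, 4, 5, 6, 7, 6, 5, 4, 3, 2, 1, 3, 4, 5, 6, 7] [162, 141, 126, 121] ∧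
    tabE8.Sep [92, 136, 182, 270, 220, 168, 114, 58] [232, 233] [162, 141, 126, 121] 23 [0, 1, 2, 3, 4, 5, 6, 7] [232, 233, 234, 235, 236, 237, 238, 239] [0, 1, 4] [] := by
  decide +kernel

theorem sepE8_23 : tabE8.Move [226, 220, 213, 216] [] [226, 220, 213, 216] [2, 3, 1, 4, 3, 2, 5, 4, 3, 1, 6, 5, 4, 3, 2, 0, 7, 6, 5, 4, 3, 1, 2, 3, 4, 5, 6, 7, 5, 4, 3, 1, 2, 0, 3, 2, 4, 3, 1, 5, 4, 3, 2, 0, 3, 2, 4, 3, 5, 4, 6, 5, 3, 1, 4, 3, 5, 4, 0, 2, 3, 4, 5, 6, 7, 6, 5, 4, 3, 2, 1, 3, 4, 5, 6, 7] [162, 141, 126, 121] ∧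
    tabE8.Sep [92, 136, 182, 270, 220, 168, 114, 58] [228, 222, 218] [162, 141, 126, 121] 19 [0, 1, 2, 3, 4, 5, 6, 7] [218, 222, 223, 224, 225, 228, 229, 230, 231, 232, 233, 234, 235, 236, 237, 238, 239] [0, 1, 4, 6] [] := by
  decide +kernel

variable {F : Type*} [Field F] [CharP F 2]

theorem invE8_conj [Finite F] (C : Cert chevE8) (t : chevE8.group F) (ht : t * t = 1) (h1 : t ≠ 1) :
    ∃ Y ∈ [[239], [232, 233], [228, 222, 218], [226, 220, 213, 216]], IsConj t (xl C F Y) :=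
  Tab.Reps.exists_isConj orthOKE8 _ closedE8 repsE8 t ht h1

theorem invE8_sep (C : Cert chevE8) :
    [[239], [232, 233], [228, 222, 218], [226, 220, 213, 216]].Pairwise fun a b => ¬ IsConj (xl C F a) (xl C F b) := by
  simp only [List.pairwise_cons, List.forall_mem_cons, List.not_mem_nil, IsEmpty.forall_iff, implies_true, and_true,
    List.Pairwise.nil]
  exact ⟨⟨Tab.Sep.not_isConj' orthOKE8 _ sepE8_01,
      Tab.Sep.not_isConj' orthOKE8 _ sepE8_02,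
      Tab.Sep.not_isConj' orthOKE8 _ sepE8_03⟩,
    ⟨Tab.Sep.not_isConj' orthOKE8 _ sepE8_12,
      Tab.Sep.not_isConj' orthOKE8 _ sepE8_13⟩,
    Tab.Sep.not_isConj' orthOKE8 _ sepE8_23⟩

end Cfsg.Agent.H37
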