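import Cfsg.Agent.H37.FkDefs

/-!
# S5161: small tools
-/

set_option autoImplicit false

namespace Cfsg.Agent.H37.FK

open Cfsg Subgroup
open scoped Pointwise

variable {K : Type*} [Group K] {K' : Type*} [Group K']

theorem Two.one : Two (1 : K) := ⟨0, by simp⟩

theorem Two.of_sq {x : K} (h : x * x = 1) : Two x := ⟨1, by simpa [sq] using h⟩

theorem Two.conj {x : K} (h : Two x) (g : K) : Two (g * x * g⁻¹) := by
  obtain ⟨k, hk⟩ := h
  exact ⟨k, by rw [conj_pow, hk]; simp⟩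

theorem Two.inv {x : K} (h : Two x) : Two x⁻¹ := by
  obtain ⟨k, hk⟩ := h
  exact ⟨k, by rw [inv_pow, hk, inv_one]⟩

theorem Two.map {x : K} (h : Two x) (f : K →* K') : Two (f x) := by
  obtain ⟨k, hk⟩ := h
  exact ⟨k, by rw [← map_pow, hk, map_one]⟩

theorem Two.of_mem {P : Subgroup K} (hP : IsPGroup 2 P) {x : K} (hx : x ∈ P) : Two x := by
  obtain ⟨k, hk⟩ := hP ⟨x, hx⟩
  exact ⟨k, congrArg Subtype.val hk⟩

theorem isPGroup_of_two {P : Subgroup K} (h : ∀ x ∈ P, Two x) : IsPGroup 2 P := fun x => by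
  obtain ⟨k, hk⟩ := h x x.2
  exact ⟨k, Subtype.ext hk⟩

theorem Two.zpowers {x : K} (h : Two x) : IsPGroup 2 (zpowers x) := by
  obtain ⟨k, hk⟩ := h
  refine isPGroup_of_two ?_
  rintro _ ⟨n, rfl⟩
  exact ⟨k, by rw [← zpow_natCast, ← zpow_mul, mul_comm, zpow_mul, zpow_natCast, hk, one_zpow]⟩

theorem Two.eq_one {x : K} (h : Two x) (ho : Odd (orderOf x)) : x = 1 := by
  obtain ⟨k, hk⟩ := h
  have h1 : orderOf x ∣ 2 ^ k := orderOf_dvd_of_pow_eq_one hk
  have h2 : (orderOf x).Coprime (2 ^ k) := (Nat.coprime_two_right.2 ho).pow_right k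
  exact orderOf_eq_one_iff.1 (Nat.Coprime.eq_one_of_dvd h2 h1)

theorem Two.mul_of_commute {x y : K} (hx : Two x) (hy : Two y) (h : Commute x y) :
    Two (x * y) := by
  obtain ⟨k, hk⟩ := hx
  obtain ⟨l, hl⟩ := hy
  exact ⟨k + l, by rw [h.mul_pow, pow_add, pow_mul, hk, one_pow, mul_comm (2 ^ k), pow_mul, hl,
    one_pow, one_mul]⟩

theorem isPGroup_sup_of_commute {x y : K} (hx : Two x) (hy : Two y) (h : Commute x y) :
    IsPGroup 2 (zpowers x ⊔ zpowers y : Subgroup K) := by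
  refine hx.zpowers.to_sup_of_normal_left' hy.zpowers (zpowers_le.2 ?_)
  refine centralizer_le_normalizer _ (mem_centralizer_iff.2 ?_)
  rintro _ ⟨n, rfl⟩
  exact (h.zpow_left n).eq

/-- two involutions with a product of 2-power order generate a 2-group -/
theorem isPGroup_dih [Finite K] {a b : K} (ha : a * a = 1) (hb : b * b = 1) (h : Two (a * b)) :
    IsPGroup 2 (zpowers (a * b) ⊔ zpowers a : Subgroup K) := by
  refine h.zpowers.to_sup_of_normal_left' (Two.of_sq ha).zpowers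
    (zpowers_le.2 (mem_normalizer_fintype fun x hx => ?_))
  obtain ⟨n, rfl⟩ := mem_zpowers_iff.1 hx
  have e : a * (a * b) * a⁻¹ = (a * b)⁻¹ := by
    rw [mul_inv_rev, inv_eq_of_mul_eq_one_right hb, inv_eq_of_mul_eq_one_right ha, ← mul_assoc, ha,
      one_mul]
  rw [← conj_zpow, e]
  exact zpow_mem (inv_mem (mem_zpowers _)) _

/-- a 2-subgroup is conjugate into a given Sylow subgroup -/
theorem exists_conj_sylow [Finite K] (S : Sylow 2 K) {P : Subgroup K} (hP : IsPGroup 2 P) :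
    ∃ g : K, ∀ x ∈ P, g * x * g⁻¹ ∈ (S : Subgroup K) := by
  obtain ⟨Q, hQ⟩ := hP.exists_le_sylow
  obtain ⟨g, hg⟩ := MulAction.exists_smul_eq K Q S
  refine ⟨g, fun x hx => ?_⟩
  rw [← hg, Sylow.coe_subgroup_smul]
  exact Subgroup.smul_mem_pointwise_smul x (MulAut.conj g) _ (hQ hx)

section XC

variable {N : Subgroup K} {X : Set K}

theorem XC.pow (h : XC N X) {x : K} (hx : x ∈ X) (n : ℕ) : x ^ n ∈ X := by
  induction n with
  | zero => simpa using h.one
  | succ n ih =>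
    rw [pow_succ]
    exact h.mul _ (h.two x hx).zpowers _ ih _ hx (pow_mem (mem_zpowers x) n) (mem_zpowers x)

theorem XC.inv (h : XC N X) {x : K} (hx : x ∈ X) : x⁻¹ ∈ X := by
  obtain ⟨k, hk⟩ := h.two x hx
  have : x⁻¹ = x ^ (2 ^ k - 1) := by
    rw [eq_comm, ← mul_eq_one_iff_eq_inv, ← pow_succ, Nat.sub_add_cancel Nat.one_le_two_pow, hk]
  rw [this]
  exact h.pow hx _

theorem XC.mul_comm (h : XC N X) {x y : K} (hx : x ∈ X) (hy : y ∈ X) (c : Commute x y) :
    x * y ∈ X :=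
  h.mul _ (isPGroup_sup_of_commute (h.two x hx) (h.two y hy) c) _ hx _ hy
    (mem_sup_left (mem_zpowers x)) (mem_sup_right (mem_zpowers y))

theorem XC.dih [Finite K] (h : XC N X) {a b : K} (ha : a ∈ X) (hb : b ∈ X) (a2 : a * a = 1)
    (b2 : b * b = 1) (t : Two (a * b)) : a * b ∈ X := by
  have h1 : a ∈ (zpowers (a * b) ⊔ zpowers a : Subgroup K) := mem_sup_right (mem_zpowers a)
  have h2 : a * b ∈ (zpowers (a * b) ⊔ zpowers a : Subgroup K) := mem_sup_left (mem_zpowers _)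
  refine h.mul _ (isPGroup_dih a2 b2 t) _ ha _ hb h1 ?_
  simpa using mul_mem (inv_mem h1) h2

theorem XC.conj' (h : XC N X) {x g : K} (hg : g ∈ N) (hx : g * x * g⁻¹ ∈ X) : x ∈ X := by
  simpa [mul_assoc] using h.conj _ hx _ (inv_mem hg)

/-- restriction to a subgroup -/
theorem XC.inter (h : XC N X) {D : Subgroup K} (hD : D ≤ N) : XC D (X ∩ D) where
  sub _ hx := hx.2
  two x hx := h.two x hx.1
  one := ⟨h.one, D.one_mem⟩
  conj x hx g hg := ⟨h.conj x hx.1 g (hD hg), D.mul_mem (D.mul_mem hg hx.2) (D.inv_mem hg)⟩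
  mul P hP x hx y hy h1 h2 := ⟨h.mul P hP x hx.1 y hy.1 h1 h2, D.mul_mem hx.2 hy.2⟩

/-- the part of `X` in a 2-subgroup -/
def XC.part (h : XC N X) (P : Subgroup K) (hP : IsPGroup 2 P) : Subgroup K where
  carrier := {x | x ∈ X ∧ x ∈ P}
  one_mem' := ⟨h.one, P.one_mem⟩
  mul_mem' {x y} hx hy := ⟨h.mul P hP x hx.1 y hy.1 hx.2 hy.2, P.mul_mem hx.2 hy.2⟩
  inv_mem' {_} hx := ⟨h.inv hx.1, P.inv_mem hx.2⟩

theorem XC.mem_part (h : XC N X) {P : Subgroup K} (hP : IsPGroup 2 P) {x : K} :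
    x ∈ h.part P hP ↔ x ∈ X ∧ x ∈ P := Iff.rfl

theorem XC.closure_sub (h : XC N X) {P : Subgroup K} (hP : IsPGroup 2 P) {A : Set K}
    (h1 : A ⊆ X) (h2 : A ⊆ P) : ∀ x ∈ closure A, x ∈ X := fun _ hx =>
  ((closure_le (h.part P hP)).2 (fun _ ha => ⟨h1 ha, h2 ha⟩) hx).1

theorem XC.sc (h : XC ⊤ X) (P : Subgroup K) (hP : IsPGroup 2 P) :
    IsStronglyClosed (h.part P hP) P :=
  ⟨fun _ hx => hx.2, fun x hx g hg => ⟨h.conj x hx.1 g trivial, hg⟩⟩

end XC

section SC

variable {S : Sylow 2 K} {T : Subgroup K}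

theorem mem_inX {x : K} (hx : x ∈ T) : x ∈ InX T := ⟨1, by simpa using hx⟩

theorem InX.mem {P : Subgroup K} (hT : IsStronglyClosed T P) {x : K} (h : x ∈ InX T)
    (hx : x ∈ P) : x ∈ T := by
  obtain ⟨k, hk⟩ := h
  simpa [mul_assoc] using hT.2 _ hk k⁻¹ (by simpa [mul_assoc] using hx)

theorem xc_inX [Finite K] (hT : IsStronglyClosed T (S : Subgroup K)) : XC ⊤ (InX T) where
  sub _ _ := trivial
  two x := fun ⟨h, hh⟩ => by
    simpa [mul_assoc] using (Two.of_mem S.isPGroup' (hT.1 hh)).conj h⁻¹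
  one := mem_inX T.one_mem
  conj x := fun ⟨k, hk⟩ g _ => ⟨k * g⁻¹, by simpa [mul_assoc] using hk⟩
  mul P hP x hx y hy h1 h2 := by
    obtain ⟨g, hg⟩ := exists_conj_sylow S hP
    refine ⟨g, ?_⟩
    rw [← conj_mul]
    obtain ⟨k, hk⟩ := hx
    obtain ⟨l, hl⟩ := hy
    exact mul_mem (InX.mem hT ⟨k * g⁻¹, by simpa [mul_assoc] using hk⟩ (hg x h1))
      (InX.mem hT ⟨l * g⁻¹, by simpa [mul_assoc] using hl⟩ (hg y h2))

theorem sc_normal {P : Subgroup K} (hT : IsStronglyClosed T P) {s x : K} (hs : s ∈ P)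
    (hx : x ∈ T) : s * x * s⁻¹ ∈ T :=
  hT.2 x hx s (P.mul_mem (P.mul_mem hs (hT.1 hx)) (P.inv_mem hs))

theorem nsc_of_xc [Finite K]
    (h : ∀ X : Set K, XC ⊤ X → (∃ x ∈ X, x ≠ 1) → ∀ x, Two x → x ∈ X) : NSC K := by
  intro S T hT
  by_cases h0 : T = ⊥
  · exact Or.inl h0
  obtain ⟨⟨x, hx⟩, h1⟩ := ne_bot_iff_exists_ne_one.1 h0
  refine Or.inr (le_antisymm hT.1 fun y hy => InX.mem hT (h _ (xc_inX hT)
    ⟨x, mem_inX hx, fun e => h1 (Subtype.ext e)⟩ y (Two.of_mem S.isPGroup' hy)) hy)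

theorem NSC.xc [Finite K] (h : NSC K) {X : Set K} (hX : XC ⊤ X) (h1 : ∃ x ∈ X, x ≠ 1) :
    ∀ x, Two x → x ∈ X := by
  obtain ⟨S⟩ : Nonempty (Sylow 2 K) := inferInstance
  obtain ⟨y, hy, y1⟩ := h1
  rcases h S _ (hX.sc S S.isPGroup') with e | e
  · obtain ⟨g, hg⟩ := exists_conj_sylow S (hX.two y hy).zpowers
    have : g * y * g⁻¹ ∈ hX.part S S.isPGroup' := ⟨hX.conj y hy g trivial, hg y (mem_zpowers y)⟩
    rw [e, mem_bot] at this
    exact absurd (by simpa using this) y1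
  · intro x hx
    obtain ⟨g, hg⟩ := exists_conj_sylow S hx.zpowers
    have := hg x (mem_zpowers x)
    rw [← e] at this
    exact hX.conj' trivial this.1

theorem nsc_of_one [Finite K] (S₀ : Sylow 2 K)
    (h : ∀ T, IsStronglyClosed T (S₀ : Subgroup K) → T ≠ ⊥ → (S₀ : Subgroup K) ≤ T) : NSC K := by
  refine nsc_of_xc fun X hX ⟨y, hy, y1⟩ x hx => ?_
  obtain ⟨g, hg⟩ := exists_conj_sylow S₀ (hX.two y hy).zpowers
  obtain ⟨k, hk⟩ := exists_conj_sylow S₀ hx.zpowers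
  refine hX.conj' trivial (h _ (hX.sc S₀ S₀.isPGroup') (fun e => ?_) (hk x (mem_zpowers x))).1
  have : g * y * g⁻¹ ∈ hX.part S₀ S₀.isPGroup' := ⟨hX.conj y hy g trivial, hg y (mem_zpowers y)⟩
  rw [e, mem_bot] at this
  exact absurd (by simpa using this) y1

end SC

/-- pulling back a class along a surjection whose kernel is a 2-group -/
theorem XC.comap {X : Set K'} (h : XC ⊤ X) (f : K →* K') (hk : IsPGroup 2 f.ker) :
    XC ⊤ (f ⁻¹' X) where
  sub _ _ := trivial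
  two x hx := by
    obtain ⟨k, e⟩ := h.two _ hx
    obtain ⟨l, e'⟩ := Two.of_mem hk (x := x ^ 2 ^ k) (by rw [MonoidHom.mem_ker, map_pow, e])
    exact ⟨k + l, by rw [pow_add, pow_mul, e']⟩
  one := by simpa using h.one
  conj x hx g _ := by simpa using h.conj _ hx (f g) trivial
  mul P hP x hx y hy h1 h2 := by
    simpa using h.mul _ (hP.map f) _ hx _ hy (mem_map_of_mem f h1) (mem_map_of_mem f h2)

theorem NSC.congr [Finite K] (h : NSC K') (e : K ≃* K') : NSC K := by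
  have : Finite K' := Finite.of_equiv _ e.toEquiv
  refine nsc_of_xc fun X hX ⟨y, hy, y1⟩ x hx => ?_
  have := h.xc (hX.comap e.symm.toMonoidHom (by
    rw [(MonoidHom.ker_eq_bot_iff _).2 e.symm.injective]; exact IsPGroup.of_bot))
    ⟨e y, by simpa using hy, by simpa using y1⟩ (e x) (hx.map e.toMonoidHom)
  simpa using this

theorem NAS.congr (h : NAS K') (e : K ≃* K') : NAS K := by
  have := h.1
  refine ⟨e.isSimpleGroup, fun hc => h.2 ⟨⟨fun a b => ?_⟩⟩⟩
  obtain ⟨a, rfl⟩ := e.surjective a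
  obtain ⟨b, rfl⟩ := e.surjective b
  rw [← map_mul, hc.1.1 a b, map_mul]

theorem HasD8.of_injective (h : HasD8 K) (f : K →* K') (hf : Function.Injective f) :
    HasD8 K' := by
  obtain ⟨a, b, ha, hb, t, hne⟩ := h
  refine ⟨f a, f b, by rw [← map_mul, ha, map_one], by rw [← map_mul, hb, map_one],
    by rw [← map_mul]; exact t.map f, fun e => hne (hf (by rw [map_mul, e, map_mul]))⟩

theorem NAS.index_ne_two (h : NAS K) (N : Subgroup K) : N.index ≠ 2 := fun e => by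
  have := h.1
  have := normal_of_index_eq_two e
  rcases IsSimpleGroup.eq_bot_or_eq_top_of_normal N inferInstance with rfl | rfl
  · rw [index_bot] at e
    have : Fact (Nat.Prime 2) := ⟨Nat.prime_two⟩
    have := isCyclic_of_prime_card e
    exact h.2 IsCyclic.isMulCommutative
  · simp at e

theorem ns_of_one [Finite K] (S₀ : Sylow 2 K)
    (h : ∀ g : K, (∀ x ∈ (S₀ : Subgroup K), g * x * g⁻¹ ∈ (S₀ : Subgroup K)) →
      Odd (orderOf g) → ∀ x ∈ (S₀ : Subgroup K), g * x * g⁻¹ = x) : NS K := by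
  intro S g hg ho x hx
  obtain ⟨k, rfl⟩ := MulAction.exists_smul_eq K S₀ S
  have key : ∀ y, y ∈ ((k • S₀ : Sylow 2 K) : Subgroup K) ↔ k⁻¹ * y * k ∈ (S₀ : Subgroup K) := by
    intro y
    rw [Sylow.coe_subgroup_smul, Subgroup.mem_pointwise_smul_iff_inv_smul_mem]
    simp [MulAut.smul_def]
  have h1 := h (k⁻¹ * g * k) (fun y hy => by
    have := (key _).1 (hg (k * y * k⁻¹) ((key _).2 (by simpa [mul_assoc] using hy)))
    simpa [mul_assoc] using this)
    (by
      have : orderOf (k⁻¹ * g * k) = orderOf g := by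
        simpa using (MulAut.conj k⁻¹).orderOf_eq g
      rwa [this]) _ ((key x).1 hx)
  have h2 := congrArg (fun y => k * y * k⁻¹) h1
  simpa [mul_assoc] using h2

theorem NS.ofp [Finite K] (h : NS K) : OFP K := by
  obtain ⟨S⟩ : Nonempty (Sylow 2 K) := inferInstance
  exact ⟨S, fun N hN g hg ho => hN.cent _ le_rfl g trivial (h S g hg ho)⟩

/-- `OFP` from one centric subgroup -/
theorem ofp_of_cent (S : Sylow 2 K) (R : Subgroup K) (hR : R ≤ S)
    (hc : ∀ x, (∀ y ∈ R, x * y * x⁻¹ = y) → Two x → x ∈ R)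
    (h : ∀ g : K, (∀ x ∈ (S : Subgroup K), g * x * g⁻¹ ∈ (S : Subgroup K)) → Odd (orderOf g) →
      g ∈ closure {x | (∀ y ∈ R, x * y * x⁻¹ ∈ R) ∧ Two x}) : OFP K :=
  ⟨S, fun N hN g hg ho => hN.extend R S hR le_rfl (fun x _ h1 h2 => hc x h1 h2) g
    ((closure_le (N R)).2 (fun x hx => hN.pElt R hR x trivial hx.1 hx.2) (h g hg ho)) hg⟩

theorem sylIn_of_sylow (S : Sylow 2 K) : H98.SylIn 2 (S : Subgroup K) ⊤ := H98.sylIn_top S

theorem Good.fsc [Finite K] (h : Good K) (he : 2 ∣ Nat.card K) : FSC K := by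
  intro R
  obtain ⟨S, hS⟩ := h.2
  refine Or.inl (H98.group_isSimple_of_good (sylIn_of_sylow S) (S.ne_bot_of_dvd_card he)
    (fun N hN g hg ho => hS N hN g hg (Nat.coprime_two_right.1 ho))
    (fun T hT h0 hc => ?_) R)
  exact ((h.1 S T ⟨hT, hc⟩).resolve_left h0).ge

/-- transport of a Sylow subgroup -/
theorem exists_sylow_equiv (e : K ≃* K') (S : Sylow 2 K') :
    ∃ R : Sylow 2 K, ∀ x, x ∈ (R : Subgroup K) ↔ e x ∈ (S : Subgroup K') :=
  ⟨S.comapOfInjective e.toMonoidHom e.injective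
    (by rw [MonoidHom.range_eq_top.2 e.surjective]; exact le_top), fun _ => Iff.rfl⟩

theorem NS.congr [Finite K] (h : NS K') (e : K ≃* K') : NS K := by
  intro S g hg ho x hx
  obtain ⟨R, hR⟩ := exists_sylow_equiv e.symm S
  have := h R (e g) (fun y hy => (hR _).2 (by simpa using hg _ ((hR y).1 hy)))
    (by rwa [e.orderOf_eq]) (e x) ((hR _).2 (by simpa using hx))
  exact e.injective (by simpa using this)

theorem OFP.congr (h : OFP K') (e : K ≃* K') : OFP K := by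
  obtain ⟨S, hS⟩ := h
  obtain ⟨R, hR⟩ := exists_sylow_equiv e S
  have hRS : (S : Subgroup K').comap e.toMonoidHom = R := Subgroup.ext fun x => (hR x).symm
  have hle : ∀ {P : Subgroup K'}, P ≤ S → P.comap e.toMonoidHom ≤ R := fun hP =>
    hRS ▸ comap_mono hP
  have key : ∀ (P Q : Subgroup K') (g : K'), (∀ x ∈ P, g * x * g⁻¹ ∈ Q) →
      ∀ x ∈ P.comap e.toMonoidHom, e.symm g * x * (e.symm g)⁻¹ ∈ Q.comap e.toMonoidHom :=
    fun P Q g h x hx => by simpa using h _ hx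
  refine ⟨R, fun N hN g hg ho => ?_⟩
  have := hS (fun P => (N (P.comap e.toMonoidHom)).comap e.symm.toMonoidHom) ?_ (e g)
    (fun y hy => by
      obtain ⟨y, rfl⟩ := e.surjective y
      simpa using (hR _).1 (hg y ((hR y).2 hy))) (by rwa [e.orderOf_eq])
  · rw [← hRS]
    simpa using this
  refine ⟨fun P hP g _ h => ?_, fun P hP g _ h ⟨k, hk⟩ => ?_, fun P Q hPQ g hg h => ?_,
    fun P Q hPQ hQ hc g hg h => ?_, fun P Q hP hQ k _ h g hg => ?_⟩
  · exact hN.cent _ (hle hP) _ trivial fun x hx => e.injective (by simpa using h _ hx)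
  · exact hN.pElt _ (hle hP) _ trivial (key P P g h)
      ⟨k, by show (e.symm g) ^ 2 ^ k = 1; rw [← map_pow, hk, map_one]⟩
  · exact hN.res _ _ (comap_mono hPQ) _ hg (key P P g h)
  · refine hN.extend _ _ (comap_mono hPQ) (hle hQ) (fun x _ hx ⟨k, hk⟩ => ?_) _ hg (key Q Q g h)
    refine hc (e x) trivial (fun y hy => ?_) ⟨k, by rw [← map_pow, hk, map_one]⟩
    obtain ⟨y, rfl⟩ := e.surjective y
    simpa using congrArg e (hx y hy)
  · have := hN.conj _ _ (hle hP) (hle hQ) (e.symm k) trivial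
      (fun x => by simpa using h (e x)) _ hg
    simpa using this

theorem Good.congr [Finite K] (h : Good K') (e : K ≃* K') : Good K := ⟨h.1.congr e, h.2.congr e⟩

theorem NSC2.congr (h : NSC2 K') (e : K ≃* K') : NSC2 K := by
  intro S T hT h0
  obtain ⟨R, hR⟩ := exists_sylow_equiv e.symm S
  have hRS : (S : Subgroup K).comap e.symm.toMonoidHom = R := Subgroup.ext fun x => (hR x).symm
  obtain ⟨h1, h2⟩ := h R (T.comap e.symm.toMonoidHom)
    ⟨hRS ▸ comap_mono hT.1, fun x hx g hg => by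
      simpa using hT.2 _ hx (e.symm g) (by simpa using (hR _).1 hg)⟩
    (fun e0 => h0 (eq_bot_iff.2 fun x hx => by
      have : e x ∈ T.comap e.symm.toMonoidHom := by simpa using hx
      rw [e0] at this
      simpa using this))
  refine ⟨?_, (closure_le _).2 fun g hg => ?_⟩
  · rw [← hRS, relIndex_comap, map_comap_eq_self_of_surjective e.symm.surjective] at h1
    exact h1
  · have h3 := h2 (subset_closure ⟨trivial, show Odd (orderOf (e g)) by
      rw [e.orderOf_eq]; exact hg.2⟩)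
    have h4 : normalClosure ((T.comap e.symm.toMonoidHom : Subgroup K') : Set K') ≤
        (normalClosure (T : Set K)).comap e.symm.toMonoidHom :=
      normalClosure_le_normal fun x hx => subset_normalClosure hx
    simpa using h4 h3

end Cfsg.Agent.H37.FK
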