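import Cfsg.Agent.H44.CkDefs

/-! `J₁` has at least twelve conjugacy classes: twelve prefixes of one word in the generators have
pairwise different traces of `g` and `g ^ 2`. -/

set_option autoImplicit false

namespace Cfsg.Agent.H37.CkJ1

open Cfsg.Spor Matrix

/-- the matrices of the prefixes -/
def A : ℕ → Matrix (Fin 7) (Fin 7) (ZMod 11)
  | 0 => !![1, 0, 0, 0, 0, 0, 0; 0, 1, 0, 0, 0, 0, 0; 0, 0, 1, 0, 0, 0, 0; 0, 0, 0, 1, 0, 0, 0; 0, 0, 0, 0, 1, 0, 0; 0, 0, 0, 0, 0, 1, 0; 0, 0, 0, 0, 0, 0, 1]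
  | 1 => !![8, 2, 10, 10, 8, 10, 8; 9, 1, 1, 3, 1, 3, 3; 10, 10, 8, 10, 8, 8, 2; 10, 8, 10, 8, 8, 2, 10; 8, 10, 8, 8, 2, 10, 10; 1, 3, 3, 9, 1, 1, 3; 3, 3, 9, 1, 1, 3, 1]
  | 2 => !![6, 2, 10, 10, 7, 3, 0; 9, 4, 8, 0, 3, 8, 8; 10, 3, 6, 10, 7, 0, 2; 10, 0, 10, 6, 7, 2, 3; 7, 8, 7, 7, 6, 8, 8; 8, 8, 0, 9, 3, 4, 8; 0, 8, 9, 8, 3, 8, 4]
  | 3 => !![6, 9, 10, 10, 7, 8, 0; 2, 4, 3, 0, 8, 8, 8; 10, 8, 6, 10, 7, 0, 9; 10, 0, 10, 6, 7, 9, 8; 7, 3, 7, 7, 6, 3, 3; 3, 8, 0, 2, 8, 4, 8; 0, 8, 2, 3, 8, 8, 4]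
  | 4 => !![0, 6, 9, 10, 10, 7, 8; 8, 2, 4, 3, 0, 8, 8; 9, 10, 8, 6, 10, 7, 0; 8, 10, 0, 10, 6, 7, 9; 3, 7, 3, 7, 7, 6, 3; 8, 3, 8, 0, 2, 8, 4; 4, 0, 8, 2, 3, 8, 8]
  | 5 => !![3, 2, 10, 9, 6, 10, 1; 8, 9, 9, 10, 6, 2, 8; 4, 2, 6, 6, 1, 6, 2; 6, 5, 10, 2, 6, 4, 9; 5, 9, 1, 8, 2, 9, 3; 9, 1, 3, 8, 4, 6, 5; 1, 6, 2, 9, 2, 5, 9]
  | 6 => !![7, 9, 3, 6, 3, 9, 0; 2, 10, 2, 10, 5, 10, 8; 3, 9, 7, 9, 8, 7, 8; 6, 1, 9, 9, 9, 8, 8; 3, 6, 8, 9, 5, 7, 1; 2, 10, 4, 3, 4, 7, 4; 0, 8, 3, 3, 10, 4, 10]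
  | 7 => !![7, 4, 5, 5, 9, 7, 8; 3, 9, 2, 2, 7, 5, 7; 8, 7, 1, 4, 5, 0, 0; 0, 5, 6, 3, 7, 0, 6; 1, 7, 7, 7, 8, 3, 0; 7, 8, 5, 4, 2, 4, 6; 4, 6, 2, 6, 2, 1, 6]
  | 8 => !![8, 7, 4, 5, 5, 9, 7; 7, 3, 9, 2, 2, 7, 5; 0, 8, 7, 1, 4, 5, 0; 6, 0, 5, 6, 3, 7, 0; 0, 1, 7, 7, 7, 8, 3; 6, 7, 8, 5, 4, 2, 4; 6, 4, 6, 2, 6, 2, 1]
  | 9 => !![7, 8, 7, 4, 5, 5, 9; 5, 7, 3, 9, 2, 2, 7; 0, 0, 8, 7, 1, 4, 5; 0, 6, 0, 5, 6, 3, 7; 3, 0, 1, 7, 7, 7, 8; 4, 6, 7, 8, 5, 4, 2; 1, 6, 4, 6, 2, 6, 2]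
  | 10 => !![2, 7, 2, 4, 0, 9, 10; 9, 1, 3, 5, 2, 2, 3; 1, 8, 1, 9, 10, 8, 3; 0, 4, 0, 8, 2, 2, 1; 4, 0, 4, 3, 7, 10, 8; 0, 7, 10, 6, 9, 3, 10; 3, 8, 6, 1, 7, 5, 2]
  | 11 => !![10, 2, 7, 2, 4, 0, 9; 3, 9, 1, 3, 5, 2, 2; 3, 1, 8, 1, 9, 10, 8; 1, 0, 4, 0, 8, 2, 2; 8, 4, 0, 4, 3, 7, 10; 10, 0, 7, 10, 6, 9, 3; 2, 3, 8, 6, 1, 7, 5]
  | 12 => !![5, 10, 5, 2, 6, 2, 4; 6, 1, 9, 8, 2, 8, 9; 9, 8, 4, 5, 1, 3, 5; 10, 2, 9, 2, 5, 9, 5; 3, 1, 6, 1, 2, 2, 1; 8, 2, 6, 8, 9, 1, 9; 4, 5, 1, 2, 2, 5, 5]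
  | 13 => !![4, 5, 10, 5, 2, 6, 2; 9, 6, 1, 9, 8, 2, 8; 5, 9, 8, 4, 5, 1, 3; 5, 10, 2, 9, 2, 5, 9; 1, 3, 1, 6, 1, 2, 2; 9, 8, 2, 6, 8, 9, 1; 5, 4, 5, 1, 2, 2, 5]
  | _ => !![2, 4, 5, 10, 5, 2, 6; 8, 9, 6, 1, 9, 8, 2; 3, 5, 9, 8, 4, 5, 1; 9, 5, 10, 2, 9, 2, 5; 2, 1, 3, 1, 6, 1, 2; 1, 9, 8, 2, 6, 8, 9; 5, 5, 4, 5, 1, 2, 2]

/-- the word -/
def w (n : ℕ) : Bool := [false, false, false, true, false, false, false, true, true, false, true, false, true, true].getD n true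

theorem step : ∀ n : Fin 14,
    A n * (if w n then Cfsg.jankoMatrixX else Cfsg.jankoMatrixY) = A (n + 1) := by
  decide +kernel

/-- the prefixes -/
def g : ℕ → J1
  | 0 => 1
  | n + 1 => g n * if w n then ⟨jankoX, Subgroup.subset_closure (by simp)⟩
      else ⟨jankoY, Subgroup.subset_closure (by simp)⟩

/-- the matrix of an element -/
def mat (x : J1) : Matrix (Fin 7) (Fin 7) (ZMod 11) := (x : GL (Fin 7) (ZMod 11))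

theorem mat_mul (x y : J1) : mat (x * y) = mat x * mat y := rfl

theorem mat_one : mat 1 = 1 := rfl

theorem mat_g : ∀ n ≤ 14, mat (g n) = A n
  | 0, _ => by rw [g, mat_one]; decide +kernel
  | n + 1, h => by
    rw [g, mat_mul, mat_g n (by omega), ← step ⟨n, h⟩]
    congr 1
    split_ifs <;> rfl

theorem trace_conj {x y : J1} (h : IsConj x y) : trace (mat x) = trace (mat y) := by
  obtain ⟨c, rfl⟩ := isConj_iff.1 h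
  rw [mat_mul, trace_mul_comm, mat_mul, ← mul_assoc, ← mat_mul, inv_mul_cancel, mat_one, one_mul]

/-- the selected prefixes -/
def idx : Fin 12 → Fin 15 := ![0, 1, 2, 4, 5, 6, 7, 8, 9, 10, 12, 14]

theorem sep : ∀ i j : Fin 12, trace (A (idx i)) = trace (A (idx j)) →
    trace (A (idx i) * A (idx i)) = trace (A (idx j) * A (idx j)) → i = j := by
  decide +kernel

theorem kJ1 : H44.CK.KJ1Stmt := by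
  have hi : Function.Injective fun i : Fin 12 => ConjClasses.mk (g (idx i)) := fun i j e => by
    have c := ConjClasses.mk_eq_mk_iff_isConj.1 e
    have h1 := trace_conj c
    have h2 := trace_conj (c.pow 2)
    rw [sq, sq, mat_mul, mat_mul] at h2
    rw [mat_g _ (Nat.le_of_lt_succ (idx i).2), mat_g _ (Nat.le_of_lt_succ (idx j).2)] at h1 h2
    exact sep i j h1 h2
  simpa [H44.CK.KJ1Stmt] using Nat.card_le_card_of_injective _ hi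

end Cfsg.Agent.H37.CkJ1
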