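import Cfsg.Prelude.Def_E6
import Cfsg.Agent.H37.RepInter

/-! The isometry group of the cubic form in 27 variables is generated by root elements. -/

set_option autoImplicit false
set_option maxRecDepth 100000

namespace Cfsg.Agent.H37

namespace Cubic

open Cfsg.Lie Matrix

/-- the coordinate with code `w` -/
def ix (w : ℕ) : I27 := (Fin.ofNat 3 (w / 9), Fin.ofNat 3 (w / 3), Fin.ofNat 3 w)

/-- the code of a coordinate -/
def cI (a : I27) : ℕ := 9 * a.1 + 3 * a.2.1 + a.2.2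

theorem codes : Codes 27 ix cI := ⟨by decide, by decide, by decide⟩

/-- the monomials of the cubic form -/
def tri : List (ℕ × ℕ × ℕ × ℤ) :=
    [(0, 4, 8, 1), (0, 5, 7, -1), (1, 3, 8, -1), (1, 5, 6, 1), (2, 3, 7, 1), (2, 4, 6, -1), (9, 13, 17, 1), (9, 14,
    16, -1), (10, 12, 17, -1), (10, 14, 15, 1), (11, 12, 16, 1), (11, 13, 15, -1), (18, 22, 26, 1), (18, 23, 25, -1),
    (19, 21, 26, -1), (19, 23, 24, 1), (20, 21, 25, 1), (20, 22, 24, -1), (0, 9, 18, -1), (0, 10, 21, -1), (0, 11,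
    24, -1), (1, 12, 18, -1), (1, 13, 21, -1), (1, 14, 24, -1), (2, 15, 18, -1), (2, 16, 21, -1), (2, 17, 24, -1),
    (3, 9, 19, -1), (3, 10, 22, -1), (3, 11, 25, -1), (4, 12, 19, -1), (4, 13, 22, -1), (4, 14, 25, -1), (5, 15, 19,
    -1), (5, 16, 22, -1), (5, 17, 25, -1), (6, 9, 20, -1), (6, 10, 23, -1), (6, 11, 26, -1), (7, 12, 20, -1), (7, 13,
    23, -1), (7, 14, 26, -1), (8, 15, 20, -1), (8, 16, 23, -1), (8, 17, 26, -1)]

/-- the monomials of the partial derivatives -/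
def prs : List (List (ℕ × ℕ × ℤ)) :=
    [[(4, 8, 1), (5, 7, -1), (9, 18, -1), (10, 21, -1), (11, 24, -1)], [(3, 8, -1), (5, 6, 1), (12, 18, -1), (13, 21,
    -1), (14, 24, -1)], [(3, 7, 1), (4, 6, -1), (15, 18, -1), (16, 21, -1), (17, 24, -1)], [(1, 8, -1), (2, 7, 1),
    (9, 19, -1), (10, 22, -1), (11, 25, -1)], [(0, 8, 1), (2, 6, -1), (12, 19, -1), (13, 22, -1), (14, 25, -1)], [(0,
    7, -1), (1, 6, 1), (15, 19, -1), (16, 22, -1), (17, 25, -1)], [(1, 5, 1), (2, 4, -1), (9, 20, -1), (10, 23, -1),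
    (11, 26, -1)], [(0, 5, -1), (2, 3, 1), (12, 20, -1), (13, 23, -1), (14, 26, -1)], [(0, 4, 1), (1, 3, -1), (15,
    20, -1), (16, 23, -1), (17, 26, -1)], [(13, 17, 1), (14, 16, -1), (0, 18, -1), (3, 19, -1), (6, 20, -1)], [(12,
    17, -1), (14, 15, 1), (0, 21, -1), (3, 22, -1), (6, 23, -1)], [(12, 16, 1), (13, 15, -1), (0, 24, -1), (3, 25,
    -1), (6, 26, -1)], [(10, 17, -1), (11, 16, 1), (1, 18, -1), (4, 19, -1), (7, 20, -1)], [(9, 17, 1), (11, 15, -1),
    (1, 21, -1), (4, 22, -1), (7, 23, -1)], [(9, 16, -1), (10, 15, 1), (1, 24, -1), (4, 25, -1), (7, 26, -1)], [(10,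
    14, 1), (11, 13, -1), (2, 18, -1), (5, 19, -1), (8, 20, -1)], [(9, 14, -1), (11, 12, 1), (2, 21, -1), (5, 22,
    -1), (8, 23, -1)], [(9, 13, 1), (10, 12, -1), (2, 24, -1), (5, 25, -1), (8, 26, -1)], [(22, 26, 1), (23, 25, -1),
    (0, 9, -1), (1, 12, -1), (2, 15, -1)], [(21, 26, -1), (23, 24, 1), (3, 9, -1), (4, 12, -1), (5, 15, -1)], [(21,
    25, 1), (22, 24, -1), (6, 9, -1), (7, 12, -1), (8, 15, -1)], [(19, 26, -1), (20, 25, 1), (0, 10, -1), (1, 13,
    -1), (2, 16, -1)], [(18, 26, 1), (20, 24, -1), (3, 10, -1), (4, 13, -1), (5, 16, -1)], [(18, 25, -1), (19, 24,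
    1), (6, 10, -1), (7, 13, -1), (8, 16, -1)], [(19, 23, 1), (20, 22, -1), (0, 11, -1), (1, 14, -1), (2, 17, -1)],
    [(18, 23, -1), (20, 21, 1), (3, 11, -1), (4, 14, -1), (5, 17, -1)], [(18, 22, 1), (19, 21, -1), (6, 11, -1), (7,
    14, -1), (8, 17, -1)]]

/-- the representation of the Lie algebra -/
def ths : List (List (ℕ × ℤ)) :=
    [[(0, -1), (28, -1), (56, -1), (168, 1), (196, 1), (224, 1), (504, 1), (560, -1), (588, 1), (644, -1), (672, 1),
    (728, -1)], [(0, -1), (112, 1), (140, 1), (168, -1), (280, 1), (308, 1), (336, -1), (420, -1), (504, 1), (560,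
    1), (616, -1), (700, -1)], [(0, 1), (84, 1), (196, -1), (224, -1), (252, -1), (280, -1), (392, 1), (476, 1),
    (560, 1), (644, 1), (672, -1), (700, -1)], [(252, 1), (308, -1), (336, 1), (392, -1), (420, 1), (476, -1), (504,
    -1), (532, -1), (560, -1), (672, 1), (700, 1), (728, 1)], [(56, 1), (84, -1), (112, -1), (224, 1), (308, 1),
    (392, 1), (420, -1), (448, -1), (532, 1), (616, 1), (672, -1), (728, -1)], [(28, 1), (56, -1), (112, 1), (140,
    -1), (196, 1), (224, -1), (336, -1), (364, -1), (392, -1), (420, 1), (448, 1), (476, 1)], [(23, 1), (183, -1),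
    (356, -1), (436, 1), (524, 1), (684, -1)], [(279, 1), (363, 1), (447, 1), (507, -1), (535, -1), (563, -1)],
    [(281, 1), (365, 1), (449, 1), (669, -1), (697, -1), (725, -1)], [(77, 1), (237, -1), (274, -1), (354, 1), (530,
    1), (690, -1)], [(50, -1), (210, 1), (275, -1), (435, 1), (527, -1), (687, 1)], [(22, -1), (102, 1), (359, -1),
    (439, 1), (551, 1), (711, -1)], [(15, -1), (63, 1), (375, 1), (399, -1), (520, 1), (544, -1)], [(12, 1), (36,
    -1), (456, 1), (480, -1), (521, 1), (545, -1)], [(17, -1), (65, 1), (345, 1), (369, -1), (682, 1), (706, -1)],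
    [(14, 1), (38, -1), (426, 1), (450, -1), (683, 1), (707, -1)], [(3, 1), (31, 1), (59, 1), (531, -1), (615, -1),
    (699, -1)], [(76, -1), (156, 1), (277, -1), (357, 1), (557, 1), (717, -1)], [(49, 1), (129, -1), (278, -1), (438,
    1), (554, -1), (714, 1)], [(42, 1), (66, -1), (294, 1), (318, -1), (519, 1), (543, -1)], [(44, 1), (68, -1),
    (264, 1), (288, -1), (681, 1), (705, -1)], [(6, 1), (34, 1), (62, 1), (558, -1), (642, -1), (726, -1)], [(104,
    1), (184, -1), (353, 1), (433, -1), (497, -1), (657, 1)], [(177, -1), (225, 1), (377, 1), (401, -1), (490, 1),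
    (514, -1)], [(174, 1), (198, -1), (458, 1), (482, -1), (491, 1), (515, -1)], [(179, -1), (227, 1), (347, 1),
    (371, -1), (652, 1), (676, -1)], [(176, 1), (200, -1), (428, 1), (452, -1), (653, 1), (677, -1)], [(165, 1),
    (193, 1), (221, 1), (533, -1), (617, -1), (701, -1)], [(1, -1), (85, -1), (169, -1), (333, 1), (361, 1), (389,
    1)], [(2, -1), (86, -1), (170, -1), (414, 1), (442, 1), (470, 1)], [(26, -1), (186, 1), (383, 1), (463, -1),
    (523, 1), (603, -1)], [(20, 1), (180, -1), (329, -1), (409, 1), (605, -1), (685, 1)], [(158, 1), (238, -1), (271,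
    1), (351, -1), (503, -1), (663, 1)], [(131, -1), (211, 1), (272, 1), (432, -1), (500, 1), (660, -1)], [(204, 1),
    (228, -1), (296, 1), (320, -1), (489, 1), (513, -1)], [(206, 1), (230, -1), (266, 1), (290, -1), (651, 1), (675,
    -1)], [(96, 1), (144, -1), (376, -1), (400, 1), (493, 1), (541, -1)], [(93, -1), (117, 1), (457, -1), (481, 1),
    (494, 1), (542, -1)], [(306, 1), (390, 1), (474, 1), (510, -1), (538, -1), (566, -1)], [(98, -1), (146, 1), (346,
    1), (370, -1), (655, -1), (703, 1)], [(95, 1), (119, -1), (427, 1), (451, -1), (656, -1), (704, 1)], [(55, 1),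
    (139, 1), (223, 1), (339, -1), (367, -1), (395, -1)], [(29, 1), (113, 1), (197, 1), (417, -1), (445, -1), (473,
    -1)], [(80, 1), (240, -1), (301, -1), (381, 1), (529, -1), (609, 1)], [(53, 1), (213, -1), (302, 1), (462, -1),
    (526, -1), (606, 1)], [(254, 1), (338, 1), (422, 1), (666, -1), (694, -1), (722, -1)], [(74, -1), (234, 1), (247,
    1), (327, -1), (611, 1), (691, -1)], [(47, -1), (207, 1), (248, -1), (408, 1), (608, 1), (688, -1)], [(25, -1),
    (105, 1), (386, -1), (466, 1), (550, -1), (630, 1)], [(19, -1), (99, 1), (332, -1), (412, 1), (632, -1), (712,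
    1)], [(16, -1), (64, 1), (348, -1), (396, 1), (601, 1), (625, -1)], [(13, -1), (37, 1), (429, 1), (477, -1),
    (602, -1), (626, 1)], [(123, 1), (147, -1), (295, 1), (319, -1), (492, -1), (540, 1)], [(125, -1), (149, 1),
    (265, -1), (289, 1), (654, 1), (702, -1)], [(54, -1), (138, -1), (222, -1), (258, 1), (286, 1), (314, 1)], [(27,
    -1), (111, -1), (195, -1), (255, 1), (283, 1), (311, 1)], [(87, 1), (115, 1), (143, 1), (559, -1), (643, -1),
    (727, -1)], [(79, -1), (159, 1), (304, -1), (384, 1), (556, -1), (636, 1)], [(52, -1), (132, 1), (305, 1), (465,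
    -1), (553, -1), (633, 1)], [(73, -1), (153, 1), (250, -1), (330, 1), (638, -1), (718, 1)], [(46, -1), (126, 1),
    (251, 1), (411, -1), (635, -1), (715, 1)], [(43, -1), (67, 1), (267, 1), (315, -1), (600, -1), (624, 1)], [(162,
    1), (190, 1), (218, 1), (506, -1), (590, -1), (674, -1)], [(107, -1), (187, 1), (380, -1), (460, 1), (496, -1),
    (576, 1)], [(101, -1), (181, 1), (326, -1), (406, 1), (578, -1), (658, 1)], [(178, 1), (226, -1), (350, 1), (398,
    -1), (571, -1), (595, 1)], [(175, 1), (199, -1), (431, -1), (479, 1), (572, 1), (596, -1)], [(81, 1), (109, 1),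
    (137, 1), (505, -1), (589, -1), (673, -1)], [(161, -1), (241, 1), (298, -1), (378, 1), (502, -1), (582, 1)],
    [(134, -1), (214, 1), (299, 1), (459, -1), (499, -1), (579, 1)], [(155, -1), (235, 1), (244, -1), (324, 1), (584,
    -1), (664, 1)], [(128, -1), (208, 1), (245, 1), (405, -1), (581, -1), (661, 1)], [(205, 1), (229, -1), (269, -1),
    (317, 1), (570, 1), (594, -1)], [(97, 1), (145, -1), (349, 1), (397, -1), (574, 1), (622, -1)], [(94, 1), (118,
    -1), (430, -1), (478, 1), (575, -1), (623, 1)], [(307, 1), (391, 1), (475, 1), (591, -1), (619, -1), (647, -1)],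
    [(253, 1), (337, 1), (421, 1), (585, -1), (613, -1), (641, -1)], [(124, 1), (148, -1), (268, -1), (316, 1), (573,
    -1), (621, 1)]]

/-- the certificate of generation -/
def steps : List (ℕ × List (ℕ × ℕ × ℕ) × List (ℕ × ℕ)) :=
    [(0, [(0, 1, 49), (26, 0, 24), (25, 0, 42), (24, 3, 42), (23, 0, 0), (22, 0, 5), (21, 3, 5), (20, 0, 25), (19, 0,
    43), (18, 3, 43), (17, 0, 8), (16, 0, 44), (15, 0, 6), (14, 0, 9), (13, 0, 45), (12, 0, 7), (11, 1, 9), (10, 1,
    45), (9, 1, 7), (8, 2, 15), (7, 1, 15), (6, 0, 15), (5, 2, 10), (4, 1, 10), (3, 0, 10), (2, 0, 23), (1, 0, 22)],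
    [(1, 49), (2, 48), (3, 61), (6, 56), (12, 64), (13, 26), (14, 62), (15, 65), (16, 27), (17, 63), (19, 28), (20,
    46), (22, 66), (23, 71), (25, 29), (26, 47)]), (4, [(4, 5, 35), (24, 4, 52), (21, 4, 12), (18, 4, 54), (11, 4,
    34), (10, 4, 68), (9, 4, 31), (8, 5, 50), (7, 4, 50), (5, 4, 36)], [(1, 10), (3, 22), (5, 35), (7, 21), (9, 40),
    (10, 3), (11, 37), (15, 25), (16, 0), (17, 24), (18, 17), (20, 6), (21, 59), (23, 44), (24, 19), (26, 8)]), (1,
    [(3, 15, 41), (1, 15, 58), (26, 1, 38), (23, 1, 4), (20, 1, 41), (17, 1, 14), (16, 1, 55), (15, 1, 13)], [(15,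
    58), (16, 16), (17, 57), (20, 30), (23, 67), (26, 33)]), (15, [(15, 16, 1), (26, 15, 60), (23, 15, 20), (20, 16,
    20), (17, 15, 39), (16, 15, 70)], [(1, 13), (16, 1), (17, 32), (23, 51), (26, 11)]), (8, [], [(2, 15), (5, 50),
    (6, 23), (7, 36), (9, 54), (10, 12), (11, 52), (12, 43), (13, 5), (14, 42), (18, 31), (19, 7), (21, 68), (22,
    45), (24, 34), (25, 9)]), (7, [(7, 9, 53), (9, 7, 18)], [(9, 53)]), (22, [(22, 25, 2), (25, 22, 69)], [(25, 2)]),
    (3, [], [(15, 41), (16, 4), (17, 38), (23, 55), (26, 14)]), (2, [], [(19, 18), (22, 60), (25, 20)]), (5, [], []),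
    (6, [], []), (10, [], [(9, 70), (11, 69)]), (13, [], []), (16, [], []), (21, [], []), (23, [], []), (11, [], [(9,
    39)]), (12, [], []), (14, [], []), (9, [], []), (17, [], []), (18, [], []), (19, [], []), (20, [], []), (24, [],
    []), (25, [], []), (26, [], [])]

variable {F : Type*} [Field F]

theorem cubicT_eq (v : I27 → F) :
    cubicT v = (tri.map fun q => (q.2.2.2 : F) * (v (ix q.1) * (v (ix q.2.1) * v (ix q.2.2.1)))).sum := by
  simp [cubicT, mat3, det_fin_three, trace, Matrix.mul_apply, Fin.sum_univ_three, tri, ix, Fin.ofNat]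
  ring

/-- the partial derivatives of the cubic form -/
def Q (k : ℕ) (v : I27 → F) : F := ((prs.getD k []).map fun p => (p.2.2 : F) * (v (ix p.1) * v (ix p.2.1))).sum

/-- the derivative of the cubic form -/
def DD (v y : I27 → F) : F := ∑ k ∈ Finset.range 27, y (ix k) * Q k v

theorem cubicT_add (v y : I27 → F) (t : F) :
    cubicT (v + t • y) = cubicT v + t * DD v y + t ^ 2 * DD y v + t ^ 3 * cubicT y := by
  simp only [cubicT_eq, DD, Q, tri, prs, Finset.sum_range_succ, Finset.sum_range_zero, List.getD_cons_succ,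
    List.getD_cons_zero, List.map_cons, List.map_nil, List.sum_cons, List.sum_nil, Pi.add_apply, Pi.smul_apply,
    smul_eq_mul, Int.cast_one, Int.cast_neg]
  ring

/-- the partner of `s` in a list of pairs -/
def pt (s : ℕ) : List (ℕ × ℕ × ℤ) → ℕ × ℤ
  | [] => (0, 0)
  | p :: l => if p.1 = s then p.2 else if p.2.1 = s then (p.1, p.2.2) else pt s l

/-- the third coordinate of the monomial containing `s` and `k` -/
def th (s k : ℕ) : ℕ := (pt s (prs.getD k [])).1

/-- the coefficient of the monomial containing `s` and `k` -/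
def sg (s k : ℕ) : ℤ := (pt s (prs.getD k [])).2

theorem prs_ok : ∀ k < 27, ((prs.getD k []).flatMap fun p => [p.1, p.2.1]).Nodup ∧
    ∀ p ∈ prs.getD k [], p.1 < 27 ∧ p.2.1 < 27 := by decide +kernel

set_option synthInstance.maxSize 1000 in
theorem th_ok : ∀ s < 27, ∀ k < 27, th s k < 27 ∧ sg s s = 0 ∧ (sg s k ≠ 0 → sg s k * sg s k = 1 ∧
    th s (th s k) = k ∧ sg s (th s k) = sg s k ∧ ∀ p ∈ prs.getD k [], sg s p.1 = 0 ∨ sg s p.2.1 = 0 ∨ p.1 = s ∨ p.2.1 = s) := by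
  decide +kernel

theorem sg_ne {s k : ℕ} (hs : s < 27) (hk : k < 27) (h : sg s k ≠ 0) : (sg s k : F) ≠ 0 :=
  left_ne_zero_of_mul_eq_one (b := (sg s k : F)) (by rw [← Int.cast_mul, ((th_ok s hs k hk).2.2 h).1, Int.cast_one])

local notation "e" => bI F cI

theorem pt_eq_zero {s : ℕ} {l : List (ℕ × ℕ × ℤ)} (h : s ∉ l.flatMap fun p => [p.1, p.2.1]) : (pt s l).2 = 0 := by
  induction l with
  | nil => rfl
  | cons p l ih =>
    simp only [List.flatMap_cons, List.mem_append, List.mem_cons, List.not_mem_nil, or_false, not_or] at h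
    rw [pt, if_neg (Ne.symm h.1.1), if_neg (Ne.symm h.1.2), ih h.2]

theorem Q_add (k : ℕ) (hk : k < 27) (s : ℕ) (v : I27 → F) : Q k (e s + v) = sg s k * v (ix (th s k)) + Q k v := by
  obtain ⟨h1, h2⟩ := prs_ok k hk
  rw [Q, Q, sg, th]
  generalize prs.getD k [] = l at h1 h2
  induction l with
  | nil => simp [pt]
  | cons p l ih =>
    have h3 := h2 p List.mem_cons_self
    simp only [List.flatMap_cons, List.cons_append, List.nil_append, List.nodup_cons, List.mem_cons, not_or] at h1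
    rw [List.map_cons, List.sum_cons, List.map_cons, List.sum_cons, ih h1.2.2 fun q hq => h2 q (List.mem_cons_of_mem _ hq),
      Pi.add_apply, Pi.add_apply, codes.bI_ix h3.1, codes.bI_ix h3.2, pt]
    split_ifs with a b b
    · exact absurd (a.trans b.symm) h1.1.1
    · rw [pt_eq_zero (a ▸ h1.1.2)]; simp; ring
    · rw [pt_eq_zero (b ▸ h1.2.1)]; simp; ring
    · ring

theorem Q_eq_zero {k : ℕ} {v : I27 → F} (h : ∀ p ∈ prs.getD k [], v (ix p.1) = 0 ∨ v (ix p.2.1) = 0) : Q k v = 0 :=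
  List.sum_eq_zero fun x hx => by
    obtain ⟨p, hp, rfl⟩ := List.mem_map.1 hx
    rw [mul_eq_zero.2 (h p hp), mul_zero]

theorem Q_e {k : ℕ} (hk : k < 27) (s : ℕ) : Q k (e s) = 0 := by
  simpa [Q_eq_zero (v := (0 : I27 → F)) fun _ _ => Or.inl rfl] using Q_add k hk s (0 : I27 → F)

theorem DD_e (v : I27 → F) {k : ℕ} (hk : k < 27) : DD v (e k) = Q k v := by
  rw [DD, Finset.sum_eq_single k (fun j hj h => by rw [codes.bI_ix (Finset.mem_range.1 hj), if_neg h, zero_mul])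
    fun h => absurd (Finset.mem_range.2 hk) h, codes.bI_ix hk, if_pos rfl, one_mul]

/-- the trilinear form with a basis vector as first argument -/
theorem DD_add (s : ℕ) (v y : I27 → F) :
    DD (e s + v) y - DD v y = ∑ k ∈ Finset.range 27, y (ix k) * (sg s k * v (ix (th s k))) := by
  rw [DD, DD, ← Finset.sum_sub_distrib]
  exact Finset.sum_congr rfl fun k hk => by rw [Q_add k (Finset.mem_range.1 hk)]; ring

variable (hF : ∃ a : F, a ≠ 0 ∧ a ≠ 1) {g : GL I27 F} (hg : g ∈ E6univ F)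
include hF hg

theorem DD_map (v y : I27 → F) : DD (g.1 *ᵥ v) (g.1 *ᵥ y) = DD v y := by
  have h : ∀ v, cubicT (g.1 *ᵥ v) = cubicT v := hg
  have h1 : ∀ t : F, t * DD (g.1 *ᵥ v) (g.1 *ᵥ y) + t ^ 2 * DD (g.1 *ᵥ y) (g.1 *ᵥ v) = t * DD v y + t ^ 2 * DD y v :=
    fun t => by
    have := h (v + t • y)
    rw [mulVec_add, mulVec_smul, cubicT_add, cubicT_add, h, h] at this
    linear_combination this
  obtain ⟨a, h2, h3⟩ := hF
  apply mul_left_cancel₀ (mul_ne_zero h2 (sub_ne_zero.2 h3))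
  linear_combination a ^ 2 * h1 1 - h1 a

theorem tri_map {s : ℕ} (hs : g.1 *ᵥ e s = e s) (v y : I27 → F) :
    ∑ k ∈ Finset.range 27, (g.1 *ᵥ y) (ix k) * (sg s k * (g.1 *ᵥ v) (ix (th s k))) =
      ∑ k ∈ Finset.range 27, y (ix k) * (sg s k * v (ix (th s k))) := by
  rw [← DD_add, ← DD_add, ← hs, ← mulVec_add, DD_map hF hg, DD_map hF hg, hs]

omit hF hg in
theorem sum_e {k : ℕ} (hk : k < 27) (f : ℕ → F) : ∑ j ∈ Finset.range 27, e k (ix j) * f j = f k := by
  rw [Finset.sum_eq_single k (fun j hj h => by rw [codes.bI_ix (Finset.mem_range.1 hj), if_neg h, zero_mul])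
    fun h => absurd (Finset.mem_range.2 hk) h, codes.bI_ix hk, if_pos rfl, one_mul]

omit hF hg in
theorem mulVec_inv (v : I27 → F) : g.1 *ᵥ ((g⁻¹).1 *ᵥ v) = v := by simp

theorem rule2 {s b c : ℕ} (hs : s < 27) (hb : b < 27) (hc : c < 27) (h : g.1 *ᵥ e s = e s) (h1 : sg s b = 0)
    (h2 : sg s c ≠ 0) : (g.1 *ᵥ e b) (ix c) = 0 := by
  obtain ⟨h3, -, h4⟩ := th_ok s hs c hc
  obtain ⟨-, h5, h6, -⟩ := h4 h2
  have := tri_map hF hg h (e b) ((g⁻¹).1 *ᵥ e (th s c))
  rw [mulVec_inv, sum_e h3, h5, h6, Finset.sum_eq_zero fun k hk => ?_] at this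
  · exact (mul_eq_zero.1 this).resolve_left (sg_ne hs hc h2)
  have hk := Finset.mem_range.1 hk
  by_cases h7 : sg s k = 0
  · simp [h7]
  · rw [codes.bI_ix (th_ok s hs k hk).1, if_neg fun e1 => h7 (by rw [← ((th_ok s hs k hk).2.2 h7).2.2.1, e1, h1])]
    simp

theorem rule3 {s s' b : ℕ} (hs : s < 27) (hs' : s' < 27) (h : g.1 *ᵥ e s = e s) (h' : g.1 *ᵥ e s' = e s')
    (h1 : sg s s' ≠ 0) : (g.1 *ᵥ e b) (ix (th s s')) = if th s s' = b then 1 else 0 := by
  have := tri_map hF hg h (e b) (e s')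
  rw [h', sum_e hs', sum_e hs', codes.bI_ix (th_ok s hs s' hs').1] at this
  exact mul_left_cancel₀ (sg_ne hs hs' h1) this

theorem rule5 {s b : ℕ} (hs : s < 27) (hb : b < 27) (h : g.1 *ᵥ e s = e s) (h1 : sg s b ≠ 0) :
    ∃ c < 27, sg s c ≠ 0 ∧ (g.1 *ᵥ e b) (ix c) ≠ 0 := by
  by_contra! h2
  obtain ⟨h3, -, h4⟩ := th_ok s hs b hb
  obtain ⟨-, h5, h6, -⟩ := h4 h1
  have := tri_map hF hg h (e b) (e (th s b))
  rw [sum_e h3, h5, h6, codes.bI_ix hb, if_pos rfl, mul_one, Finset.sum_eq_zero fun k hk => ?_] at this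
  · exact sg_ne hs hb h1 this.symm
  have hk := Finset.mem_range.1 hk
  by_cases h7 : sg s k = 0
  · simp [h7]
  · rw [h2 _ (th_ok s hs k hk).1 (by rwa [((th_ok s hs k hk).2.2 h7).2.2.1])]; simp

theorem white {b : ℕ} (hb : b < 27) (h1 : (g.1 *ᵥ e b) (ix b) = 1)
    (h2 : ∀ c < 27, sg b c = 0 → c ≠ b → (g.1 *ᵥ e b) (ix c) = 0) : g.1 *ᵥ e b = e b := by
  obtain ⟨u, hu⟩ : ∃ u, g.1 *ᵥ e b = e b + u := ⟨g.1 *ᵥ e b - e b, by simp⟩
  have h3 : ∀ c < 27, sg b c = 0 → u (ix c) = 0 := fun c hc h => by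
    by_cases e1 : c = b
    · simpa [hu, e1, codes.bI_ix hb] using h1
    · simpa [hu, e1, codes.bI_ix hc] using h2 c hc h e1
  rw [hu, add_eq_left]
  refine codes.ext fun j hj => by_contra fun h => ?_
  have h4 : sg b j ≠ 0 := fun e1 => h (h3 j hj e1)
  obtain ⟨h5, h0, h6⟩ := th_ok b hb j hj
  obtain ⟨-, h7, h8, -⟩ := h6 h4
  have := DD_map hF hg (e b) ((g⁻¹).1 *ᵥ e (th b j))
  rw [mulVec_inv, DD_e _ h5, hu, Q_add _ h5, h7, h8, Q_eq_zero fun p hp => ?_, add_zero, DD,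
    Finset.sum_eq_zero fun k hk => by rw [Q_e (Finset.mem_range.1 hk), mul_zero]] at this
  · exact mul_ne_zero (sg_ne hb hj h4) h this
  obtain ⟨a1, a2⟩ := (prs_ok _ h5).2 p hp
  rcases ((th_ok b hb _ h5).2.2 (h8 ▸ h4)).2.2.2 p hp with a | a | a | a
  exacts [Or.inl (h3 _ a1 a), Or.inr (h3 _ a2 a), Or.inl (h3 _ a1 (a ▸ h0)), Or.inr (h3 _ a2 (a ▸ h0))]

omit hF hg

theorem mulVec_eq_self {M : Matrix I27 I27 F} {v : I27 → F} (h : ∀ c < 27, v (ix c) = 0 ∨ M *ᵥ e c = e c) :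
    M *ᵥ v = v := by
  have : v = ∑ k ∈ Finset.range 27, v (ix k) • e k := codes.ext fun k hk => by
    simp [Finset.sum_apply, codes.bI_ix hk, hk]
  rw [this, mulVec_sum]
  exact Finset.sum_congr rfl fun k hk => by
    rcases h k (Finset.mem_range.1 hk) with h | h <;> simp [mulVec_smul, h]

/-- the root `r` fixes the basis vectors in `S` and moves the coordinate `a` to the coordinate `c` -/
def Mv (S : List ℕ) (a c r : ℕ) : Prop := a < 27 ∧ c < 27 ∧ r < 72 ∧ (∀ p ∈ ths.getD (6 + r) [], p.1 % 27 ∉ S) ∧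
  (lk 27 c (ths.getD (6 + r) [])).1 = a ∧ (lk 27 c (ths.getD (6 + r) [])).2 ^ 2 = 1

instance (S : List ℕ) (a c r : ℕ) : Decidable (Mv S a c r) := by unfold Mv; infer_instance

/-- the coordinate `c` of the image of the basis vector `b` vanishes -/
def Zero (S : List ℕ) (b c : ℕ) : Prop :=
  ∃ s ∈ S, (sg s b = 0 ∧ sg s c ≠ 0) ∨ ∃ s' ∈ S, sg s s' ≠ 0 ∧ th s s' = c ∧ c ≠ b

instance (S : List ℕ) (b c : ℕ) : Decidable (Zero S b c) := by unfold Zero; infer_instance

/-- a list of moves -/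
def Moves (S : List ℕ) (b : ℕ) : List (ℕ × ℕ × ℕ) → Prop
  | [] => True
  | m :: l => Mv S m.1 m.2.1 m.2.2 ∧ (m.2.1 = b ∨ m.2.1 ∈ l.map Prod.fst) ∧ Moves S b l

instance (S : List ℕ) (b : ℕ) : ∀ l, Decidable (Moves S b l)
  | [] => isTrue trivial
  | _ :: l => have := instDecidableMoves S b l; by unfold Moves; infer_instance

/-- a list of clearing steps -/
def Clear (S : List ℕ) (b : ℕ) : List (ℕ × ℕ) → Prop
  | [] => True
  | m :: l => Mv S b m.1 m.2 ∧ (∀ c ∈ b :: l.map Prod.fst, c < 27 ∧ (lk 27 c (ths.getD (6 + m.2) [])).2 = 0) ∧ Clear S b l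

instance (S : List ℕ) (b : ℕ) : ∀ l, Decidable (Clear S b l)
  | [] => isTrue trivial
  | _ :: l => have := instDecidableClear S b l; by unfold Clear; infer_instance

/-- one step of the certificate -/
def Step (S : List ℕ) (x : ℕ × List (ℕ × ℕ × ℕ) × List (ℕ × ℕ)) : Prop :=
  x.1 < 27 ∧ Moves S x.1 x.2.1 ∧ Clear S x.1 x.2.2 ∧
  (∀ c < 27, sg x.1 c = 0 → c = x.1 ∨ c ∈ x.2.2.map Prod.fst ∨ Zero S x.1 c) ∧
  ((∃ s ∈ S, ∃ s' ∈ S, sg s s' ≠ 0 ∧ th s s' = x.1) ∨
    (∀ c < 27, c ∈ x.2.1.map Prod.fst ∨ c ∈ S ∨ Zero S x.1 c) ∨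
    ∃ s ∈ S, sg s x.1 ≠ 0 ∧ ∀ c < 27, sg s c ≠ 0 → c ∈ x.2.1.map Prod.fst ∨ Zero S x.1 c)

instance (S : List ℕ) (x : ℕ × List (ℕ × ℕ × ℕ) × List (ℕ × ℕ)) : Decidable (Step S x) := by
  unfold Step; infer_instance

/-- the whole certificate -/
def Steps : List ℕ → List (ℕ × List (ℕ × ℕ × ℕ) × List (ℕ × ℕ)) → Prop
  | S, [] => ∀ c < 27, c ∈ S
  | S, x :: l => Step S x ∧ Steps (x.1 :: S) l

instance : ∀ S l, Decidable (Steps S l)
  | _, [] => by unfold Steps; infer_instance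
  | S, x :: l => have := instDecidableSteps (x.1 :: S) l; by unfold Steps; infer_instance

theorem steps_ok : Steps [] steps := by decide +kernel

theorem ths_ok : ∀ r < 72, ((ths.getD (6 + r) []).map fun p => p.1 / 27).Nodup := by decide +kernel

variable (F) in
/-- the representation of the Lie algebra -/
noncomputable def Θ : (chevE6.Idx → F) →ₗ[F] Matrix I27 I27 F := thLin F (uI F 27 cI) chevE6 (ths.getD · [])

theorem Θ_eV {r : ℕ} (hr : r < 72) : Θ F (eV chevE6 F r) = lc F (uI F 27 cI) (ths.getD (6 + r) []) := by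
  rw [← bV_add]; exact thLin_bV _ _ (Nat.add_lt_add_left hr _)

variable {K : Subgroup (GL I27 F)}
  (hK : ∀ r < 72, ∀ t : F, ∃ γ ∈ E6univ F, γ ∈ K ∧ γ.1 = 1 + t • Θ F (eV chevE6 F r))

/-- every isometry fixing the basis vectors in `S` and satisfying a condition on the image of `e b` lies in `K` -/
def Good (K : Subgroup (GL I27 F)) (S : List ℕ) (b : ℕ) (P : (I27 → F) → Prop) : Prop :=
  ∀ g ∈ E6univ F, (∀ s ∈ S, g.1 *ᵥ e s = e s) → P (g.1 *ᵥ e b) → g ∈ K

include hK in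
theorem Good.move {S : List ℕ} {a b c r : ℕ} (h : Mv S a c r) (x : F) {P P' : (I27 → F) → Prop} (h1 : Good K S b P)
    (h2 : ∀ v v', P' v → v' (ix c) = x → (∀ k < 27, (lk 27 k (ths.getD (6 + r) [])).2 = 0 → v' (ix k) = v (ix k)) → P v')
    (h3 : ∀ v, P' v → v (ix a) ≠ 0) : Good K S b P' := fun g hg h4 h5 => by
  obtain ⟨-, hc, hr, h6, h7, h8⟩ := h
  have h9 : ((lk 27 c (ths.getD (6 + r) [])).2 : F) ^ 2 = 1 := by rw [← Int.cast_pow, h8, Int.cast_one]
  obtain ⟨γ, hγ, hγK, e1⟩ := hK r hr ((x - (g.1 *ᵥ e b) (ix c)) * (lk 27 c (ths.getD (6 + r) [])).2 / (g.1 *ᵥ e b) (ix a))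
  rw [Θ_eV hr] at e1
  refine (K.mul_mem_cancel_left hγK).1 (h1 _ (mul_mem hγ hg) (fun s hs => ?_) (h2 _ _ h5 ?_ fun k hk h => ?_)) <;>
    rw [Units.val_mul, ← mulVec_mulVec, e1, add_mulVec, smul_mulVec, one_mulVec]
  · rw [h4 s hs, codes.lc_bI (by norm_num) fun p hp e2 => h6 p hp (e2 ▸ hs), smul_zero, add_zero]
  · rw [Pi.add_apply, Pi.smul_apply, codes.lc_mulVec (ths_ok r hr) _ hc, h7, smul_eq_mul]
    field_simp [h3 _ h5]
    linear_combination (x - (g.1 *ᵥ e b) (ix c)) * h9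
  · rw [Pi.add_apply, Pi.smul_apply, codes.lc_mulVec (ths_ok r hr) _ hk, h]; simp

include hF hK in
theorem Step.good {S : List ℕ} (hS : ∀ s ∈ S, s < 27) {x : ℕ × List (ℕ × ℕ × ℕ) × List (ℕ × ℕ)} (h : Step S x)
    (h0 : Good K (x.1 :: S) 0 fun _ => True) : Good K S 0 fun _ => True := by
  obtain ⟨b, mv, cl⟩ := x
  obtain ⟨hb, h1, h2, h3, h4⟩ := h
  dsimp only at hb h0 h1 h2 h3 h4
  have hz : ∀ g ∈ E6univ F, (∀ s ∈ S, g.1 *ᵥ e s = e s) → ∀ c < 27, Zero S b c → (g.1 *ᵥ e b) (ix c) = 0 := by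
    rintro g hg h c hc ⟨s, hs, ⟨a1, a2⟩ | ⟨s', hs', a1, rfl, a2⟩⟩
    · exact rule2 hF hg (hS s hs) hb hc (h s hs) a1 a2
    · rw [rule3 hF hg (hS s hs) (hS s' hs') (h s hs) (h s' hs') a1, if_neg a2]
  have h5 : Good K S b fun v => v (ix b) = 1 := by
    have key : ∀ l, Clear S b l → Good K S b (fun v => v (ix b) = 1 ∧ ∀ c ∈ l.map Prod.fst, v (ix c) = 0) →
        Good K S b fun v => v (ix b) = 1 := fun l => by
      induction l with
      | nil => exact fun _ h g hg a1 a2 => h g hg a1 ⟨a2, by simp⟩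
      | cons m l ih =>
        refine fun ⟨a1, a2, a3⟩ h => ih a3 (h.move hK a1 0 (fun v v' a4 a5 a6 => ⟨?_, ?_⟩) fun v a4 => by simp [a4.1])
        · rw [a6 b hb (a2 b List.mem_cons_self).2, a4.1]
        · refine List.forall_mem_cons.2 ⟨a5, fun c hc => ?_⟩
          have := a2 c (List.mem_cons_of_mem _ hc)
          rw [a6 c this.1 this.2, a4.2 c hc]
    refine key cl h2 fun g hg a1 a2 => h0 g hg (List.forall_mem_cons.2 ⟨white hF hg hb a2.1 fun c hc a3 a4 => ?_, a1⟩) trivial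
    rcases h3 c hc a3 with a | a | a
    exacts [absurd a a4, a2.2 c a, hz g hg a1 c hc a]
  have h6 : ∀ a ∈ mv.map Prod.fst, Good K S b fun v => v (ix a) ≠ 0 := by
    clear h4
    induction mv with
    | nil => simp
    | cons m l ih =>
      obtain ⟨a1, a2, a3⟩ := h1
      refine List.forall_mem_cons.2 ⟨?_, ih a3⟩
      rcases a2 with a2 | a2
      · exact h5.move hK a1 1 (fun v v' _ a _ => a2 ▸ a) fun _ h => h
      · exact (ih a3 _ a2).move hK a1 1 (fun v v' _ a _ => a ▸ one_ne_zero) fun _ h => h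
  intro g hg a1 _
  by_contra a2
  have a3 : ∀ c ∈ mv.map Prod.fst, (g.1 *ᵥ e b) (ix c) = 0 := fun c hc => by_contra fun h => a2 (h6 c hc g hg a1 h)
  rcases h4 with ⟨s, hs, s', hs', a4, a5⟩ | a5 | ⟨s, hs, a4, a5⟩
  · have := rule3 (b := b) hF hg (hS s hs) (hS s' hs') (a1 s hs) (a1 s' hs') a4
    rw [a5, if_pos rfl] at this
    exact a2 (h5 g hg a1 this)
  · have a6 : g.1 *ᵥ (g.1 *ᵥ e b) = g.1 *ᵥ e b := mulVec_eq_self fun c hc => by
      rcases a5 c hc with a | a | a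
      exacts [Or.inl (a3 c a), Or.inr (a1 c a), Or.inl (hz g hg a1 c hc a)]
    have a7 : g.1 *ᵥ e b = e b := by simpa using congrArg ((g⁻¹).1 *ᵥ ·) a6
    exact a2 (h5 g hg a1 (show (g.1 *ᵥ e b) (ix b) = 1 by rw [a7, codes.bI_ix hb, if_pos rfl]))
  · obtain ⟨c, hc, a6, a7⟩ := rule5 hF hg (hS s hs) hb (a1 s hs) a4
    exact a7 ((a5 c hc a6).elim (a3 c) (hz g hg a1 c hc))

include hF hK in
theorem le_of_roots : E6univ F ≤ K := by
  have key : ∀ l S, (∀ s ∈ S, s < 27) → Steps S l → Good K S 0 fun _ => True := fun l => by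
    induction l with
    | nil =>
      intro S _ h g _ h1 _
      rw [show g = 1 from Units.ext (ext_of_mulVec_single fun a => by
        rw [← codes.ix_cI a, ← codes.bI_eq_single (codes.lt a), h1 _ (h _ (codes.lt a))]; simp)]
      exact one_mem _
    | cons x l ih => exact fun S hS h => h.1.good hF hK hS (ih _ (List.forall_mem_cons.2 ⟨h.1.1, hS⟩) h.2)
  exact fun g hg => key _ _ (by simp) steps_ok g hg (by simp) trivial

/-- primes encoding the coordinates -/
def pm (c : ℕ) : ℕ :=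
  [3, 5, 7, 11, 13, 17, 19, 23, 29, 31, 37, 41, 43, 47, 53, 59, 61, 67, 71, 73, 79, 83, 89, 97, 101, 103, 107].getD c 0

theorem exists_mu_pm (t : F) (v : I27 → F) : ∃ μ : ℕ →* F, μ 2 = t ∧ ∀ c < 27, μ (pm c) = v (ix c) := by
  have : ∀ c < 27, (pm c).Prime ∧ pm c ≠ 2 ∧ ((List.range 27).map pm).idxOf (pm c) = c := by decide +kernel
  exact ⟨muOf fun p => if p = 2 then t else v (ix (((List.range 27).map pm).idxOf p)),
    by rw [muOf_prime _ Nat.prime_two, if_pos rfl],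
    fun c hc => by rw [muOf_prime _ (this c hc).1, if_neg (this c hc).2.1, (this c hc).2.2]⟩

noncomputable def mulS : TL → TL → TL := mulG (fun _ _ => true) fun _ _ => 0

noncomputable def polyT (co : ℕ → TL) (l : List (ℕ × ℕ × ℕ × ℤ)) : TL :=
  List.rec TL.nil (fun q _ ih => insAll (mulS (TL.cons 0 1 q.2.2.2 TL.nil)
    (mulS (co q.1) (mulS (co q.2.1) (co q.2.2.1)))) ih) l

theorem evG_polyT (μ : ℕ →* F) {co : ℕ → TL} {v : I27 → F} (h : ∀ c < 27, evG (fun _ => (1 : F)) μ (co c) = v (ix c)) :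
    evG (fun _ => (1 : F)) μ (polyT co tri) = cubicT v := by
  have h1 : ∀ q ∈ tri, q.1 < 27 ∧ q.2.1 < 27 ∧ q.2.2.1 < 27 := by decide +kernel
  rw [cubicT_eq]
  generalize tri = l at h1
  induction l with
  | nil => rfl
  | cons q l ih =>
    have h2 := h1 q List.mem_cons_self
    have hm := evG_mulG (b := fun _ => (1 : F)) μ (tst := fun _ _ => true) (op := fun _ _ => 0) (by simp)
    rw [List.map_cons, List.sum_cons, ← ih fun q hq => h1 q (List.mem_cons_of_mem _ hq), ← h _ h2.1, ← h _ h2.2.1,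
      ← h _ h2.2.2]
    exact (evG_insAll _ _ _ _).trans (by simp [mulS, hm]; rfl)

theorem simple_ok : ∀ i < 6, ∀ r ∈ [chevE6.simple i, chevE6.neg (chevE6.simple i)], r < 72 ∧
    checkRep 27 6 72 (codeG 12 4096 rowsE6) corE6 (ths.getD · []) r = true ∧
    (∀ c < 27, (lk 27 c (ths.getD (6 + r) [])).1 < 27) ∧
    eqv (polyT (fun c => TL.cons 0 (pm c) 1 (TL.cons 0 (2 * pm (lk 27 c (ths.getD (6 + r) [])).1)
      (lk 27 c (ths.getD (6 + r) [])).2 TL.nil)) tri) (polyT (fun c => TL.cons 0 (pm c) 1 TL.nil) tri) = true := by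
  decide +kernel

theorem exists_root (V : Valid chevE6) : ∀ r < chevE6.nroots, ∀ t, ∃ γ ∈ E6univ F,
    (γ : Matrix I27 I27 F) = 1 + t • Θ F (eV chevE6 F r) ∧ RepRel (Θ F) γ (V.xE F r t) := by
  refine exists_root_elt V fun i hi r hr t => ?_
  obtain ⟨h1, h2, h3, h4⟩ := simple_ok i hi r hr
  obtain ⟨γ, h5, h6⟩ := checkRep_sound codes (by norm_num) V (checkLink_sound linkE6) h1 h2 t
  refine ⟨γ, fun v => ?_, h5, h6⟩
  obtain ⟨μ, h7, h8⟩ := exists_mu_pm t v
  refine (evG_polyT μ fun c hc => ?_).symm.trans ((evG_eqv _ μ h4).trans (evG_polyT μ fun c hc => by simp [h8 c hc]))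
  rw [Units.coeHom_apply, h5, add_mulVec, smul_mulVec, ← Θ, Θ_eV h1, Pi.add_apply, Pi.smul_apply,
    codes.lc_mulVec (ths_ok r h1) _ hc]
  simp [-List.getD_eq_getElem?_getD, h7, h8 c hc, h8 _ (h3 c hc)]
  ring

include hF in
theorem equiv_chev : Nonempty (E6 F ≃* chevE6.group F) := by
  obtain ⟨h1, h2⟩ := H40.isSimpleGroup (D := chevE6) (F := F) (by simp) fun _ => hF
  have V := (H34.cert (D := chevE6) (by simp)).V
  refine equiv_of_repRel V h2 (exists_root V) ⟨42, by decide, 0, by decide, by decide +kernel, fun h => ?_⟩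
    fun K h => le_of_roots hF fun r hr t => ?_
  · have := codes.lc_mulVec (F := F) (ths_ok 42 (by norm_num)) 1 (c := 3) (by norm_num)
    rw [← Θ_eV (by norm_num), h, show (lk 27 3 (ths.getD (6 + 42) [])).2 = 1 by decide +kernel] at this
    simp at this
  · obtain ⟨γ, a, b, -⟩ := exists_root V r hr t
    exact ⟨γ, a, h r hr t γ a b, b⟩

end Cubic

end Cfsg.Agent.H37
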