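import Cfsg.Agent.H37.FkKit
import Cfsg.Agent.H98.GroupNormal
import Cfsg.Agent.H52.FkRed1
import Cfsg.Agent.H43.FkRed2
import Cfsg.Agent.H28.FkRed3
import Cfsg.Agent.H36.FkRed4
import Cfsg.Agent.S5102
import Cfsg.Agent.S5148

/-!
# S5161: the reduction to the known simple groups
-/

set_option autoImplicit false

namespace Cfsg.Agent.H37.FK

open Cfsg Subgroup H97

universe u

theorem nas_of_component {G : Type u} [Group G] {K : Subgroup G} (hK : IsComponent K) :
    NAS (K ⧸ center K) := by
  have := hK.2.1
  have := hK.2.2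
  refine ⟨this, fun hc => ?_⟩
  have hp : Group.IsPerfect (K ⧸ center K) := Group.IsPerfect.ofSurjective
    (f := QuotientGroup.mk' (center K)) (QuotientGroup.mk'_surjective _)
  exact Group.IsPerfect.not_isMulCommutative (K ⧸ center K) hc

theorem isNormalIn_congr {G : Type u} [Group G] {S T T' K : Subgroup G} {F : FusionSystem S}
    (h : T ≤ K) (h' : T' ≤ K) (e : T = T') (hn : (fusionSystemOfSubgroup K T h).IsNormalIn F 2) :
    (fusionSystemOfSubgroup K T' h').IsNormalIn F 2 := by
  subst e
  exact hn

theorem reduction {G : Type u} [Group G] [Finite G] (hO : oddCore G = ⊥)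
    (hK : ∀ K : Subgroup G, IsComponent K → FSC (K ⧸ center K)) (S : Sylow 2 G) {T : Subgroup G}
    (C : FusionSystem T) (hC : C.IsComponentIn (groupFusionSystem (S : Subgroup G)) 2) :
    ∃ K : Subgroup G, IsComponent K ∧ ∃ h : (S : Subgroup G) ⊓ K ≤ K,
      T = (S : Subgroup G) ⊓ K ∧ ∀ P : Subgroup G,
        C.Hom P = (fusionSystemOfSubgroup K ((S : Subgroup G) ⊓ K) h).Hom P := by
  have hS := S.isPGroup'
  have hT : IsPGroup 2 T := hS.to_le (component_le hC)
  have hab : ¬ T ≤ centralizer (T : Set G) := fun h => S5148.result 2 hT C hC.2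
    ⟨⟨fun a b => Subtype.ext (h b.2 a a.2)⟩⟩
  have hF : fittingSubgroup G = pCore 2 G := H3.fitting_eq_pCore hO
  have hn : (generalizedFittingSubgroup G).Normal := by
    have := H52.layer_normal (G := G)
    have : (fittingSubgroup G).Normal := by rw [hF]; infer_instance
    unfold generalizedFittingSubgroup
    infer_instance
  set Y := generalizedFittingSubgroup G
  have h1 := (component_normalIn hC.1 hS hC.2 (H98.group_isNormalIn S Y)).resolve_right
    (H52.FkRed1.red1 G hO S T C hC.2)
  have hY : H98.SylIn 2 ((S : Subgroup G) ⊓ Y) Y := (H98.sylIn_top S).inf_of_normal le_top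
    le_normalizer_of_normal
  have hSY : IsPGroup 2 ((S : Subgroup G) ⊓ Y : Subgroup G) := hS.to_le inf_le_left
  obtain ⟨K, hKc, h2⟩ : ∃ K : Subgroup G, IsComponent K ∧ C.IsSubnormalIn
      (fusionSystemOfSubgroup K ((S : Subgroup G) ⊓ K) inf_le_right) 2 := by
    by_contra! hne
    refine hab (le_centralizer_iff.1 (((subnormalIn_le h1).trans (H43.FkRed2.red2 G hO S)).trans
      (sup_le ?_ (iSup₂_le fun K hKc => ?_))))
    · exact le_centralizer_iff.1 (component_centBy_of_isNormal hS (H98.group_isSaturated S) hC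
        (S5102.result 2 S _ (H3.pCore_isPGroup 2 G))).cent
    · have hKY : K ≤ Y := (le_sSup (s := {K | IsComponent K}) hKc).trans le_sup_left
      have h3 := isNormalIn_congr _ (inf_le_right (a := (S : Subgroup G)))
        (by rw [inf_assoc, inf_eq_right.2 hKY])
        (H98.sub_isNormalIn hY hKY (H52.IsComponent.fstar_le_normalizer hKc))
      exact le_centralizer_iff.1
        ((component_normalIn h1 hSY hC.2 h3).resolve_left (hne K hKc)).cent
  have hSK : IsPGroup 2 ((S : Subgroup G) ⊓ K : Subgroup G) := hS.to_le inf_le_left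
  by_cases hc : ∃ R : Sylow 2 (K ⧸ center K),
      (groupFusionSystem (R : Subgroup (K ⧸ center K))).IsConstrained 2
  · exact absurd ⟨h2, hC.2⟩ (not_component_of_constrained hSK (H36.FkR.red4 G hO S K hKc hc))
  have hq := H28.FkRed3.red3 G hO S K hKc fun R =>
    (hK K hKc R).resolve_right fun h => hc ⟨R, h⟩
  rcases quasisimple_subnormalIn h2 hSK hq with h | h
  · exact ⟨K, hKc, inf_le_right, le_antisymm (subnormalIn_le h2) (le_of_isSubsystemOf h),
      fun P => Set.Subset.antisymm (subnormalIn_sub h2 P) (h P)⟩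
  · refine absurd (h.trans (FusionSystem.center_le_centralizer _) |>.trans
      (centralizer_le (subnormalIn_le h2))) hab

end Cfsg.Agent.H37.FK
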