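import Cfsg.Agent.H37.FkKit

/-!
# S5161: frames of commuting `SL₂`'s (symplectic and exceptional groups, odd characteristic)
-/

set_option autoImplicit false

namespace Cfsg.Agent.H37.FK

open Cfsg Subgroup Matrix

universe u

/-- `SL₂(F)` -/
abbrev SL2 (F : Type) [Field F] : Type := SpecialLinearGroup (Fin 2) F

section SL2

variable {F : Type} [Field F]

/-- upper unitriangular -/
def up (t : F) : SL2 F := ⟨!![1, t; 0, 1], by simp [det_fin_two]⟩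

/-- lower unitriangular -/
def lo (t : F) : SL2 F := ⟨!![1, 0; t, 1], by simp [det_fin_two]⟩

/-- diagonal -/
def dg (t : Fˣ) : SL2 F := ⟨!![(t : F), 0; 0, ((t⁻¹ : Fˣ) : F)], by simp [det_fin_two]⟩

/-- `h` acts on the image of `φ` like `diag(d, 1)` -/
def ActsAs {K : Type*} [Group K] (h : K) (φ : SL2 F →* K) (d : Fˣ) : Prop :=
  (∀ t, h * φ (up t) * h⁻¹ = φ (up (d * t))) ∧
    ∀ t, h * φ (lo t) * h⁻¹ = φ (lo (((d⁻¹ : Fˣ) : F) * t))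

end SL2

/-- `g` conjugates `A` onto `B` -/
def Maps {K : Type*} [Group K] (g : K) (A B : Subgroup K) : Prop := ∀ x, x ∈ A ↔ g * x * g⁻¹ ∈ B

/-- what every class `X` containing `A` contains -/
inductive Reach {K : Type u} [Group K] (A : Set K) : K → Prop
  | base {x : K} : x ∈ A → Reach A x
  | one : Reach A 1
  | conj {x : K} (g : K) : Reach A x → Reach A (g * x * g⁻¹)
  | mul {x y : K} : Reach A x → Reach A y → Commute x y → Reach A (x * y)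
  | sl2 {E : Type} [Field E] [Fintype E] (hE : Odd (Fintype.card E)) (ψ : SL2 E →* K)
      (hψ : ψ.ker ≤ center _) {y : K} : Reach A y → y ∈ normalizer (ψ.range : Set K) →
      (∃ a, y * ψ a ≠ ψ a * y) → ∀ a, Two (ψ a) → Reach A (ψ a)

theorem Reach.mem (hD : DichStmt.{u}) {K : Type u} [Group K] [Finite K] {X A : Set K}
    (hX : XC ⊤ X) (hA : A ⊆ X) {x : K} (h : Reach A x) : x ∈ X := by
  induction h with
  | base h => exact hA h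
  | one => exact hX.one
  | conj g _ ih => exact hX.conj _ ih g trivial
  | mul _ _ c ih1 ih2 => exact hX.mul_comm ih1 ih2 c
  | sl2 hE ψ hψ _ h1 h2 a ha ih => exact hD K X hX _ hE ψ hψ _ ih h1 h2 a ha

/-- commuting `SL₂`'s, a torus and elements permuting them, which together contain a Sylow
2-subgroup -/
structure Frame (K : Type u) [Group K] where
  ι : Type
  [fin : Fintype ι]
  [dec : DecidableEq ι]
  F : ι → Type
  [fld : ∀ i, Field (F i)]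
  [fnt : ∀ i, Fintype (F i)]
  odd : ∀ i, Odd (Fintype.card (F i))
  φ : ∀ i, SL2 (F i) →* K
  inj : ∀ i, Function.Injective (φ i)
  comm : ∀ i j, i ≠ j → ∀ a b, φ i a * φ j b = φ j b * φ i a
  H : Subgroup K
  hab : ∀ a ∈ H, ∀ b ∈ H, a * b = b * a
  hact : ∀ h ∈ H, ∀ i, ∃ d : (F i)ˣ, ActsAs h (φ i) d
  hdg : ∀ i (t : (F i)ˣ), φ i (dg t) ∈ H
  hom : ∀ h ∈ H, h * h = 1 → (∀ i, ActsAs h (φ i) 1) →
    h ∈ closure (Set.range fun i => φ i (-1))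
  κ : Type
  n : κ → K
  σ : κ → Equiv.Perm ι
  nJ : ∀ k i, Maps (n k) (φ i).range (φ (σ k i)).range
  nH : ∀ k, n k ∈ normalizer (H : Set K)
  two : IsPGroup 2 (closure (Set.range σ))
  card : ∀ e : ℕ, 2 ^ e ∣ Nat.card K →
    2 ^ e ∣ Nat.card H * (∏ i, (Fintype.card (F i) + 1)) * Nat.card (closure (Set.range σ))

attribute [instance] Frame.fin Frame.dec Frame.fld Frame.fnt

namespace Frame

variable {K : Type u} [Group K] (Fr : Frame K)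

/-- the `SL₂`'s -/
def J (i : Fr.ι) : Subgroup K := (Fr.φ i).range

/-- their central involutions -/
def z (i : Fr.ι) : K := Fr.φ i (-1)

/-- the 2-group of permutations -/
def W : Subgroup (Equiv.Perm Fr.ι) := closure (Set.range Fr.σ)

/-- `g` permutes the `J i` like `π` -/
def Ind (g : K) (π : Equiv.Perm Fr.ι) : Prop := ∀ i, Maps g (Fr.J i) (Fr.J (π i))

/-- `a` centralises all the `S ∩ J i` -/
def Cen (S : Subgroup K) (a : K) : Prop := ∀ i, ∀ y ∈ S ⊓ Fr.J i, a * y = y * a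

/-- distinct involutions -/
def CaseA : Prop :=
  Function.Injective Fr.z ∧ (∀ i j, ∃ g, Maps g (Fr.J i) (Fr.J j)) ∧
    ∃ i, centralizer ({Fr.z i} : Set K) ≤ normalizer (Fr.J i : Set K)

/-- one involution -/
def CaseB : Prop :=
  ∃ z : K, (∀ i, Fr.z i = z) ∧ ∀ i, centralizer ({z} : Set K) ≤ normalizer (Fr.J i : Set K)

/-- what the families have to supply -/
structure Ok : Prop where
  ne : Nonempty Fr.ι
  cases : Fr.CaseA ∨ Fr.CaseB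
  reachJ : ∀ i j a, Two (Fr.φ j a) → Reach {x | x ∈ Fr.J i ∧ Two x} (Fr.φ j a)
  reachN : ∀ i k, Reach {x | x ∈ Fr.J i ∧ Two x} (Fr.n k)
  f3 : ∀ π : Equiv.Perm Fr.ι, Odd (orderOf π) → (∀ x ∈ Fr.W, π * x * π⁻¹ ∈ Fr.W) → π = 1
  d8 : HasD8 K

/-- diagonal automorphisms are induced -/
def F7 : Prop := ∀ i, ∃ h ∈ Fr.H, ∃ d : (Fr.F i)ˣ, ¬ IsSquare (d : Fr.F i) ∧ ActsAs h (Fr.φ i) d

/-- the Sylow subgroup of a frame -/
structure Syl (S : Subgroup K) : Prop where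
  perm : ∀ s ∈ S, ∃ π ∈ Fr.W, Fr.Ind s π
  onto : ∀ π ∈ Fr.W, ∃ s ∈ S, Fr.Ind s π
  cover : ∀ X : Set K, XC ⊤ X → (∀ k, Fr.n k ∈ X) → ∀ π ∈ Fr.W, ∃ s ∈ S, s ∈ X ∧ Fr.Ind s π
  syl : ∀ i, H98.SylIn 2 (S ⊓ Fr.J i) (Fr.J i)
  ker : ∀ s ∈ S, Fr.Ind s 1 → s ∈ (⨆ i, Fr.J i) ⊔ Fr.H
  sylk : H98.SylIn 2 (S ⊓ ((⨆ i, Fr.J i) ⊔ Fr.H)) ((⨆ i, Fr.J i) ⊔ Fr.H)

/-- the centraliser of the `S ∩ J i` -/
structure Syl2 (S : Subgroup K) : Prop where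
  ab : ∀ a ∈ S, ∀ b ∈ S, Fr.Cen S a → Fr.Cen S b → a * b = b * a
  om : ∀ a ∈ S, Fr.Cen S a → a * a = 1 → a ∈ closure (Set.range Fr.z)
  out : Fr.F7 → ∀ i, ∃ s ∈ S, Maps s (Fr.J i) (Fr.J i) ∧
    ∀ y ∈ S ⊓ Fr.J i, ∃ x ∈ S ⊓ Fr.J i, s * x * s⁻¹ ≠ y * x * y⁻¹

end Frame

/-- **SLQ**: Sylow 2-subgroups of `SL₂(q)` -/
def SlqStmt : Prop :=
  ∀ (F : Type) [Field F] [Fintype F], Odd (Fintype.card F) → ∀ Q : Sylow 2 (SL2 F),
    (∃ a ∈ (Q : Subgroup (SL2 F)), ∃ b ∈ (Q : Subgroup (SL2 F)), a * b ≠ b * a) ∧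
    ((-1 : SL2 F) ≠ 1 ∧ ∀ a : SL2 F, a * a = 1 → a = 1 ∨ a = -1) ∧
    (∀ M : Matrix (Fin 2) (Fin 2) F, (∀ a ∈ (Q : Subgroup (SL2 F)), M * a.1 = a.1 * M) →
      ∃ c : F, M = c • (1 : Matrix (Fin 2) (Fin 2) F)) ∧
    (∀ α ∈ O2 (⊤ : Subgroup (MulAut Q)), Two α → ∃ y : Q, α = MulAut.conj y) ∧
    (∀ (α : MulAut Q) (B : Subgroup (MulAut Q)), Odd (orderOf α) → IsPGroup 2 B →
      (∀ β ∈ B, α * β * α⁻¹ ∈ B) → (∃ β ∈ B, ∀ y : Q, β ≠ MulAut.conj y) → α = 1) ∧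
    (16 ∣ Fintype.card F ^ 2 - 1 → IsPGroup 2 (MulAut Q))

/-- **FR0** -/
def Fr0Stmt : Prop :=
  ∀ (K : Type u) [Group K] [Finite K] (Fr : Frame K), ∃ S : Sylow 2 K, Fr.Syl S

/-- **FR1** (from SLQ) -/
def Fr1Stmt : Prop :=
  ∀ (K : Type u) [Group K] [Finite K] (Fr : Frame K) (S : Sylow 2 K), Fr.Syl S → Fr.Syl2 S

/-- **FR2** (from SLQ, TE): normalisers permute the `J i` -/
def Fr2Stmt : Prop :=
  ∀ (K : Type u) [Group K] [Finite K] (Fr : Frame K) (S : Sylow 2 K), Fr.Syl S → Fr.Syl2 S →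
    Nonempty Fr.ι → Fr.CaseA ∨ Fr.CaseB → ∀ T : Subgroup K, T ≤ S →
    (∀ s ∈ (S : Subgroup K), ∀ x ∈ T, s * x * s⁻¹ ∈ T) → (∀ i, (S : Subgroup K) ⊓ Fr.J i ≤ T) →
    ∀ g ∈ normalizer (T : Set K), ∃ π, Fr.Ind g π

/-- **FR3** (from DICH, GOLD, SLQ): the start -/
def Fr3Stmt : Prop :=
  ∀ (K : Type u) [Group K] [Finite K], NAS K → HasD8 K → ∀ (Fr : Frame K) (S : Sylow 2 K),
    Fr.Syl S → Fr.Syl2 S → ∀ X : Set K, XC ⊤ X → (∃ x ∈ X, x ≠ 1) →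
    ∃ i, ∀ x ∈ Fr.J i, Two x → x ∈ X

/-- **FR4** (from QUOT, DICH, SLQ, FR2, FR3) -/
def Fr4Stmt : Prop :=
  ∀ (K : Type u) [Group K] [Finite K], NAS K → ∀ (Fr : Frame K) (S : Sylow 2 K),
    Fr.Syl S → Fr.Syl2 S → Fr.Ok → NSC K

/-- **FR5** (from SLQ, FR2): odd elements of the normaliser -/
def Fr5Stmt : Prop :=
  ∀ (K : Type u) [Group K] [Finite K] (Fr : Frame K) (S : Sylow 2 K),
    Fr.Syl S → Fr.Syl2 S → Fr.Ok → ∀ g : K,
    (∀ x ∈ (S : Subgroup K), g * x * g⁻¹ ∈ (S : Subgroup K)) → Odd (orderOf g) →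
    Fr.Ind g 1 ∧ (Fr.Cen S g → ∀ x ∈ (S : Subgroup K), g * x * g⁻¹ = x) ∧
    ((Fr.F7 ∨ ∀ i, 16 ∣ Fintype.card (Fr.F i) ^ 2 - 1) → Fr.Cen S g)

/-- a frame with all that is needed -/
def HasFrame (K : Type u) [Group K] : Prop := ∃ Fr : Frame K, Fr.Ok ∧ Fr.F7

/-- **CHEV**: one piece per family -/
def G2Stmt : Prop := ∀ (F : Type) [Field F] [Fintype F], Odd (Fintype.card F) →
  HasFrame (Lie.chevG2.group F)
def F4Stmt : Prop := ∀ (F : Type) [Field F] [Fintype F], Odd (Fintype.card F) →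
  HasFrame (Lie.chevF4.group F)
def E6Stmt : Prop := ∀ (F : Type) [Field F] [Fintype F], Odd (Fintype.card F) →
  HasFrame (Lie.chevE6.group F)
def E7Stmt : Prop := ∀ (F : Type) [Field F] [Fintype F], Odd (Fintype.card F) →
  HasFrame (Lie.chevE7.group F)
def E8Stmt : Prop := ∀ (F : Type) [Field F] [Fintype F], Odd (Fintype.card F) →
  HasFrame (Lie.chevE8.group F)
def TE6Stmt : Prop := ∀ (F : Type) [Field F] [Fintype F] (q : ℕ), IsPrimePow q →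
  Fintype.card F = q ^ 2 → Odd q → HasFrame (Lie.twistedE6 F q)
def TD4Stmt : Prop := ∀ (F : Type) [Field F] [Fintype F] (q : ℕ), IsPrimePow q →
  Fintype.card F = q ^ 3 → Odd q → HasFrame (Lie.twistedD4 F q)

/-- the block structure of `PSp_{2m}(F)`: the `SL₂`'s of the hyperbolic planes and the
permutation matrices -/
structure SpD (K : Type) [Group K] (F : Type) [Field F] (m : ℕ) where
  φ : Fin m → SL2 F →* K
  w : Equiv.Perm (Fin m) →* K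
  inj : ∀ i, Function.Injective (φ i)
  comm : ∀ i j, i ≠ j → ∀ a b, φ i a * φ j b = φ j b * φ i a
  conj : ∀ π i a, w π * φ i a * (w π)⁻¹ = φ (π i) a
  /-- the kernel of the product map is generated by `(-1, …, -1)` -/
  ker : ∀ a : Fin m → SL2 F, (List.ofFn fun i => φ i (a i)).prod = 1 ↔
    (∀ i, a i = 1) ∨ ∀ i, a i = -1
  cz : ∀ i, centralizer ({φ i (-1)} : Set K) ≤ normalizer ((φ i).range : Set K)
  swap : ∀ i j, i ≠ j → IsConj (φ i (-1)) (w (Equiv.swap i j))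
  /-- elements normalising every block act on them like elements of the product -/
  stab : ∀ g : K, (∀ i, g * φ i (-1) = φ i (-1) * g) →
    ∃ a : Fin m → SL2 F, g = (List.ofFn fun i => φ i (a i)).prod
  /-- the element `a ⊗ ½ (1 1; 1 -1)` for `det a = 2` -/
  had : ∀ i j, i ≠ j → ∃ s : {a : Matrix (Fin 2) (Fin 2) F // a.det = 2} → K,
    (∀ a k, k ≠ i → k ≠ j → ∀ b, s a * φ k b = φ k b * s a) ∧
    (∀ a, s a * φ i (-1) * (s a)⁻¹ = w (Equiv.swap i j) * φ i (-1) * φ j (-1) ∧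
      s a * w (Equiv.swap i j) * (s a)⁻¹ = φ j (-1)) ∧
    (∀ a (b c : SL2 F), a.1 * b.1 = c.1 * a.1 →
      s a * (φ i b * φ j b) * (s a)⁻¹ = φ i c * φ j c) ∧
    ∀ a a' (c : SL2 F), a.1 * a'.1 = (2 : F) • c.1 → s a * s a' = φ i c * φ j c

/-- **SPD** -/
def SpdStmt : Prop := ∀ (F : Type) [Field F] [Fintype F], Odd (Fintype.card F) → ∀ m : ℕ, 3 ≤ m →
  Nonempty (SpD (PSp m F) F m)

/-- what `SPO` needs of a Sylow subgroup -/
def SpS {K : Type} [Group K] {F : Type} [Field F] {m : ℕ} (D : SpD K F m)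
    (P : Subgroup (Equiv.Perm (Fin m))) (S : Subgroup K) : Prop :=
  S ≤ (⨆ i, (D.φ i).range) ⊔ P.map D.w ∧ ∀ g : K, (∀ x ∈ S, g * x * g⁻¹ ∈ S) → Odd (orderOf g) →
    ∀ i, Maps g (D.φ i).range (D.φ i).range

/-- **SPF** (from SYM, FR0, FR1, FR4, FR5): the frame -/
def SpfStmt : Prop := ∀ (F : Type) [Field F] [Fintype F], Odd (Fintype.card F) → ∀ m : ℕ, 3 ≤ m →
  ∀ (D : SpD (PSp m F) F m) (P : Sylow 2 (Equiv.Perm (Fin m))), NSC (PSp m F) ∧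
    (16 ∣ Fintype.card F ^ 2 - 1 → NS (PSp m F)) ∧ ∃ S : Sylow 2 (PSp m F), SpS D P S

/-- **SPO** (from SYM, SLQ): `q ≡ ±3 (mod 8)` -/
def SpoStmt : Prop := ∀ (F : Type) [Field F] [Fintype F], Odd (Fintype.card F) →
  ¬ 16 ∣ Fintype.card F ^ 2 - 1 → ∀ m : ℕ, 3 ≤ m → ∀ (D : SpD (PSp m F) F m)
    (P : Sylow 2 (Equiv.Perm (Fin m))) (S : Sylow 2 (PSp m F)), SpS D P S → OFP (PSp m F)

theorem sp_of (h1 : SpdStmt) (h2 : SpfStmt) (h3 : SpoStmt) : SpStmt := by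
  intro F _ _ hF m hm
  obtain ⟨D⟩ := h1 F hF m hm
  obtain ⟨P⟩ : Nonempty (Sylow 2 (Equiv.Perm (Fin m))) := inferInstance
  obtain ⟨a, b, S, c⟩ := h2 F hF m hm D P
  by_cases h : 16 ∣ Fintype.card F ^ 2 - 1
  · exact ⟨a, (b h).ofp⟩
  · exact ⟨a, h3 F hF h m hm D P S c⟩

theorem good_of_frame (h0 : Fr0Stmt.{u}) (h1 : Fr1Stmt.{u}) (h4 : Fr4Stmt.{u}) (h5 : Fr5Stmt.{u})
    {K : Type u} [Group K] [Finite K] (hK : NAS K) (Fr : Frame K) (ok : Fr.Ok)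
    (h : Fr.F7 ∨ ∀ i, 16 ∣ Fintype.card (Fr.F i) ^ 2 - 1) : Good K := by
  obtain ⟨S, hS⟩ := h0 K Fr
  have hS2 := h1 K Fr S hS
  refine ⟨h4 K hK Fr S hS hS2 ok, (ns_of_one S fun g hg ho => ?_).ofp⟩
  obtain ⟨-, a, b⟩ := h5 K Fr S hS hS2 ok g hg ho
  exact a (b h)

theorem odd_card {F : Type} [Field F] [Fintype F] {p : ℕ} [CharP F p] (hp : p.Prime)
    (h2 : p ≠ 2) : Odd (Fintype.card F) := by
  obtain ⟨n, -, e⟩ := FiniteField.card F p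
  rw [e]
  exact (hp.odd_of_ne_two h2).pow

theorem exc_of (h0 : Fr0Stmt.{0}) (h1 : Fr1Stmt.{0}) (h4 : Fr4Stmt.{0}) (h5 : Fr5Stmt.{0})
    (g2 : G2Stmt) (f4 : F4Stmt) (e6 : E6Stmt) (e7 : E7Stmt) (e8 : E8Stmt) (t6 : TE6Stmt)
    (t4 : TD4Stmt) : ExcStmt.{u} := by
  intro G _ _ p hp h2 hG h
  have key : ∀ (K : Type) [Group K], (G ≃* K) → HasFrame K → Good G := fun K _ e ⟨Fr, a, b⟩ => by
    have : Finite K := Finite.of_equiv _ e.toEquiv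
    exact (good_of_frame h0 h1 h4 h5 (hG.congr e.symm) Fr a (Or.inl b)).congr e
  rcases h with ⟨F, _, _, _, ⟨-, ⟨e⟩⟩ | ⟨⟨e⟩⟩ | ⟨⟨e⟩⟩ | ⟨⟨e⟩⟩ | ⟨⟨e⟩⟩⟩ |
    ⟨F, _, _, _, q, hq, ⟨hc, ⟨e⟩⟩ | ⟨hc, ⟨e⟩⟩⟩
  · exact key _ e (g2 F (odd_card hp h2))
  · exact key _ e (f4 F (odd_card hp h2))
  · exact key _ e (e6 F (odd_card hp h2))
  · exact key _ e (e7 F (odd_card hp h2))
  · exact key _ e (e8 F (odd_card hp h2))
  · exact key _ e (t6 F q hq hc ((Nat.odd_pow_iff two_ne_zero).1 (hc ▸ odd_card hp h2)))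
  · exact key _ e (t4 F q hq hc ((Nat.odd_pow_iff three_ne_zero).1 (hc ▸ odd_card hp h2)))

end Cfsg.Agent.H37.FK
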