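import Mathlib
import Cfsg.Agent.H98.Simple2
import Cfsg.Agent.H97.Components
import Cfsg.Prelude.Def_Classification2
import Cfsg.Prelude.Def_LieTypeChar
import Cfsg.Prelude.Def_TwoFusion
import Cfsg.Prelude.Def_FusionComponents
import Cfsg.Prelude.Def_MonsterType

/-!
# S5161: definitions and the statements of the pieces (core part)

Notes with the paper proofs: `stubs/notes/h37_fusk.md`.
-/

set_option autoImplicit false

namespace Cfsg.Agent.H37.FK

open Cfsg Subgroup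

universe u v

section Defs

variable {K : Type*} [Group K]

/-- a 2-element -/
def Two (x : K) : Prop := ∃ k : ℕ, x ^ 2 ^ k = 1

/-- the subgroup generated by the elements of odd order of `H` (this is `O²(H)`) -/
def O2 (H : Subgroup K) : Subgroup K := closure {g | g ∈ H ∧ Odd (orderOf g)}

/-- the elements conjugate into `T` -/
def InX (T : Subgroup K) : Set K := {x | ∃ h : K, h * x * h⁻¹ ∈ T}

/-- a set of 2-elements of `N`, closed under conjugation by `N` and under products inside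
2-subgroups (the elements conjugate into a strongly closed subgroup form such a set). -/
structure XC (N : Subgroup K) (X : Set K) : Prop where
  sub : ∀ x ∈ X, x ∈ N
  two : ∀ x ∈ X, Two x
  one : (1 : K) ∈ X
  conj : ∀ x ∈ X, ∀ g ∈ N, g * x * g⁻¹ ∈ X
  mul : ∀ P : Subgroup K, IsPGroup 2 P → ∀ x ∈ X, ∀ y ∈ X, x ∈ P → y ∈ P → x * y ∈ X

end Defs

/-- no proper nontrivial strongly closed 2-subgroup -/
def NSC (K : Type*) [Group K] : Prop :=
  ∀ (S : Sylow 2 K) (T : Subgroup K), IsStronglyClosed T (S : Subgroup K) → T = ⊥ ∨ T = S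

/-- nontrivial strongly closed subgroups have index at most 2 and a big normal closure -/
def NSC2 (K : Type*) [Group K] : Prop :=
  ∀ (S : Sylow 2 K) (T : Subgroup K), IsStronglyClosed T (S : Subgroup K) → T ≠ ⊥ →
    T.relIndex (S : Subgroup K) ∣ 2 ∧ O2 (⊤ : Subgroup K) ≤ normalClosure (T : Set K)

/-- no nontrivial abelian strongly closed 2-subgroup -/
def NoAb (K : Type*) [Group K] : Prop :=
  ∀ (S : Sylow 2 K) (A : Subgroup K), IsStronglyClosed A (S : Subgroup K) →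
    (∀ a ∈ A, ∀ b ∈ A, a * b = b * a) → A = ⊥

/-- two involutions generate a nonabelian 2-group -/
def HasD8 (K : Type*) [Group K] : Prop :=
  ∃ a b : K, a * a = 1 ∧ b * b = 1 ∧ Two (a * b) ∧ a * b ≠ b * a

/-- elements of odd order normalising a Sylow 2-subgroup centralise it -/
def NS (K : Type*) [Group K] : Prop :=
  ∀ (S : Sylow 2 K) (g : K), (∀ x ∈ (S : Subgroup K), g * x * g⁻¹ ∈ (S : Subgroup K)) →
    Odd (orderOf g) → ∀ x ∈ (S : Subgroup K), g * x * g⁻¹ = x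

/-- `O^{2'}(F) = F`, in the language of `H98.GoodFam` (one Sylow subgroup is enough) -/
def OFP (K : Type*) [Group K] : Prop :=
  ∃ S : Sylow 2 K, ∀ N : Subgroup K → Subgroup K, H98.GoodFam 2 ⊤ (S : Subgroup K) N →
    ∀ g : K, (∀ x ∈ (S : Subgroup K), g * x * g⁻¹ ∈ (S : Subgroup K)) → Odd (orderOf g) →
      g ∈ N S

/-- the group-theoretic form of the simplicity of the 2-fusion system -/
def Good (K : Type*) [Group K] : Prop := NSC K ∧ OFP K

/-- the 2-fusion system is simple or constrained -/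
def FSC (K : Type*) [Group K] : Prop :=
  ∀ S : Sylow 2 K, (groupFusionSystem (S : Subgroup K)).IsSimple 2 ∨
    (groupFusionSystem (S : Subgroup K)).IsConstrained 2

/-- distinct Sylow 2-subgroups meet trivially -/
def TI (K : Type*) [Group K] : Prop :=
  ∀ S S' : Sylow 2 K, S ≠ S' → (S : Subgroup K) ⊓ (S' : Subgroup K) = ⊥

/-- a nonabelian finite simple group -/
def NAS (K : Type*) [Group K] : Prop := IsSimpleGroup K ∧ ¬ IsMulCommutative K

/-! ### The reduction -/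

/-- **RED1** -/
def Red1Stmt : Prop :=
  ∀ (G : Type u) [Group G] [Finite G], oddCore G = ⊥ → ∀ (S : Sylow 2 G) (T : Subgroup G)
    (C : FusionSystem T), C.Quasisimple 2 →
    ¬ H97.CentBy (groupFusionSystem (S : Subgroup G)) C
      ((S : Subgroup G) ⊓ generalizedFittingSubgroup G)

/-- **RED2** -/
def Red2Stmt : Prop :=
  ∀ (G : Type u) [Group G] [Finite G], oddCore G = ⊥ → ∀ (S : Sylow 2 G),
    (S : Subgroup G) ⊓ generalizedFittingSubgroup G ≤
      pCore 2 G ⊔ ⨆ (K : Subgroup G) (_ : IsComponent K), (S : Subgroup G) ⊓ K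

/-- **RED3** -/
def Red3Stmt : Prop :=
  ∀ (G : Type u) [Group G] [Finite G], oddCore G = ⊥ → ∀ (S : Sylow 2 G) (K : Subgroup G),
    IsComponent K → (∀ R : Sylow 2 (K ⧸ center K),
      (groupFusionSystem (R : Subgroup (K ⧸ center K))).IsSimple 2) →
    (fusionSystemOfSubgroup K ((S : Subgroup G) ⊓ K) inf_le_right).Quasisimple 2

/-- **RED4** -/
def Red4Stmt : Prop :=
  ∀ (G : Type u) [Group G] [Finite G], oddCore G = ⊥ → ∀ (S : Sylow 2 G) (K : Subgroup G),
    IsComponent K → (∃ R : Sylow 2 (K ⧸ center K),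
      (groupFusionSystem (R : Subgroup (K ⧸ center K))).IsConstrained 2) →
    (fusionSystemOfSubgroup K ((S : Subgroup G) ⊓ K) inf_le_right).IsConstrained 2

/-- **CON**: abelian or TI Sylow subgroups give constrained systems; transport. -/
def ConStmt : Prop :=
  (∀ (K : Type u) [Group K] [Finite K] (S : Sylow 2 K),
    (∀ a ∈ (S : Subgroup K), ∀ b ∈ (S : Subgroup K), a * b = b * a) → FSC K) ∧
  (∀ (K : Type u) [Group K] [Finite K], TI K → FSC K) ∧
  (∀ (K : Type u) [Group K] [Finite K] (K' : Type) [Group K'], (K ≃* K') → FSC K' → FSC K)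

/-! ### General tools -/

/-- **QUOT** -/
def QuotStmt : Prop :=
  ∀ (K : Type u) [Group K] [Finite K] (S : Sylow 2 K) (T : Subgroup K),
    IsStronglyClosed T (S : Subgroup K) →
    (S : Subgroup K) ⊓ O2 ⊤ ≤ T ⊔ O2 (normalizer (T : Set K))

/-- **GOLD** -/
def GoldStmt : Prop :=
  ∀ (K : Type u) [Group K] [Finite K], NAS K → HasD8 K → NoAb K

/-- **IDX2** -/
def Idx2Stmt : Prop :=
  ∀ (K : Type u) [Group K] [Finite K], (∀ N : Subgroup K, N.index ≠ 2) →
    ∀ (S : Sylow 2 K) (T : Subgroup K), IsStronglyClosed T (S : Subgroup K) →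
    T.relIndex (S : Subgroup K) ∣ 2 → T = S

/-- **KILL** -/
def KillStmt : Prop :=
  ∀ (K : Type u) [Group K] [Finite K] (N : Subgroup K) (X : Set K), XC N X →
    ∀ D L : Subgroup K, D ≤ N → L ≤ D → D ≤ normalizer (L : Set K) →
    (∀ g ∈ D, ∃ k : ℕ, g ^ 2 ^ k ∈ L) → (∀ x ∈ L, Two x → x ∈ X) →
    D ≤ L ⊔ closure (X ∩ D) → ∀ x ∈ D, Two x → x ∈ X

/-- **DICH** -/
def DichStmt : Prop :=
  ∀ (K : Type u) [Group K] [Finite K] (X : Set K), XC ⊤ X →
    ∀ (F : Type) [Field F] [Fintype F], Odd (Fintype.card F) →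
    ∀ φ : Matrix.SpecialLinearGroup (Fin 2) F →* K, φ.ker ≤ center _ →
    ∀ y ∈ X, y ∈ normalizer (φ.range : Set K) → (∃ a, y * φ a ≠ φ a * y) →
    ∀ a, Two (φ a) → φ a ∈ X

/-- **TE**: commuting of quaternion-like subgroups of a 2-group -/
def TeStmt : Prop :=
  ∀ (K : Type u) [Group K] [Finite K] (S : Subgroup K), IsPGroup 2 S →
    ∀ (M : Set (Subgroup K)) (z : Subgroup K → K),
    (∀ Q ∈ M, Q ≤ S) → (∀ Q ∈ M, ∃ a ∈ Q, ∃ b ∈ Q, a * b ≠ b * a) →
    (∀ Q ∈ M, z Q ∈ Q ∧ z Q ≠ 1 ∧ z Q * z Q = 1 ∧ ∀ x ∈ Q, x * x = 1 → x = 1 ∨ x = z Q) →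
    (∀ Q ∈ M, ∀ s ∈ S, Q.map (MulAut.conj s).toMonoidHom ∈ M) →
    (∀ Q ∈ M, ∀ s ∈ S, s * z Q = z Q * s → s ∈ normalizer (Q : Set K)) →
    (∀ Q ∈ M, ∀ Q' ∈ M, z Q = z Q' → Q = Q') →
    ∀ Q ∈ M, ∀ Q' ∈ M, Q ≠ Q' → ∀ a ∈ Q, ∀ b ∈ Q', a * b = b * a

/-- the permutations preserving a colouring -/
def colStab {ι κ : Type*} (c : ι → κ) : Subgroup (Equiv.Perm ι) where
  carrier := {π | ∀ i, c (π i) = c i}
  mul_mem' {a b} ha hb i := by rw [Equiv.Perm.mul_apply, ha, hb]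
  one_mem' _ := rfl
  inv_mem' {a} ha i := by rw [← ha]; simp

/-- **SYM**: Sylow 2-subgroups of products of symmetric groups -/
def SymStmt : Prop :=
  ∀ (ι : Type u) [Fintype ι] [DecidableEq ι] (κ : Type v) (c : ι → κ)
    (P : Subgroup (Equiv.Perm ι)), H98.SylIn 2 P (colStab c) →
    P ≤ closure {π | π ∈ P ∧ π * π = 1} ∧
    (∀ π : Equiv.Perm ι, Odd (orderOf π) → (∀ x ∈ P, π * x * π⁻¹ ∈ P) → π ∈ colStab c → π = 1) ∧
    (∀ i j, i ≠ j → c i = c j → ∃ a b, a ≠ b ∧ c a = c i ∧ Equiv.swap a b ∈ P) ∧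
    (∀ i, (∃ x ∈ P, x i ≠ i) → ∃ j, j ≠ i ∧ Equiv.swap i j ∈ P)

/-- **EXT** -/
def ExtStmt : Prop :=
  ∀ (H : Type u) [Group H] [Finite H], pCore 2 H = ⊥ → ∀ (M : Subgroup H), M.index ∣ 2 →
    ⁅M, M⁆ = M → ∀ (L : Type) [Group L] (π : M →* L), Function.Surjective π →
    π.ker ≤ center M → Odd (Nat.card π.ker) → NAS L → NSC L → NSC2 H

/-- the setting of **LX**: `Q` is a normal 2-subgroup of symplectic type of `C(z)` -/
structure LXD {K : Type*} [Group K] (z : K) (Q : Subgroup (centralizer ({z} : Set K))) :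
    Prop where
  ord : orderOf z = 2
  two : IsPGroup 2 Q
  sq : ∀ x ∈ Q, ((x * x : centralizer ({z} : Set K)) : K) ∈ zpowers z
  cen : ∀ x ∈ Q, (∀ y ∈ Q, x * y = y * x) → x * x = 1 → (x : K) ∈ zpowers z
  self : centralizer (Q : Set (centralizer ({z} : Set K))) ≤ Q
  odd : ∃ g : centralizer ({z} : Set K), g ≠ 1 ∧ Odd (orderOf g)

/-- **LXA**: no conjugate of `z` in `Q` other than `z` is centralised by `O²(C(z))` -/
def LxaStmt : Prop :=
  ∀ (K : Type u) [Group K] [Finite K] (z : K) (Q : Subgroup (centralizer ({z} : Set K)))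
    [Q.Normal], LXD z Q → pCore 2 (centralizer ({z} : Set K)) ≤ Q →
    ∀ y ∈ Q, IsConj z (y : K) → (y : K) ≠ z →
    ∃ g : centralizer ({z} : Set K), Odd (orderOf g) ∧ g * y ≠ y * g

/-- **LXB**: a nontrivial strongly closed subgroup is not inside `Q` -/
def LxbStmt : Prop :=
  ∀ (K : Type u) [Group K] [Finite K], NAS K → ∀ (z : K)
    (Q : Subgroup (centralizer ({z} : Set K))) [Q.Normal], LXD z Q →
    pCore 2 (centralizer ({z} : Set K)) ≤ Q →
    ∀ (S : Sylow 2 K), (S : Subgroup K) ≤ centralizer ({z} : Set K) →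
    ∀ T : Subgroup K, IsStronglyClosed T (S : Subgroup K) → T ≠ ⊥ →
    ¬ T ≤ Q.map (centralizer ({z} : Set K)).subtype

/-- **LX** -/
def LxStmt : Prop :=
  ∀ (K : Type u) [Group K] [Finite K], NAS K → ∀ (z : K)
    (Q : Subgroup (centralizer ({z} : Set K))) [Q.Normal], LXD z Q →
    Even Q.index → NSC2 (centralizer ({z} : Set K) ⧸ Q) → Good K

/-- **LE** -/
def LeStmt : Prop :=
  ∀ (K : Type u) [Group K] [Finite K], NAS K → HasD8 K → ∀ (D : Set K),
    (∀ d ∈ D, orderOf d = 2) → (∀ d ∈ D, ∀ e ∈ D, IsConj d e) → (∀ d ∈ D, ∀ g, g * d * g⁻¹ ∈ D) →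
    (∀ d ∈ D, ∀ e ∈ D, Two (d * e) → d * e = e * d) →
    ∀ (A : Subgroup K) (E : Set K), E ⊆ D → A = closure E → (∀ d ∈ E, ∀ e ∈ E, d * e = e * d) →
    ¬ 2 ∣ (normalizer (A : Set K)).index → centralizer (A : Set K) ≤ A →
    ∀ (L : Type) [Group L] (π : normalizer (A : Set K) →* L), Function.Surjective π →
    π.ker = A.subgroupOf _ → NAS L → NSC L → Good K

/-- **LQ** -/
def LqStmt : Prop :=
  ∀ (K : Type u) [Group K] [Finite K], NAS K → HasD8 K → ∀ (D M : Subgroup K),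
    ¬ 2 ∣ D.index → M ≤ D → M.relIndex D ∣ 2 → ⁅M, M⁆ = M →
    ∀ (L : Type) [Group L] (π : M →* L), Function.Surjective π → π.ker ≤ center M →
    NAS L → NSC L → NSC K

/-! ### The families -/

/-- **ALT** -/
def AltStmt : Prop := ∀ (G : Type u) [Group G] [Finite G], IsAlternating G → FSC G

/-- **LIN** -/
def LinStmt : Prop :=
  ∀ (G : Type u) [Group G] [Finite G] (p : ℕ), p.Prime → p ≠ 2 → IsPSLChar p G → FSC G

/-- **UNI** -/
def UniStmt : Prop :=
  (∀ (G : Type u) [Group G] [Finite G] (p : ℕ), p.Prime → p ≠ 2 → IsPSUChar p G → FSC G) ∧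
  ∀ (F : Type) [Field F] [Fintype F], Fintype.card F = 9 → NSC (PSU 4 F 3)

/-- **OLD**: the groups whose simplicity rows are already proved, `J₁` and the Ree groups -/
def OldStmt : Prop :=
  ∀ (G : Type u) [Group G] [Finite G],
    Spor.IsoM11 G ∨ Spor.IsoM12 G ∨ Spor.IsoM22 G ∨ Spor.IsoM23 G ∨ Spor.IsoM24 G ∨
      Spor.IsoJ1 G ∨ Spor.IsoJ2 G ∨ Spor.IsoJ3 G ∨ Spor.IsoMcL G ∨ Spor.IsoLy G ∨
      Lie.IsoRee G → FSC G

/-- **BN**: characteristic 2 -/
def BnStmt : Prop :=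
  ∀ (G : Type u) [Group G] [Finite G], NAS G → IsLieTypeChar 2 G → Good G ∨ TI G

/-- **TITS** -/
def TitsStmt : Prop := Good Lie.TitsGroup

/-- **SP**: symplectic groups in odd characteristic -/
def SpStmt : Prop :=
  ∀ (F : Type) [Field F] [Fintype F], Odd (Fintype.card F) → ∀ m : ℕ, 3 ≤ m → Good (PSp m F)

/-- **ORTH**: orthogonal groups in odd characteristic -/
def OrthStmt : Prop :=
  ∀ (G : Type u) [Group G] [Finite G] (p : ℕ), p.Prime → p ≠ 2 →
    IsPOmegaOddChar p G ∨ IsPOmegaPlusChar p G ∨ IsPOmegaMinusChar p G → Good G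

/-- **EXC**: exceptional groups in odd characteristic -/
def ExcStmt : Prop :=
  ∀ (G : Type u) [Group G] [Finite G] (p : ℕ), p.Prime → p ≠ 2 → NAS G →
    IsExceptionalChevChar p G ∨ IsTwistedE6D4Char p G → Good G

/-- **SM1**: alternating groups, Mathieu groups -/
def Sm1Stmt : Prop :=
  NSC (alternatingGroup (Fin 5)) ∧ NSC (alternatingGroup (Fin 9)) ∧ NSC Spor.M22 ∧
    NSC Spor.M23 ∧ NSC2 alternatingFiveWreathTwo

/-- **SM2**: the small groups in characteristic 2 -/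
def Sm2Stmt : Prop :=
  (NAS (Omega (ZMod 2) (quadFormPlus 4 (ZMod 2))) ∧
    NSC (Omega (ZMod 2) (quadFormPlus 4 (ZMod 2)))) ∧
  (NAS (Omega (ZMod 2) (quadFormMinus 2 (ZMod 2) 1 1)) ∧
    NSC (Omega (ZMod 2) (quadFormMinus 2 (ZMod 2) 1 1))) ∧
  (NAS (Matrix.symplecticGroup (Fin 3) (ZMod 2)) ∧
    NSC (Matrix.symplecticGroup (Fin 3) (ZMod 2)) ∧
    NS (Matrix.symplecticGroup (Fin 3) (ZMod 2))) ∧
  (NAS (Matrix.SpecialLinearGroup (Fin 3) (ZMod 2)) ∧
    NSC (Matrix.SpecialLinearGroup (Fin 3) (ZMod 2))) ∧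
  ∀ (F : Type) [Field F] [Fintype F], Fintype.card F = 4 →
    NAS (Matrix.ProjectiveSpecialLinearGroup (Fin 3) F) ∧
      NSC (Matrix.ProjectiveSpecialLinearGroup (Fin 3) F)

/-- all general tools, for groups in `Type` -/
structure Tools : Prop where
  quot : QuotStmt.{0}
  gold : GoldStmt.{0}
  idx2 : Idx2Stmt.{0}
  kill : KillStmt.{0}
  ext : ExtStmt.{0}
  lx : LxStmt.{0}
  le : LeStmt.{0}
  lq : LqStmt.{0}
  uni : ∀ (F : Type) [Field F] [Fintype F], Fintype.card F = 9 → NSC (PSU 4 F 3)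
  sm1 : Sm1Stmt
  sm2 : Sm2Stmt

/-- the sixteen remaining sporadic groups, one piece each -/
def J4Stmt : Prop := Tools → Good Spor.J4
def Co1Stmt : Prop := Tools → Good Spor.Co1
def Co2Stmt : Prop := Tools → Good Spor.Co2
def Co3Stmt : Prop := Tools → Good Spor.Co3
def HSStmt : Prop := Tools → Good Spor.HS
def SuzStmt : Prop := Tools → Good Spor.Suz
def HeStmt : Prop := Tools → Good Spor.He
def RuStmt : Prop := Tools → Good Spor.Ru
def ONStmt : Prop := Tools → Good Spor.ON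
def Fi22Stmt : Prop := Tools → Good Spor.Fi22
def Fi23Stmt : Prop := Tools → Good Spor.Fi23
def Fi24Stmt : Prop := Tools → Good Spor.Fi24'
def HNStmt : Prop := Tools → Good Spor.HN
def ThStmt : Prop := Tools → Good Spor.Th
def BStmt : Prop := Tools → NSC Spor.Co2 → Good Spor.BabyMonster
def MStmt : Prop := Tools → NSC Spor.Co1 → Good Spor.Monster

end Cfsg.Agent.H37.FK
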