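import Cfsg.Agent.H37.FkKit
import Cfsg.Agent.H30.OrthBridge

/-!
# S5161: orthogonal groups in odd characteristic
-/

set_option autoImplicit false

namespace Cfsg.Agent.H37.FK

open Cfsg Subgroup QuadraticMap Module H30

section Defs

variable {F V : Type} [Field F] [AddCommGroup V] [Module F V] (Q : QuadraticForm F V)

/-- `g` maps `U` onto `W` -/
def OMaps (g : O Q) (U W : Submodule F V) : Prop := ∀ v, v ∈ U ↔ g.1 v ∈ W

/-- an orthonormal family of pairs -/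
structure ONP {k : ℕ} (e f : Fin k → V) : Prop where
  qe : ∀ i, Q (e i) = 1
  qf : ∀ i, Q (f i) = 1
  ef : ∀ i j, polar Q (e i) (f j) = 0
  ee : ∀ i j, i ≠ j → polar Q (e i) (e j) = 0
  ff : ∀ i j, i ≠ j → polar Q (f i) (f j) = 0

/-- the plane spanned by two vectors -/
def pl (x y : V) : Submodule F V := Submodule.span F {x, y}

/-- `g` permutes the planes like `π` -/
def OInd {k : ℕ} (e f : Fin k → V) (g : O Q) (π : Equiv.Perm (Fin k)) : Prop :=
  ∀ i, OMaps Q g (pl (e i) (f i)) (pl (e (π i)) (f (π i)))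

/-- a Sylow 2-subgroup of `O(Q)` and its decomposition into `k` planes and at most two lines -/
structure ODec (S : Subgroup (O Q)) where
  k : ℕ
  e : Fin k → V
  f : Fin k → V
  c : Fin k → V
  on : ONP Q e f
  cmem : ∀ i, c i ∈ pl (F := F) (e i) (f i)
  cns : ∀ i, ¬ IsSquare (Q (c i))
  re : ∀ i, refl Q (e i) ∈ S
  rf : ∀ i, refl Q (f i) ∈ S
  ref : ∀ i, refl Q (e i - f i) ∈ S
  rc : ∀ i, refl Q (c i) ∈ S
  m : ℕ
  v : Fin m → V
  m2 : m ≤ 2
  vq : ∀ j, Q (v j) ≠ 0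
  ve : ∀ j i, polar Q (v j) (e i) = 0
  vf : ∀ j i, polar Q (v j) (f i) = 0
  vv : ∀ j j', j ≠ j' → polar Q (v j) (v j') = 0 ∧ ¬ IsSquare (Q (v j) * Q (v j'))
  rv : ∀ j, refl Q (v j) ∈ S
  top : Submodule.span F (Set.range e ∪ Set.range f ∪ Set.range v) = ⊤
  dim : finrank F V = 2 * k + m
  P : Sylow 2 (Equiv.Perm (Fin k))
  perm : ∀ s ∈ S, ∃ π ∈ (P : Subgroup (Equiv.Perm (Fin k))), OInd Q e f s π
  onto : ∀ π ∈ (P : Subgroup (Equiv.Perm (Fin k))), ∃ s ∈ S, OInd Q e f s π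
  fix : ∀ s ∈ S, ∀ j, s.1 (v j) = v j ∨ s.1 (v j) = -v j
  /-- the base group is generated by its reflections -/
  base : ∀ s ∈ S, OInd Q e f s 1 → s ∈ closure {r | r ∈ S ∧ ∃ x, Q x ≠ 0 ∧ r = refl Q x ∧
    ((∃ i, x ∈ pl (F := F) (e i) (f i)) ∨ ∃ j, x = v j)}
  /-- involutions lift to involutions of `Ω` -/
  lift : ∀ π ∈ (P : Subgroup (Equiv.Perm (Fin k))), π * π = 1 → ∃ t ∈ S, t ∈ commutator (O Q) ∧
    t * t = 1 ∧ OInd Q e f t π ∧ (∀ i, π i = i → t.1 (e i) = e i ∧ t.1 (f i) = f i) ∧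
    ∀ j, t.1 (v j) = v j

/-- `W` is the support of a quaternion group inside `S` -/
def QSup (S : Subgroup (O Q)) (W : Submodule F V) : Prop :=
  finrank F W = 4 ∧ NondegOn Q W ∧ ∃ x ∈ S, ∃ y ∈ S, x * y ≠ y * x ∧
    (∀ w ∈ W, x.1 (x.1 w) = -w ∧ y.1 (y.1 w) = -w) ∧
    ∀ w ∈ perp Q W, x.1 w = w ∧ y.1 w = w

end Defs

/-- **O1**: a maximal orthonormal family of pairs, the stabiliser of its planes has odd index -/
def O1Stmt : Prop :=
  ∀ (F V : Type) [Field F] [Fintype F] [AddCommGroup V] [Module F V] [FiniteDimensional F V]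
    (Q : QuadraticForm F V), (2 : F) ≠ 0 → (polarBilin Q).Nondegenerate →
    ∃ (k : ℕ) (e f : Fin k → V), ONP Q e f ∧
      (∀ x ∈ perp Q (Submodule.span F (Set.range e ∪ Set.range f)),
        ∀ y ∈ perp Q (Submodule.span F (Set.range e ∪ Set.range f)),
        Q x = 1 → Q y = 1 → polar Q x y ≠ 0) ∧
      ∃ S : Sylow 2 (O Q), ∀ s ∈ (S : Subgroup (O Q)), ∃ π, OInd Q e f s π

/-- **O2** (from O1): every Sylow subgroup has a decomposition -/
def O2Stmt : Prop :=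
  ∀ (F V : Type) [Field F] [Fintype F] [AddCommGroup V] [Module F V] [FiniteDimensional F V]
    (Q : QuadraticForm F V), (2 : F) ≠ 0 → (polarBilin Q).Nondegenerate →
    ∀ S : Sylow 2 (O Q), Nonempty (ODec Q (S : Subgroup (O Q)))

/-- **O3** (from SYM): `S ∩ Ω` is generated by involutions -/
def O3Stmt : Prop :=
  ∀ (F V : Type) [Field F] [Fintype F] [AddCommGroup V] [Module F V] [FiniteDimensional F V]
    (Q : QuadraticForm F V), (2 : F) ≠ 0 → (polarBilin Q).Nondegenerate →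
    ∀ (S : Subgroup (O Q)) (D : ODec Q S), 3 ≤ D.k →
      S ⊓ commutator (O Q) ≤ closure {x | x ∈ S ⊓ commutator (O Q) ∧ x * x = 1}

/-- **O4**: a class with a noncentral element contains all involutions of `Ω` -/
def O4Stmt : Prop :=
  ∀ (F V : Type) [Field F] [Fintype F] [AddCommGroup V] [Module F V] [FiniteDimensional F V]
    (Q : QuadraticForm F V), (2 : F) ≠ 0 → (polarBilin Q).Nondegenerate → 7 ≤ finrank F V →
    ∀ X : Set (O Q), XC (commutator (O Q)) X → (∃ t ∈ X, t ≠ 1 ∧ t ≠ negOne Q) →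
      ∀ s ∈ commutator (O Q), s * s = 1 → s ∈ X

/-- **O5** (from SYM, O2): Sylow 2-subgroups of `O(Q)` have no odd elements in the normaliser -/
def O5Stmt : Prop :=
  ∀ (F V : Type) [Field F] [Fintype F] [AddCommGroup V] [Module F V] [FiniteDimensional F V]
    (Q : QuadraticForm F V), (2 : F) ≠ 0 → (polarBilin Q).Nondegenerate →
    ∀ (S : Sylow 2 (O Q)) (g : O Q),
      (∀ x ∈ (S : Subgroup (O Q)), g * x * g⁻¹ ∈ (S : Subgroup (O Q))) → Odd (orderOf g) → g = 1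

/-- **O6**: the supports of the quaternion groups -/
def O6Stmt : Prop :=
  ∀ (F V : Type) [Field F] [Fintype F] [AddCommGroup V] [Module F V] [FiniteDimensional F V]
    (Q : QuadraticForm F V), (2 : F) ≠ 0 → (polarBilin Q).Nondegenerate →
    ∀ (S : Subgroup (O Q)) (D : ODec Q S), 3 ≤ D.k → ∀ W : Submodule F V,
      QSup Q (S ⊓ commutator (O Q)) W ↔ ∃ a b, a ≠ b ∧
        Equiv.swap a b ∈ (D.P : Subgroup (Equiv.Perm (Fin D.k))) ∧
        W = pl (D.e a) (D.f a) ⊔ pl (D.e b) (D.f b)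

/-- **O7** (from SYM, O2, O5, O6): the same as O5 for `Ω` -/
def O7Stmt : Prop :=
  ∀ (F V : Type) [Field F] [Fintype F] [AddCommGroup V] [Module F V] [FiniteDimensional F V]
    (Q : QuadraticForm F V), (2 : F) ≠ 0 → (polarBilin Q).Nondegenerate → 7 ≤ finrank F V →
    ∀ (S : Sylow 2 (O Q)) (g : O Q),
      (∀ x ∈ (S : Subgroup (O Q)) ⊓ commutator (O Q),
        g * x * g⁻¹ ∈ (S : Subgroup (O Q)) ⊓ commutator (O Q)) → Odd (orderOf g) → g = 1

end Cfsg.Agent.H37.FK
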