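import Cfsg.Agent.H37.FkO
import Cfsg.Agent.H37.FkTF

/-!
# S5161: from the orthogonal group to `PΩ`
-/

set_option autoImplicit false

namespace Cfsg.Agent.H37.FK

open Cfsg Subgroup QuadraticMap Module H30

universe u

theorem good_omega (o2 : O2Stmt) (o3 : O3Stmt) (o4 : O4Stmt) (o7 : O7Stmt) {F V : Type} [Field F]
    [Fintype F] [AddCommGroup V] [Module F V] [FiniteDimensional F V] (Q : QuadraticForm F V)
    (h2 : (2 : F) ≠ 0) (hQ : (polarBilin Q).Nondegenerate) (h7 : 7 ≤ finrank F V) :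
    Good (commutator (O Q) ⧸ center (commutator (O Q))) := by
  have : Finite V := Module.finite_of_finite F
  have : Finite (O Q) := Finite.of_injective (fun g : O Q => (g.1 : V → V))
    fun a b e => O_ext (congrFun e)
  have hc : ∀ g : commutator (O Q), g ∈ center (commutator (O Q)) ↔
      (g : O Q) = 1 ∨ (g : O Q) = negOne Q := by
    obtain ⟨e, f, h⟩ := exists_isHyp_of_three_le hQ (by omega)
    rw [commutator_eq_eichGroup hQ (not_isExc_of_two h2) (by omega)]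
    exact mem_center_eichGroup_iff hQ h (by omega)
  set π := QuotientGroup.mk' (center (commutator (O Q)))
  have hk : IsPGroup 2 π.ker := isPGroup_of_two fun x hx => Two.of_sq (Subtype.ext (by
    rcases (hc x).1 (by simpa [π] using hx) with e | e
    · simp [e]
    · simp [e, negOne_mul_self]))
  refine ⟨nsc_of_xc fun X hX ⟨x, hx, x1⟩ y hy => ?_, NS.ofp fun S g hg ho x hx => ?_⟩
  · have h1 := hX.comap π hk
    have h3 : XC (commutator (O Q)) (Subtype.val '' (π ⁻¹' X)) :=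
      { sub := by rintro _ ⟨x, -, rfl⟩; exact x.2
        two := by rintro _ ⟨x, hx, rfl⟩; exact (h1.two x hx).map (commutator (O Q)).subtype
        one := ⟨1, h1.one, rfl⟩
        conj := by
          rintro _ ⟨x, hx, rfl⟩ g hg
          exact ⟨_, h1.conj x hx ⟨g, hg⟩ trivial, rfl⟩
        mul := by
          rintro P hP _ ⟨x, hx, rfl⟩ _ ⟨y, hy, rfl⟩ a b
          exact ⟨_, h1.mul _ (hP.comap_subtype) x hx y hy a b, rfl⟩ }
    obtain ⟨x, rfl⟩ := QuotientGroup.mk'_surjective _ x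
    have h4 := o4 F V Q h2 hQ h7 _ h3 ⟨x, ⟨x, hx, rfl⟩, not_or.1 fun e =>
      x1 ((QuotientGroup.eq_one_iff x).2 ((hc x).2 e))⟩
    obtain ⟨y, rfl⟩ := QuotientGroup.mk'_surjective _ y
    have h5 : Two y.1 := by
      obtain ⟨k, e⟩ := hy
      obtain ⟨l, e'⟩ := Two.of_mem hk (x := y ^ 2 ^ k) (by rw [MonoidHom.mem_ker, map_pow, e])
      exact Two.map ⟨k + l, by rw [pow_add, pow_mul, e']⟩ (commutator (O Q)).subtype
    obtain ⟨S, hS⟩ := h5.zpowers.exists_le_sylow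
    obtain ⟨D⟩ := o2 F V Q h2 hQ S
    obtain ⟨z, hz, e⟩ := h3.closure_sub S.isPGroup' (fun s hs => h4 s hs.1.2 hs.2)
      (fun s hs => hs.1.1) _ (o3 F V Q h2 hQ S D (by have := D.dim; have := D.m2; omega)
        ⟨hS (mem_zpowers _), y.2⟩)
    exact (Subtype.ext e : z = y) ▸ hz
  · obtain ⟨R, hR⟩ := ((S.isPGroup'.comap_of_ker_isPGroup π hk).map
      (commutator (O Q)).subtype).exists_le_sylow
    have h1 : ∀ y : commutator (O Q), y.1 ∈ (R : Subgroup (O Q)) ↔ π y ∈ (S : Subgroup _) := by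
      have h3 := S.is_maximal' ((R.isPGroup'.comap_subtype (K := commutator (O Q))).map π)
        fun s hs => by
          obtain ⟨s, rfl⟩ := QuotientGroup.mk'_surjective _ s
          exact ⟨s, hR ⟨s, hs, rfl⟩, rfl⟩
      exact fun y => ⟨fun h => h3.le ⟨y, h, rfl⟩, fun h => hR ⟨y, h, rfl⟩⟩
    obtain ⟨g, rfl⟩ := QuotientGroup.mk'_surjective _ g
    obtain ⟨k, m, hm, e⟩ := Nat.exists_eq_two_pow_mul_odd (orderOf_pos g.1).ne'
    have h3 : ∀ n : ℕ, ∀ y ∈ (R : Subgroup (O Q)) ⊓ commutator (O Q),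
        g.1 ^ n * y * (g.1 ^ n)⁻¹ ∈ (R : Subgroup (O Q)) ⊓ commutator (O Q) := fun n => by
      induction n with
      | zero => simp
      | succ n ih =>
        intro y hy
        have h4 := ih y hy
        have h5 := (h1 (g * ⟨_, h4.2⟩ * g⁻¹)).2 (by
          rw [map_mul, map_mul, map_inv]
          exact hg _ ((h1 ⟨_, h4.2⟩).1 h4.1))
        have e1 : g.1 ^ (n + 1) * y * (g.1 ^ (n + 1))⁻¹ =
            g.1 * (g.1 ^ n * y * (g.1 ^ n)⁻¹) * g.1⁻¹ := by group
        rw [e1]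
        exact mem_inf.2 ⟨h5, mul_mem (mul_mem g.2 h4.2) (inv_mem g.2)⟩
    have h4 := o7 F V Q h2 hQ h7 R _ (h3 (2 ^ k)) (hm.of_dvd_nat (orderOf_dvd_of_pow_eq_one (by
      rw [← pow_mul, ← e, pow_orderOf_eq_one])))
    rw [(Two.map (⟨k, Subtype.ext h4⟩ : Two g) π).eq_one ho]
    simp

theorem good_pomega (o2 : O2Stmt) (o3 : O3Stmt) (o4 : O4Stmt) (o7 : O7Stmt) {F ι : Type} [Field F]
    [Fintype F] [Fintype ι] [DecidableEq ι] (Q : QuadraticForm F (ι → F)) (h2 : (2 : F) ≠ 0)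
    (hQ : (polarBilin Q).Nondegenerate) (h7 : 7 ≤ Fintype.card ι) {G : Type u} [Group G] [Finite G]
    (e : G ≃* POmega F ⇑Q) : Good G :=
  (good_omega o2 o3 o4 o7 Q h2 hQ (by rwa [finrank_pi'])).congr
    (e.trans (H28.centerQuotEquiv (omegaEquivO Q)))

theorem orth_of (o2 : O2Stmt) (o3 : O3Stmt) (o4 : O4Stmt) (o7 : O7Stmt) : OrthStmt.{u} := by
  rintro G _ _ p hp h2 (⟨F, _, _, _, m, hm, -, ⟨e⟩⟩ | ⟨F, _, _, _, m, hm, ⟨e⟩⟩ |
    ⟨F, _, _, _, m, a, b, hm, hab, ⟨e⟩⟩) <;>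
    have h := two_ne_zero_iff_odd_card.2 (odd_card (F := F) hp h2)
  · exact good_pomega o2 o3 o4 o7 (qOdd F m) h (qOdd_nondegenerate h m) (by simp; omega) e
  · exact good_pomega o2 o3 o4 o7 (qPlus F m) h (qPlus_nondegenerate m) (by simp; omega) e
  · exact good_pomega o2 o3 o4 o7 (qMinus F (m - 1) a b) h (qMinus_nondegenerate _ hab)
      (by simp; omega) e

end Cfsg.Agent.H37.FK
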