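import Cfsg.Agent.H99.HNDefs
import Cfsg.Agent.H57.D8Sym
import Cfsg.Agent.H49.Monster3

/-! Project HN3, piece L1. -/

set_option autoImplicit false
set_option synthInstance.maxSize 2000

universe u

namespace Cfsg.Agent.H37.HnL

open Cfsg Subgroup Equiv Cfsg.Agent.H99.HN Cfsg.Agent.H57 Cfsg.Agent.H63 Cfsg.Agent.H67
open Cfsg.Agent.H91 (SL25 slX slY)
open Cfsg.Agent.H67.T3 (slF)

theorem s6_ten : ∀ g : Perm (Fin 6), g ^ 10 = 1 → g ^ 5 = 1 ∨ g ^ 2 = 1 := by decide +kernel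

theorem abs {X : Type*} [Group X] [Finite X] {a b t r : X} (ha : a ^ 3 = 1) (hc : Commute a b)
    (a1 : a ≠ 1) (h27 : ¬ 27 ∣ Nat.card X) (tt : t * t = 1) (rr : r * r = 1)
    (ta : t * a * t⁻¹ = a) (tb : t * b * t⁻¹ = b⁻¹) (ra : r * a * r⁻¹ = b)
    (nc : ¬ IsConj a (a * b))
    (hA : ∀ M : Subgroup X, a ∈ M → b ∈ M → ∀ g, g * a * g⁻¹ = a → g ∈ M ∨ g * t ∈ M)
    (hB : ∀ M : Subgroup X, a ∈ M → b ∈ M → r ∈ M → ∀ g, g * (a * b) * g⁻¹ = a * b → g ∈ M)
    {x : X} (hx : x ^ 5 = 1) (hxy : Commute x r) : x = 1 := by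
  classical
  have : Fact (Nat.Prime 3) := ⟨Nat.prime_three⟩
  have hb : b ^ 3 = 1 := by rw [← ra, conj_pow, ha]; group
  have b1 : b ≠ 1 := fun e => a1 (by simpa [e] using ra)
  have aa : a ≠ a⁻¹ := fun e => a1 (mul_eq_left.1 ((sq a).symm.trans ((sq_eq_inv_of_cube ha).trans e.symm)))
  have ab : b ≠ a := by rintro rfl; exact aa (ta.symm.trans tb)
  have ab' : b ≠ a⁻¹ := by
    rintro rfl
    rw [conj_inv_of ta, inv_inv] at tb
    exact aa tb.symm
  set Q := closure {a, b} with hQ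
  have ma : a ∈ Q := subset_closure (by simp)
  have mb : b ∈ Q := subset_closure (by simp)
  have cm : IsMulCommutative Q := isMulCommutative_closure (by
    rintro _ (rfl | rfl) _ (rfl | rfl)
    exacts [rfl, hc, hc.symm, rfl])
  have he : ∀ s ∈ Q, s ^ 3 = 1 := fun s hs => by
    induction hs using closure_induction with
    | mem x h => rcases h with rfl | rfl <;> assumption
    | one => exact one_pow _
    | mul x y h1 h2 i j =>
      rw [Commute.mul_pow (comm_of_isMulCommutative cm h1 h2), i, j, mul_one]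
    | inv x _ i => rw [inv_pow, i, inv_one]
  have hp : IsPGroup 3 Q := fun s => ⟨1, Subtype.ext (he s s.2)⟩
  have h9 : Nat.card Q = 9 := by
    obtain ⟨k, hk⟩ := IsPGroup.iff_card.1 hp
    have h1 := card_lt_of_lt (lt_of_le_of_ne (zpowers_le.2 ma) fun e => by
      have h2 : b ∈ zpowers a := e ▸ mb
      rw [mem_zpowers_iff_mem_range_orderOf, orderOf_eq_three ha a1] at h2
      obtain ⟨i, hi, rfl⟩ := Finset.mem_image.1 h2
      have := Finset.mem_range.1 hi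
      interval_cases i
      exacts [b1 (pow_zero _), ab (pow_one _), ab' (sq_eq_inv_of_cube ha)])
    rw [Nat.card_zpowers, orderOf_eq_three ha a1, hk] at h1
    rw [hk]
    rcases k with _ | _ | _ | k
    · omega
    · omega
    · rfl
    · exact absurd ((Dvd.intro_left (3 ^ k) (by rw [hk]; ring)).trans (card_subgroup_dvd_card Q)) h27
  let P : Sylow 3 X := hp.toSylow fun ⟨c, h⟩ => h27 ⟨c, by rw [← Q.card_mul_index, h9, h]; ring⟩
  have hn : Nine Q a b := exists_nine h9 cm he ma a1 mb b1 ab ab'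
  have nm : ∀ g, g * a * g⁻¹ ∈ Q → g * b * g⁻¹ ∈ Q → g ∈ N[Q] := fun g h1 h2 =>
    mem_normalizer_fintype fun s hs => by
      obtain ⟨i, j, -, -, rfl⟩ := hn.exists_ee hs
      rw [Nine.conj_ee]
      exact mul_mem (pow_mem h1 _) (pow_mem h2 _)
  have rb := conj_conj_of_invol rr ra
  have tN : t ∈ N[Q] := nm t (ta.symm ▸ ma) (tb.symm ▸ inv_mem mb)
  have rN : r ∈ N[Q] := nm r (ra.symm ▸ mb) (rb.symm ▸ ma)
  have cj : ∀ {s s' n : X}, n ∈ N[Q] → n * s * n⁻¹ = s' → C1[s] ≤ N[Q] → C1[s'] ≤ N[Q] :=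
    fun {s s' n} h1 e h g hg => by
      have h2 := h (x := n⁻¹ * g * n) (mem_centralizer_singleton_iff.2 (by
        have := mem_centralizer_singleton_iff.1 hg
        rw [← e] at this
        calc _ = n⁻¹ * (g * (n * s * n⁻¹)) * n := by group
          _ = _ := by rw [this]; group))
      simpa [mul_assoc] using mul_mem (mul_mem h1 h2) (inv_mem h1)
  have c1 : C1[a] ≤ N[Q] := fun g hg =>
    (hA Q ma mb g (mul_inv_eq_iff_eq_mul.2 (mem_centralizer_singleton_iff.1 hg))).elim (le_normalizer ·)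
      fun h => (mul_mem_cancel_right tN).1 (le_normalizer h)
  have c2 : C1[a * b] ≤ N[Q] := fun g hg =>
    hB _ (le_normalizer ma) (le_normalizer mb) rN g
      (mul_inv_eq_iff_eq_mul.2 (mem_centralizer_singleton_iff.1 hg))
  have e1 : t * (a * b) * t⁻¹ = a * b⁻¹ := conj_mul_of ta tb
  have e2 : r * (a * b⁻¹) * r⁻¹ = a⁻¹ * b := by
    rw [conj_mul_of ra (conj_inv_of rb), hc.inv_left.eq]
  have e3 : t * (a⁻¹ * b) * t⁻¹ = a⁻¹ * b⁻¹ := conj_mul_of (conj_inv_of ta) tb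
  have e4 : r * b⁻¹ * r⁻¹ = a⁻¹ := conj_inv_of rb
  have cs : ∀ s ∈ Q, s = 1 ∨ (s = a ∨ s = a⁻¹ ∨ s = b ∨ s = b⁻¹) ∨
      s = a * b ∨ s = a * b⁻¹ ∨ s = a⁻¹ * b ∨ s = a⁻¹ * b⁻¹ := fun s hs => by
    obtain ⟨i, j, hi, hj, rfl⟩ := hn.exists_ee hs
    interval_cases i <;> interval_cases j <;>
      simp [ee, sq_eq_inv_of_cube ha, sq_eq_inv_of_cube hb]
  have tis : TIS P := ⟨cm, fun s hs h1 => by
    rcases cs s hs with rfl | (rfl | rfl | rfl | rfl) | rfl | rfl | rfl | rfl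
    exacts [absurd rfl h1, c1, cj rN e4 (cj tN tb (cj rN ra c1)), cj rN ra c1, cj tN tb (cj rN ra c1),
      c2, cj tN e1 c2, cj rN e2 (cj tN e1 c2), cj tN e3 (cj rN e2 (cj tN e1 c2))]⟩
  have h72 : Nat.card N[(P : Subgroup X)] = 72 := by
    have i1 := isConj_iff.2 ⟨r, ra⟩
    have i2 := i1.trans (isConj_iff.2 ⟨t, tb⟩)
    have j1 := isConj_iff.2 ⟨t, e1⟩
    have j2 := j1.trans (isConj_iff.2 ⟨r, e2⟩)
    have h4 : {y | IsConj a y ∧ y ∈ (P : Subgroup X)} = {a, a⁻¹, b, b⁻¹} := by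
      ext y
      refine ⟨fun ⟨h1, h2⟩ => ?_, ?_⟩
      · rcases cs y h2 with rfl | h | rfl | rfl | rfl | rfl
        exacts [absurd (isConj_one_left.1 h1) a1, h, absurd h1 nc, absurd (h1.trans j1.symm) nc,
          absurd (h1.trans j2.symm) nc, absurd (h1.trans (j2.trans (isConj_iff.2 ⟨t, e3⟩)).symm) nc]
      rintro (rfl | rfl | rfl | rfl)
      exacts [⟨.refl _, ma⟩, ⟨i2.trans (isConj_iff.2 ⟨r, e4⟩), inv_mem ma⟩, ⟨i1, mb⟩, ⟨i2, inv_mem mb⟩]
    have h5 : ({a, a⁻¹, b, b⁻¹} : Set X).ncard = 4 := by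
      obtain ⟨e, rfl, rfl, he⟩ := hn.coord
      rw [Set.ncard_insert_of_notMem (by simp [he.eq, he.inv]),
        Set.ncard_insert_of_notMem (by simp [he.eq, he.inv]), Set.ncard_pair (by simp [he.eq, he.inv])]
    have le : Q ≤ C1[a] := fun _ hx => mem_centralizer_singleton_iff.2 (hn.comm' hx ma)
    have tC : t ∈ C1[a] := mem_centralizer_singleton_iff.2 (mul_inv_eq_iff_eq_mul.1 ta)
    have tQ : t ∉ Q := fun ht => by
      rw [hn.comm' ht mb, mul_inv_cancel_right] at tb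
      exact aa (rb.symm.trans (tb ▸ e4))
    have h6 : Q.relIndex C1[a] = 2 := relIndex_eq_two_iff.2 ⟨t, tC, fun g hg => by
      rcases hA Q ma mb g (mul_inv_eq_iff_eq_mul.2 (mem_centralizer_singleton_iff.1 hg)) with h | h
      · exact .inr ⟨h, fun h' => tQ ((mul_mem_cancel_left h).1 h')⟩
      · exact .inl ⟨h, fun h' => tQ ((mul_mem_cancel_left h').1 h)⟩⟩
    rw [tis.card_normalizer ma a1, h4, h5, ← card_mul_relIndex le, h9, h6]
  rcases (DS.mk tis hn h72 tt rr ta tb ra).normal_or_sym with h | ⟨⟨e⟩⟩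
  · rw [normalizer_eq_top, card_top] at h72
    exact orderOf_eq_one_iff.1 (Nat.eq_one_of_dvd_coprimes (show Nat.Coprime 5 72 by decide)
      (orderOf_dvd_of_pow_eq_one hx) (h72 ▸ orderOf_dvd_natCard x))
  have y2 : r ^ 2 = 1 := by rw [sq, rr]
  rcases s6_ten (e (x * r)) (by
    rw [← map_pow, hxy.mul_pow, show 10 = 5 * 2 from rfl, pow_mul, hx, pow_mul', y2]; simp) with h | h
  · rw [← map_pow, e.map_eq_one_iff, hxy.mul_pow, hx, one_mul, show 5 = 2 * 2 + 1 from rfl, pow_succ,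
      pow_mul, y2, one_pow, one_mul] at h
    exact absurd (by simpa [h] using ra.symm) ab
  · rw [← map_pow, e.map_eq_one_iff, hxy.mul_pow, y2, mul_one] at h
    rw [← hx, show 5 = 2 * 2 + 1 from rfl, pow_succ, pow_mul, h]; simp

theorem sl_max : ∀ x : SL25, x ^ 3 = 1 → x = 1 ∨ x = slX ∨ x = slX⁻¹ ∨
    ∃ w ∈ ([[0, 0, 2, 1, 2, 2], [0, 0, 2, 2, 1, 2], [0, 2, 1, 0, 2, 2, 0], [0, 2, 2, 1, 0, 2, 0],
      [1, 0, 1, 2, 1, 2, 2], [1, 0, 1, 2, 2, 1, 2], [2, 1, 2], [1, 2, 1, 2], [2, 1, 2, 1],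
      [2, 2, 1, 2, 2], [0, 2, 2, 1, 2, 0], [1, 0, 2, 1, 2, 0]] : List (List (Fin 3))),
      (w.map ![slX, slF, x]).prod = slY := by decide +kernel

theorem sl_cases {H : Subgroup SL25} (hX : slX ∈ H) (hF : slF ∈ H) (hY : slY ∉ H) {k : SL25}
    (hk : k ∈ H) : k * slX = slX * k ∨ k * slF * slX = slX * (k * slF) := by
  rcases sl_max (k * slX * k⁻¹) (by rw [conj_pow, H91.slX_pow]; group) with h | h | h | ⟨w, -, h⟩
  · exact absurd (by simpa using h) H91.slX_ne_one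
  · exact .inl (mul_inv_eq_iff_eq_mul.1 h)
  · refine .inr (mul_inv_eq_iff_eq_mul.1 ?_)
    calc _ = k * (slF * slX * slF⁻¹) * k⁻¹ := by group
      _ = _ := by rw [T3.slF_X, conj_inv_of h, inv_inv]
  refine absurd (h ▸ list_prod_mem fun x hx => ?_) hY
  obtain ⟨i, -, rfl⟩ := List.mem_map.1 hx
  fin_cases i
  exacts [hX, hF, mul_mem (mul_mem hk hX) (inv_mem hk)]

/-- generators of the centralizer of `u0` and `c4` -/
def gn : Fin 8 → A12 := ![dd 0 1 2 3, dd 2 3 4 5, dd 4 5 6 7, x2, x4, c1 * c2, σ0, c4]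

theorem gn_comm : ∀ i, gn i * u0 = u0 * gn i ∧ gn i * c4 = c4 * gn i := by decide +kernel

theorem red {M : Subgroup A12} (hM : ∀ i, gn i ∈ M) {S : List (Fin 12)} (p : Fin 12)
    (W : List (List (Fin 8))) (hp : ∀ s ∈ S, p ≠ s ∧ p ≠ u0.1 s)
    (hW : ∀ y, (u0.1 y = y ↔ u0.1 p = p) → (c4.1 y = y ↔ c4.1 p = p) →
      (∀ s ∈ S, y ≠ s ∧ y ≠ u0.1 s) →
      ∃ w ∈ W, (w.map gn).prod.1 p = y ∧ ∀ s ∈ S, (w.map gn).prod.1 s = s)
    (h : ∀ γ ∈ C1[u0] ⊓ C1[c4], (∀ s ∈ p :: S, γ.1 s = s) → γ ∈ M) :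
    ∀ γ ∈ C1[u0] ⊓ C1[c4], (∀ s ∈ S, γ.1 s = s) → γ ∈ M := fun γ hγ hS => by
  have k : ∀ {c : A12}, γ ∈ C1[c] → ∀ y, γ.1 (c.1 y) = c.1 (γ.1 y) := fun hc y =>
    congrArg (fun g : A12 => g.1 y) (mem_centralizer_singleton_iff.1 hc)
  obtain ⟨w, -, h1, h2⟩ := hW (γ.1 p) (by rw [← k hγ.1, γ.1.apply_eq_iff_eq])
    (by rw [← k hγ.2, γ.1.apply_eq_iff_eq]) fun s hs =>
      ⟨fun e => (hp s hs).1 (γ.1.injective (e.trans (hS s hs).symm)),
        fun e => (hp s hs).2 (γ.1.injective (by rw [e, k hγ.1, hS s hs]))⟩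
  have m : ∀ N : Subgroup A12, (∀ i, gn i ∈ N) → (w.map gn).prod ∈ N := fun N hN =>
    list_prod_mem fun x hx => by obtain ⟨i, -, rfl⟩ := List.mem_map.1 hx; exact hN i
  refine (mul_mem_cancel_left (inv_mem (m M hM))).1 (h _ (mul_mem (inv_mem (m _ fun i =>
    ⟨mem_centralizer_singleton_iff.2 (gn_comm i).1, mem_centralizer_singleton_iff.2 (gn_comm i).2⟩)) hγ)
    fun s hs => ?_)
  change (w.map gn).prod.1⁻¹ (γ.1 s) = s
  rw [Perm.inv_eq_iff_eq]
  rcases List.mem_cons.1 hs with rfl | hs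
  exacts [h1.symm, (hS s hs).trans (h2 s hs).symm]

theorem cen_gen {M : Subgroup A12} (hM : ∀ i, gn i ∈ M) {γ : A12} (h : γ ∈ C1[u0] ⊓ C1[c4]) :
    γ ∈ M := by
  refine red hM (S := []) 8 [[], [7], [7, 7]] (by simp) (by decide +kernel)
    (red hM 0 [[], [0], [3], [0, 3], [4], [1, 4], [3, 4], [2, 3, 4]] (by decide) (by decide +kernel)
    (red hM 2 [[], [1], [6, 5], [1, 6, 5], [3, 5], [2, 3, 5]] (by decide) (by decide +kernel)
    (red hM 4 [[], [2], [3, 6], [2, 3, 6]] (by decide) (by decide +kernel) fun γ hγ hS => ?_)))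
    γ h (by simp)
  have k : ∀ {c : A12}, γ ∈ C1[c] → ∀ y, γ.1 y = y → γ.1 (c.1 y) = c.1 y := fun hc y e =>
    (congrArg (fun g : A12 => g.1 y) (mem_centralizer_singleton_iff.1 hc)).trans (congrArg _ e)
  have k' : ∀ {c : A12}, γ ∈ C1[c] → c.1 11 = 11 → c.1 (γ.1 11) = γ.1 11 := fun hc e =>
    (congrArg (fun g : A12 => g.1 11) (mem_centralizer_singleton_iff.1 hc)).symm.trans (congrArg _ e)
  have f : ∀ x, x ≠ 6 → x ≠ 7 → γ.1 x = x := fun x h6 h7 => by
    have f9 := k hγ.2 8 (hS 8 (by simp))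
    fin_cases x
    exacts [hS 0 (by simp), k hγ.1 0 (hS 0 (by simp)), hS 2 (by simp), k hγ.1 2 (hS 2 (by simp)),
      hS 4 (by simp), k hγ.1 4 (hS 4 (by simp)), absurd rfl h6, absurd rfl h7, hS 8 (by simp), f9,
      k hγ.2 9 f9, (by decide : ∀ y, u0.1 y = y → c4.1 y = y → y = 11) _ (k' hγ.1 rfl) (k' hγ.2 rfl)]
  by_cases h6 : γ.1 6 = 6
  · rw [show γ = 1 from Subtype.ext (Equiv.ext fun x => by
      by_cases e : x = 6
      · exact e ▸ h6
      by_cases e' : x = 7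
      exacts [e' ▸ k hγ.1 6 h6, f x e e'])]
    exact one_mem _
  have h7 : γ.1 6 = 7 := by
    by_contra e
    exact h6 (γ.1.injective (f _ h6 e))
  have h8 : γ.1 = swap 6 7 := Equiv.ext fun x => by
    by_cases e : x = 6
    · subst e; exact h7
    by_cases e' : x = 7
    · subst e'
      exact (congrArg (fun g : A12 => g.1 6) (mem_centralizer_singleton_iff.1 hγ.1)).trans
        (congrArg u0.1 h7)
    rw [f x e e', swap_apply_of_ne_of_ne e e']
  exact absurd (h8 ▸ Perm.mem_alternatingGroup.1 γ.2) (by decide)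

/-- **L1** -/
theorem l1 : L1Stmt.{u} := by
  intro G _ _ U cl ef ⟨f, fL, f5, f1, fσ⟩
  by_contra hn
  have : Fact (Nat.Prime 3) := ⟨Nat.prime_three⟩
  have hX : slX ∈ U.L.comap U.ι := mem_comap.2 (U.ιX ▸ ef.nA _ (by decide +kernel))
  have hY : slY ∉ U.L.comap U.ι := fun h => hn fun k => (closure_le (U.L.comap U.ι)).2
    (by rintro _ (rfl | rfl); exacts [hX, h]) (H91.closure_slXY ▸ mem_top k)
  let E := U.E.subgroupOf U.L
  have : E.Normal := (normal_subgroupOf_iff_le_normalizer ef.EL).2 inf_le_right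
  have cE : Nat.card E = 512 := (Nat.card_congr (subgroupOfEquivOfLe ef.EL).toEquiv).trans ef.card
  let π := QuotientGroup.mk' E
  have hπ : ∀ x, π x = 1 ↔ x.1 ∈ U.E := QuotientGroup.eq_one_iff
  let ρ : C1[u0] →* U.L := (U.ψ.comp C1[u0].subtype).codRestrict _ fun γ =>
    ef.nA γ (mem_centralizer_singleton_iff.1 γ.2)
  have lift : ∀ {x y g : U.L}, x ^ 3 = 1 → y ^ 3 = 1 → π g * π x * (π g)⁻¹ = π y →
      ∃ g', π g' = π g ∧ g' * x * g'⁻¹ = y := fun {x y g} hx hy e => by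
    obtain ⟨n, h1, h2⟩ := H49.exists_conj_of_coprime (p := 3) (N := E) (a := g * x * g⁻¹) (b := y)
      (by rw [cE]; decide) (fun n hn => this.conj_mem' n hn _) ((QuotientGroup.eq_one_iff _).1
        (show π _ = 1 by simp only [map_mul, map_inv, e, mul_inv_cancel]))
      (by rw [conj_pow, hx]; group) hy
    exact ⟨n * g, by rw [map_mul, (hπ n).2 h1, one_mul], by rw [← h2]; group⟩
  let a : C1[u0] := ⟨c1 * c2 * c4, mem_centralizer_singleton_iff.2 (by decide +kernel)⟩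
  let b : C1[u0] := ⟨(c1 * c2 * c4⁻¹)⁻¹, mem_centralizer_singleton_iff.2 (by decide +kernel)⟩
  let r : C1[u0] := ⟨σ0, mem_centralizer_singleton_iff.2 (by decide +kernel)⟩
  let d : U.L := ⟨U.d, ef.nd⟩
  have a3 : ρ a ^ 3 = 1 := by rw [← map_pow, show a ^ 3 = 1 from Subtype.ext (by decide +kernel), map_one]
  have ab3 : ρ (a * b) ^ 3 = 1 := by
    rw [← map_pow, show (a * b) ^ 3 = 1 from Subtype.ext (by decide +kernel), map_one]
  have hb : (ρ b : G) = U.ι slX⁻¹ := by rw [map_inv, U.ιX, ← map_inv]; rfl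
  have key : ∀ M : Subgroup (U.L ⧸ E), π (ρ a) ∈ M → π (ρ b) ∈ M → ∀ (g : U.L) (i : ℕ) k,
      g.1 = U.z ^ i * U.ι k → k * slX = slX * k → π g ∈ M := fun M h1 h2 g i k e hk => by
    have m := fun j : ℕ => mul_mem (pow_mem h1 i) (pow_mem (inv_mem h2) j)
    have e1 : ∀ j : ℕ, U.z ^ i * U.ι (slX ^ j) = (ρ a ^ i * (ρ b)⁻¹ ^ j : U.L) := fun j => by
      push_cast
      rw [hb, map_inv, inv_inv, map_pow]; rfl
    obtain ⟨j, rfl | rfl⟩ := T3.sl_cent k hk
    · rw [show g = _ from Subtype.ext (e.trans (e1 j))]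
      simpa using m j
    · rw [show g = ρ a ^ i * (ρ b)⁻¹ ^ j.1 * ⟨U.u, ef.EL ef.uE⟩ from Subtype.ext (by
        rw [e, map_mul, ← mul_assoc, e1, U.ιu]; rfl), map_mul, (hπ ⟨U.u, _⟩).2 ef.uE]
      simpa using m j
  have := abs (a := π (ρ a)) (b := π (ρ b)) (t := π d) (r := π (ρ r)) (x := π ⟨f, fL⟩)
    (by rw [← map_pow, a3, map_one])
    (((show Commute a b from Subtype.ext (by decide +kernel)).map ρ).map π) (fun e => ?_)
    (fun h => cl.syl ((h.trans (card_quotient_dvd_card _)).trans (card_dvd_of_le inf_le_left)))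
    (by
      rw [← map_mul, hπ]
      change U.ι slF * U.ι slF ∈ _
      rw [← map_mul, T3.slF_sq, U.ιu]; exact ef.uE)
    (by rw [← map_mul, ← map_mul, show r * r = 1 from Subtype.ext (by decide +kernel)]; simp)
    (by rw [← map_mul, show d * ρ a = ρ a * d from Subtype.ext (U.ιz slF)]; simp)
    (by
      rw [← map_inv, ← map_inv, ← map_mul, ← map_mul]
      refine congrArg π (Subtype.ext ?_)
      push_cast
      rw [hb, ← map_inv, ← conj_inv_of T3.slF_X, map_mul, map_mul, map_inv, map_inv]; rfl)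
    (by
      simp only [← map_inv, ← map_mul]
      exact congrArg (π ∘ ρ) (Subtype.ext (by decide +kernel)))
    (fun h => ?_) (fun M h1 h2 g e => ?_) (fun M h1 h2 h3 g e => ?_)
    (by rw [← map_pow, show (⟨f, fL⟩ : U.L) ^ 5 = 1 from Subtype.ext f5, map_one])
    (commutatorElement_eq_one_iff_mul_comm.1 (by rw [← map_commutatorElement, hπ]; exact fσ))
  · exact f1 (orderOf_eq_one_iff.1 (Nat.eq_one_of_dvd_coprimes (show Nat.Coprime 5 512 by decide)
      (orderOf_dvd_of_pow_eq_one f5) (ef.card ▸ orderOf_dvd_card_of_mem ((hπ _).1 this))))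
  · obtain ⟨g, -, h⟩ := lift (g := 1) (y := 1) a3 (one_pow 3) (by simp [e])
    exact absurd (U.inj ((congrArg Subtype.val (show ρ a = 1 by simpa using h)).trans
      (map_one _).symm)) (by decide +kernel)
  · obtain ⟨g, e⟩ := isConj_iff.1 h
    obtain ⟨g, rfl⟩ := QuotientGroup.mk'_surjective E g
    obtain ⟨g, -, h⟩ := lift a3 ab3 (e.trans (by simp))
    exact U.nc ((U.ψ.map_isConj (isConj_iff.2 ⟨w0, by decide +kernel⟩)).trans
      (isConj_iff.2 ⟨g.1, congrArg Subtype.val h⟩).symm)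
  · obtain ⟨g, rfl⟩ := QuotientGroup.mk'_surjective E g
    obtain ⟨g, e, h⟩ := lift a3 a3 e
    obtain ⟨i, k, hk⟩ := U.dec g (mul_inv_eq_iff_eq_mul.1 (congrArg Subtype.val h))
      (mem_centralizer_singleton_iff.1 g.2.1)
    rw [← show π g = _ from e]
    exact (sl_cases hX ef.nd hY ((mul_mem_cancel_left (pow_mem (ρ a).2 i)).1 (hk ▸ g.2))).imp
      (key M h1 h2 g i k hk) fun h => map_mul π g d ▸ key M h1 h2 (g * d) i _
        (by rw [map_mul, ← mul_assoc]; exact congrArg (· * U.d) hk) h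
  obtain ⟨g, rfl⟩ := QuotientGroup.mk'_surjective E g
  obtain ⟨g, e, h⟩ := lift (g := g) ab3 ab3 (by rw [map_mul ρ, map_mul π]; exact e)
  have h4 : g.1 * U.ψ c4 = U.ψ c4 * g.1 := by
    have := conj_inv_of (show g.1 * U.ψ (a * b).1 * g.1⁻¹ = U.ψ (a * b).1 from congrArg Subtype.val h)
    rwa [← map_inv, show (a * b).1⁻¹ = c4 by decide +kernel, mul_inv_eq_iff_eq_mul] at this
  obtain ⟨γ, hγ⟩ := U.cA g h4
  have h5 : ∀ {c}, g.1 * U.ψ c = U.ψ c * g.1 → γ ∈ C1[c] := fun h =>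
    mem_centralizer_singleton_iff.2 (U.inj (by rw [map_mul, map_mul, hγ, h]))
  have m : ∀ c : C1[u0], π (ρ c) ∈ M → c.1 ∈ (M.comap (π.comp ρ)).map C1[u0].subtype :=
    fun c h => ⟨c, h, rfl⟩
  have hM : ∀ i, gn i ∈ (M.comap (π.comp ρ)).map C1[u0].subtype := fun i => by
    have m' : gn i ∈ Ep0 → gn i ∈ (M.comap (π.comp ρ)).map C1[u0].subtype := fun h =>
      m ⟨_, mem_centralizer_singleton_iff.2 (gn_comm i).1⟩ (by
        refine Set.mem_of_eq_of_mem ((hπ _).2 ?_) (one_mem M)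
        exact mem_sup_left (mem_map_of_mem U.ψ h))
    fin_cases i
    iterate 5 exact m' (subset_closure (by simp [gn]))
    · exact (show ((a * b⁻¹) ^ 2).1 = gn 5 by decide +kernel) ▸ m _ (by
        simpa using pow_mem (mul_mem h1 (inv_mem h2)) 2)
    · exact m r h3
    · exact (show (a * b)⁻¹.1 = gn 7 by decide +kernel) ▸ m _ (by
        simpa using inv_mem (mul_mem h1 h2))
  obtain ⟨c, hc, rfl⟩ := cen_gen hM ⟨h5 (mem_centralizer_singleton_iff.1 g.2.1), h5 h4⟩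
  rw [← show π g = _ from e, ← show ρ c = g from Subtype.ext hγ]
  exact hc

end Cfsg.Agent.H37.HnL
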