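import Mathlib
import Cfsg.Agent.H44.K5Defs

set_option autoImplicit false

namespace Cfsg.Agent.H37.K5Nei
open Cfsg.Agent.H44.K5 Matrix

theorem sq8 (w : ℤ) : (w % 2 = 1 ∧ w ^ 2 % 8 = 1) ∨ (w % 2 = 0 ∧ w ^ 2 % 4 = 0) := by
  have h : w % 4 = 0 ∨ w % 4 = 1 ∨ w % 4 = 2 ∨ w % 4 = 3 := by omega
  obtain ⟨k, hk⟩ : ∃ k, w = 4 * k + w % 4 := ⟨w / 4, by omega⟩
  rcases h with h | h | h | h <;> rw [h] at hk
  · right; have : w ^ 2 = 8 * (2 * k ^ 2) := by rw [hk]; ring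
    omega
  · left; have : w ^ 2 = 8 * (2 * k ^ 2 + k) + 1 := by rw [hk]; ring
    omega
  · right; have : w ^ 2 = 8 * (2 * k ^ 2 + 2 * k) + 4 := by rw [hk]; ring
    omega
  · left; have : w ^ 2 = 8 * (2 * k ^ 2 + 3 * k + 1) + 1 := by rw [hk]; ring
    omega

set_option maxHeartbeats 1000000 in
theorem fin (p : ℤ) (hp : Prime p) (hp1 : 1 < p) (ho : p % 2 = 1) (x y z t j c k u0 u1 u2 u3 u4 w0 : ℤ)
    (hc : c * (x + p * j) = 1 + p * k)
    (h0 : w0 = u0 * p ^ 2 + u1 * (c + p * k * (x + p * j)) - p * y * u2 - p * z * u3 - p * t * u4)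
    (hw : w0 % 2 = 1)
    (hn : w0 ^ 2 + u1 ^ 2 + (c * y * u1 + p * u2) ^ 2 + (c * z * u1 + p * u3) ^ 2 +
      (c * t * u1 + p * u4) ^ 2 = p ^ 2) :
    ∃ a b c' d e : ℤ, ¬ p ∣ a ∧ p ∣ b - a * x ∧ p ∣ c' - a * y ∧ p ∣ d - a * z ∧ p ∣ e - a * t ∧
      p * a = a ^ 2 + b ^ 2 + c' ^ 2 + d ^ 2 + e ^ 2 := by
  obtain ⟨w2, h2⟩ : ∃ w, w = c * y * u1 + p * u2 := ⟨_, rfl⟩
  obtain ⟨w3, h3⟩ : ∃ w, w = c * z * u1 + p * u3 := ⟨_, rfl⟩
  obtain ⟨w4, h4⟩ : ∃ w, w = c * t * u1 + p * u4 := ⟨_, rfl⟩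
  rw [← h2, ← h3, ← h4] at hn
  have s0 := sq8 w0
  have s1 := sq8 u1
  have s2 := sq8 w2
  have s3 := sq8 w3
  have s4 := sq8 w4
  have sp := sq8 p
  have ev : u1 % 2 = 0 ∧ w2 % 2 = 0 ∧ w3 % 2 = 0 ∧ w4 % 2 = 0 := by omega
  obtain ⟨a, ha⟩ : ∃ a, p + w0 = 2 * a := ⟨(p + w0) / 2, by omega⟩
  obtain ⟨b, hb⟩ : ∃ b, u1 = 2 * b := ⟨u1 / 2, by omega⟩
  obtain ⟨c', hc'⟩ : ∃ b, w2 = 2 * b := ⟨w2 / 2, by omega⟩
  obtain ⟨d, hd⟩ : ∃ b, w3 = 2 * b := ⟨w3 / 2, by omega⟩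
  obtain ⟨e, he⟩ : ∃ b, w4 = 2 * b := ⟨w4 / 2, by omega⟩
  have two : ∀ n : ℤ, p ∣ 2 * n → p ∣ n := fun n h =>
    (hp.dvd_or_dvd h).resolve_left fun h => by have := Int.le_of_dvd (by norm_num) h; omega
  obtain ⟨r, hr⟩ : ∃ r, w0 = u1 * c + p * r :=
    ⟨u0 * p + u1 * k * (x + p * j) - y * u2 - z * u3 - t * u4, by rw [h0]; ring⟩
  refine ⟨a, b, c', d, e, ?_, two _ ⟨-x - r * x - u1 * k + u1 * c * j, ?_⟩, two _ ⟨u2 - y - r * y, ?_⟩,
    two _ ⟨u3 - z - r * z, ?_⟩, two _ ⟨u4 - t - r * t, ?_⟩, ?_⟩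
  · rintro ⟨s, hs⟩
    have e0 : w0 = p * (2 * s - 1) := by linear_combination ha + 2 * hs
    have hs0 : 1 ≤ (2 * s - 1) ^ 2 := by
      have : 2 * s - 1 ≠ 0 := by omega
      have := sq_pos_of_ne_zero this
      omega
    have hp2 : 0 < p ^ 2 := by positivity
    have e1 : p ^ 2 ≤ w0 ^ 2 := by rw [e0, mul_pow]; nlinarith only [hs0, hp2]
    have n1 := sq_nonneg u1
    have n2 := sq_nonneg w2
    have n3 := sq_nonneg w3
    have n4 := sq_nonneg w4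
    have z1 : u1 = 0 := (pow_eq_zero_iff two_ne_zero).mp (by linarith only [n1, n2, n3, n4, e1, hn])
    have z2 : w2 = 0 := (pow_eq_zero_iff two_ne_zero).mp (by linarith only [n1, n2, n3, n4, e1, hn])
    have z3 : w3 = 0 := (pow_eq_zero_iff two_ne_zero).mp (by linarith only [n1, n2, n3, n4, e1, hn])
    have z4 : w4 = 0 := (pow_eq_zero_iff two_ne_zero).mp (by linarith only [n1, n2, n3, n4, e1, hn])
    have e2 : w0 = u0 * p ^ 2 := by
      rw [z1] at h0 h2 h3 h4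
      linear_combination h0 + y * h2 + z * h3 + t * h4 - y * z2 - z * z3 - t * z4
    rw [z1, z2, z3, z4, e2] at hn
    have e3 : p ^ 2 * (u0 ^ 2 * p ^ 2) = p ^ 2 * 1 := by linear_combination hn
    have e4 := mul_left_cancel₀ hp2.ne' e3
    have : p ∣ 1 := ⟨u0 ^ 2 * p, by linear_combination -e4⟩
    have := Int.le_of_dvd (by norm_num) this
    omega
  · linear_combination -hb + x * ha - x * hr - u1 * hc
  · linear_combination -hc' + h2 + y * ha - y * hr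
  · linear_combination -hd + h3 + z * ha - z * hr
  · linear_combination -he + h4 + t * ha - t * hr
  · have e0 : w0 = 2 * a - p := by linarith
    rw [e0, hb, hc', hd, he] at hn
    linarith only [hn]

theorem nei (uni : UniStmt) : NeiStmt := by
  intro p hp hp2 x y z t hx ⟨s, hs⟩
  have hP : Prime (p : ℤ) := Nat.prime_iff_prime_int.mp hp
  have hp1 : (1 : ℤ) < p := by exact_mod_cast hp.one_lt
  have ho : (p : ℤ) % 2 = 1 := by have := hp.eq_two_or_odd; omega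
  generalize (p : ℤ) = q at *
  have h2x : ¬ q ∣ 2 * x := fun h => (hP.dvd_or_dvd h).elim
    (fun h => by have := Int.le_of_dvd (by norm_num) h; omega) hx
  obtain ⟨β, α, hab⟩ := (hP.irreducible.coprime_iff_not_dvd).mpr h2x
  obtain ⟨j, hj⟩ : ∃ j, j = -s * α := ⟨_, rfl⟩
  obtain ⟨X, hX⟩ : ∃ X, X = x + q * j := ⟨_, rfl⟩
  obtain ⟨c, hc0⟩ : ∃ c, c = 2 * α := ⟨_, rfl⟩
  obtain ⟨k, hk⟩ : ∃ k, k = -β + 2 * α * j := ⟨_, rfl⟩
  obtain ⟨m, hm0⟩ : ∃ m, m = s * β + j ^ 2 := ⟨_, rfl⟩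
  have hc : c * X = 1 + q * k := by rw [hc0, hX, hk]; linear_combination hab
  have hm : 1 + X ^ 2 + y ^ 2 + z ^ 2 + t ^ 2 = q ^ 2 * m := by
    rw [hX, hm0, hj]; linear_combination hs - q * s * hab
  let A : Matrix (Fin 5) (Fin 5) ℤ := !![q ^ 2, c + q * k * X, -q * y, -q * z, -q * t;
    c + q * k * X, c ^ 2 * m + k ^ 2 * (1 + X ^ 2), -k * X * y, -k * X * z, -k * X * t;
    -q * y, -k * X * y, y ^ 2 + 1, y * z, y * t;
    -q * z, -k * X * z, y * z, z ^ 2 + 1, z * t;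
    -q * t, -k * X * t, y * t, z * t, t ^ 2 + 1]
  have key : ∀ u : Fin 5 → ℤ, q ^ 2 * (u ⬝ᵥ A *ᵥ u) =
      (u 0 * q ^ 2 + u 1 * (c + q * k * X) - q * y * u 2 - q * z * u 3 - q * t * u 4) ^ 2 + u 1 ^ 2 +
        (c * y * u 1 + q * u 2) ^ 2 + (c * z * u 1 + q * u 3) ^ 2 + (c * t * u 1 + q * u 4) ^ 2 := by
    intro u
    simp [A, dotProduct, mulVec, Fin.sum_univ_five]
    linear_combination (-(u 1) ^ 2 * c ^ 2) * hm + (u 1) ^ 2 * (c * X - q * k + 1) * hc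
  have hq0 : q ≠ 0 := by omega
  let L : Matrix (Fin 5) (Fin 5) ℤ := !![q ^ 2, 0, 0, 0, 0; c + q * k * X, 1, 0, 0, 0;
    -q * y, 0, 1, 0, 0; -q * z, 0, 0, 1, 0; -q * t, 0, 0, 0, 1]
  let T : Matrix (Fin 5) (Fin 5) ℤ := !![1, 0, 0, 0, 0; 0, 1, c * y, c * z, c * t;
    0, 0, q, 0, 0; 0, 0, 0, q, 0; 0, 0, 0, 0, q]
  have hL : L.det = q ^ 2 := by
    rw [det_of_lowerTriangular L (by
      intro i j h; fin_cases i <;> fin_cases j <;> first | rfl | exact absurd h (by decide))]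
    simp [L, Fin.prod_univ_five]
  have hT : T.det = q ^ 3 := by
    rw [det_of_upperTriangular (M := T) (by
      intro i j h; fin_cases i <;> fin_cases j <;> first | rfl | exact absurd h (by decide))]
    simp [T, Fin.prod_univ_five]; ring
  have hB : (L * T) * (L * T)ᵀ = q ^ 2 • A := by
    ext i j
    fin_cases i <;> fin_cases j <;> simp [L, T, A, Matrix.mul_apply, Fin.sum_univ_five] <;>
      first | ring1 | linear_combination c ^ 2 * hm - (c * X - q * k + 1) * hc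
  have hdet : A.det = 1 := by
    have h := congrArg Matrix.det hB
    rw [det_mul, det_transpose, det_mul, hL, hT, det_smul, Fintype.card_fin] at h
    have h' : (q ^ 2) ^ 5 * A.det = (q ^ 2) ^ 5 * 1 := by linear_combination -h
    exact mul_left_cancel₀ (by positivity) h'
  obtain ⟨U, hU⟩ := uni 5 le_rfl A (by ext i j; fin_cases i <;> fin_cases j <;> rfl) (fun u hu => by
    by_contra hle
    have h := key u
    have h1 : q ^ 2 * (u ⬝ᵥ A *ᵥ u) ≤ 0 := mul_nonpos_of_nonneg_of_nonpos (sq_nonneg q) (not_lt.mp hle)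
    rw [h] at h1
    set a0 := u 0 * q ^ 2 + u 1 * (c + q * k * X) - q * y * u 2 - q * z * u 3 - q * t * u 4 with ha0
    set a2 := c * y * u 1 + q * u 2 with ha2
    set a3 := c * z * u 1 + q * u 3 with ha3
    set a4 := c * t * u 1 + q * u 4 with ha4
    have n0 := sq_nonneg a0
    have n1 := sq_nonneg (u 1)
    have n2 := sq_nonneg a2
    have n3 := sq_nonneg a3
    have n4 := sq_nonneg a4
    have z1 : u 1 = 0 := pow_eq_zero_iff (two_ne_zero) |>.mp (by linarith)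
    have z0 : a0 = 0 := pow_eq_zero_iff (two_ne_zero) |>.mp (by linarith)
    have z2 : a2 = 0 := pow_eq_zero_iff (two_ne_zero) |>.mp (by linarith)
    have z3 : a3 = 0 := pow_eq_zero_iff (two_ne_zero) |>.mp (by linarith)
    have z4 : a4 = 0 := pow_eq_zero_iff (two_ne_zero) |>.mp (by linarith)
    have y2 : u 2 = 0 := (mul_eq_zero.mp (by rw [ha2, z1] at z2; linarith : q * u 2 = 0)).resolve_left hq0
    have y3 : u 3 = 0 := (mul_eq_zero.mp (by rw [ha3, z1] at z3; linarith : q * u 3 = 0)).resolve_left hq0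
    have y4 : u 4 = 0 := (mul_eq_zero.mp (by rw [ha4, z1] at z4; linarith : q * u 4 = 0)).resolve_left hq0
    have y0 : u 0 = 0 := (mul_eq_zero.mp (by rw [ha0, z1, y2, y3, y4] at z0; linarith :
      u 0 * q ^ 2 = 0)).resolve_right (pow_ne_zero 2 hq0)
    exact hu (by ext i; fin_cases i <;> assumption)) hdet
  have hdU : U.det * U.det = 1 := by
    have h := congrArg Matrix.det hU
    rw [det_mul, det_mul, det_transpose, hdet, det_one] at h
    linear_combination h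
  have hodd : ∃ i, (Uᵀ * L) i 0 % 2 = 1 := by
    by_contra hne
    push Not at hne
    have h1 : (adjugate Uᵀ * (Uᵀ * L)) 0 0 = U.det * q ^ 2 := by
      rw [← Matrix.mul_assoc, adjugate_mul, det_transpose, smul_mul_assoc, Matrix.one_mul]
      simp [L]
    have h2 : (2 : ℤ) ∣ (adjugate Uᵀ * (Uᵀ * L)) 0 0 := by
      rw [Matrix.mul_apply]
      exact Finset.dvd_sum fun i _ => Dvd.dvd.mul_left (by have := hne i; omega) _
    rw [h1] at h2
    have h3 : (2 : ℤ) ∣ q ^ 2 := by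
      have := h2.mul_left U.det
      rwa [← mul_assoc, hdU, one_mul] at this
    have := Int.prime_two.dvd_of_dvd_pow h3
    omega
  obtain ⟨i, hi⟩ := hodd
  have h1 : (fun a => U a i) ⬝ᵥ A *ᵥ (fun a => U a i) = 1 := by
    have h := congrFun (congrFun hU i) i
    rw [Matrix.mul_assoc, one_apply_eq] at h
    exact h
  have h2 := key fun a => U a i
  rw [h1, mul_one] at h2
  refine fin q hP hp1 ho x y z t j c k (U 0 i) (U 1 i) (U 2 i) (U 3 i) (U 4 i) _ (hX ▸ hc) rfl ?_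
    (by rw [← hX]; exact h2.symm)
  rw [← hX, ← hi]
  congr 1
  simp [L, Matrix.mul_apply, Fin.sum_univ_five]; ring

end Cfsg.Agent.H37.K5Nei
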