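import Cfsg.Agent.H93.LT2Defs

/-! Type HH with `y ≠ 1`: the reduction of `HEStmt` to finite facts on a model of `S`. -/

set_option autoImplicit false

namespace Cfsg.Agent.H37.LtHE

open Subgroup Cfsg.Agent.H85 Cfsg.Agent.H93.LT

universe u

variable {G : Type u} [Group G]

theorem cn_mul (x y g : G) : cn (x * y) g = cn x g * cn y g := by simp [cn, mul_assoc]
theorem cn_inv (x g : G) : cn x⁻¹ g = (cn x g)⁻¹ := by simp [cn, mul_assoc]
theorem cn_cn (x g k : G) : cn (cn x g) k = cn x (g * k) := by simp [cn, mul_assoc]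
theorem cn_conj (x g k : G) : cn (cn x k) (cn g k) = cn (cn x g) k := by simp [cn, mul_assoc]
theorem cn_of {x g : G} (h : Commute x g) : cn x g = x := by rw [cn, mul_assoc, h.eq]; simp
theorem cm_of {x g : G} (h : cn x g = x) : Commute x g := by
  rw [cn, mul_assoc, inv_mul_eq_iff_eq_mul] at h; exact h
theorem isConj_cn (x g : G) : IsConj x (cn x g) := isConj_iff.2 ⟨g⁻¹, by simp [cn]⟩
theorem cn_mem {A : Subgroup G} {x g : G} (hx : x ∈ A) (hg : g ∈ A) : cn x g ∈ A :=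
  mul_mem (mul_mem (inv_mem hg) hx) hg
theorem cn_nrm {A : Subgroup G} {x g : G} (hx : x ∈ A) (hg : g ∈ normalizer (A : Set G)) :
    cn x g ∈ A := by
  have := (mem_normalizer_iff.1 (inv_mem hg) x).1 hx
  rwa [inv_inv] at this

theorem cn_closure {S : Set G} {A : Subgroup G} {g : G} (h : ∀ s ∈ S, cn s g ∈ A) {x : G}
    (hx : x ∈ closure S) : cn x g ∈ A := by
  induction hx using closure_induction with
  | mem s hs => exact h s hs
  | one => simp [cn]
  | mul x y _ _ a b => rw [cn_mul]; exact mul_mem a b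
  | inv x _ a => rw [cn_inv]; exact inv_mem a

/-- an involution normalising `A` -/
theorem mem_or {A : Subgroup G} {S : Set G} {c : G} (cc : c * c = 1)
    (hn : ∀ w ∈ A, cn w c ∈ A) (hS : ∀ s ∈ S, s ∈ A ∨ s * c ∈ A) {u : G}
    (hu : u ∈ closure S) : u ∈ A ∨ u * c ∈ A := by
  have ci : c⁻¹ = c := inv_eq_of_mul_eq_one_right cc
  induction hu using closure_induction with
  | mem s hs => exact hS s hs
  | one => exact .inl (one_mem _)
  | mul x y hx hy a b =>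
    rcases a with a | a <;> rcases b with b | b
    · exact .inl (mul_mem a b)
    · exact .inr (by rw [mul_assoc]; exact mul_mem a b)
    · refine .inr ?_
      have : x * y * c = x * c * cn y c := by rw [cn]; group
      rw [this]; exact mul_mem a (hn _ b)
    · refine .inl ?_
      have : x * y = x * c * cn (y * c) c := by
        rw [cn, show c⁻¹ * (y * c) * c = c⁻¹ * y * (c * c) by group, cc]; group
      rw [this]; exact mul_mem a (hn _ b)
  | inv x hx a =>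
    rcases a with a | a
    · exact .inl (inv_mem a)
    · refine .inr ?_
      have : x⁻¹ * c = cn (x * c)⁻¹ c := by
        rw [cn, mul_inv_rev, ← mul_assoc, ci, cc, one_mul]
      rw [this]; exact hn _ (inv_mem a)

theorem mul_iff {X : Subgroup G} (mu : ∀ x y : G, x ∉ X → y ∉ X → x * y ∈ X) (x y : G) :
    x * y ∈ X ↔ (x ∈ X ↔ y ∈ X) := by
  by_cases hx : x ∈ X <;> by_cases hy : y ∈ X
  · simp [hx, hy, mul_mem hx hy]
  · simp [hx, hy, mul_mem_cancel_left hx]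
  · simp [hx, hy, mul_mem_cancel_right hy]
  · simp [hx, hy, mu x y hx hy]

section H

variable (h : H3 G)

theorem S_eq : h.S = closure {h.z, h.f, h.a, h.x, h.y, h.m, h.t, h.b, h.p, h.q} := by
  rw [H3.S, TT.R, ← Subgroup.closure_union]
  congr 1
  ext u; simp only [Set.mem_union, Set.mem_insert_iff, Set.mem_singleton_iff, or_assoc]

theorem N2_eq : h.N2 = closure {h.z, h.f, h.a, h.x, h.y, h.m, h.t, h.p, h.q} := by
  rw [H3.N2, TT.R, ← Subgroup.closure_union]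
  congr 1
  ext u; simp only [Set.mem_union, Set.mem_insert_iff, Set.mem_singleton_iff, or_assoc]

theorem S0_eq : h.S0 =
    closure {h.z, h.f, h.a, h.x * h.t, h.m, h.y, h.p * h.t, h.q * h.t, h.b} := by
  rw [H3.S0, H3.B0, zpowers_eq_closure, ← Subgroup.closure_union]
  congr 1
  ext u; simp only [Set.mem_union, Set.mem_insert_iff, Set.mem_singleton_iff, or_assoc]

theorem N2_le : h.N2 ≤ h.S := by
  rw [S_eq, N2_eq]
  refine closure_mono fun u hu => ?_
  simp only [Set.mem_insert_iff, Set.mem_singleton_iff] at hu ⊢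
  tauto

theorem N2_a {u : G} (hu : u ∈ h.N2) : Commute u h.a := by
  rw [N2_eq] at hu
  have : closure {h.z, h.f, h.a, h.x, h.y, h.m, h.t, h.p, h.q} ≤ centralizer {h.a} := by
    rw [closure_le]
    rintro _ (rfl | rfl | rfl | rfl | rfl | rfl | rfl | rfl | rfl) <;>
      rw [SetLike.mem_coe, mem_centralizer_singleton_iff]
    exacts [h.za, h.fa, h.xa, h.ya, h.ma, h.ta, h.pa, h.qa]
  exact mem_centralizer_singleton_iff.1 (this hu)

theorem not_ba : ¬ Commute h.b h.a := fun c => by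
  have := h.ab
  rw [cn_of c.symm] at this
  exact h.z1 (by simpa using this)

/-- `b ^ q = w t b p` -/
theorem bq (hy : h.y ≠ 1) : cn h.b h.q = h.z * h.a * h.t * h.b * h.p ∨
    cn h.b h.q = h.f * h.t * h.b * h.p := by
  rcases h.var with ⟨h0, -⟩ | ⟨-, -, ⟨-, h0⟩ | ⟨-, h0⟩⟩
  exacts [absurd h0 hy, .inl h0, .inr h0]

theorem ty (hy : h.y ≠ 1) : cn h.t h.y = h.t * h.f ∧ ∀ u ∈ h.P, ¬ IsConj h.t u := by
  rcases h.alt with ⟨h0, -⟩ | ⟨h0, -⟩ | ⟨h0, -, h1⟩
  exacts [absurd h0 hy, absurd h0 hy, ⟨h0, h1⟩]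

theorem mem_S (hy : h.y ≠ 1) {u : G} (hu : u ∈ h.S) : u ∈ h.N2 ∨ u * h.b ∈ h.N2 := by
  rw [S_eq] at hu
  have g : ∀ s ∈ ({h.z, h.f, h.a, h.x, h.y, h.m, h.t, h.p, h.q} : Set G), s ∈ h.N2 :=
    fun s hs => N2_eq h ▸ subset_closure hs
  have z := g h.z (by simp); have f := g h.f (by simp); have a := g h.a (by simp)
  have x := g h.x (by simp); have y := g h.y (by simp); have m := g h.m (by simp)
  have t := g h.t (by simp); have p := g h.p (by simp); have q := g h.q (by simp)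
  refine mem_or h.bb (fun w hw => cn_closure ?_ (N2_eq h ▸ hw)) ?_ hu
  · have bi : h.b⁻¹ = h.b := inv_eq_of_mul_eq_one_right h.bb
    have k : ∀ w ∈ h.N2, cn h.b h.q = w * h.b * h.p → cn h.q h.b ∈ h.N2 := fun w hw e => by
      have : cn h.q h.b = h.q * (w * h.p) := by
        have e1 : cn h.q h.b = h.q * (cn h.b h.q * h.b) := by rw [cn, cn, bi]; group
        rw [e1, e, mul_assoc w, ← h.pb.eq, mul_assoc w, mul_assoc h.p, h.bb, mul_one]
      rw [this]; exact mul_mem q (mul_mem hw p)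
    rintro _ (rfl | rfl | rfl | rfl | rfl | rfl | rfl | rfl | rfl)
    · rw [cn_of h.zb]; exact z
    · rw [cn_of h.fb]; exact f
    · rw [h.ab]; exact mul_mem a z
    · rw [cn_of h.xb]; exact x
    · rw [cn_of h.yb]; exact y
    · rw [h.mb]; exact inv_mem (mul_mem (mul_mem x t) m)
    · rw [cn_of h.tb]; exact t
    · rw [cn_of h.pb]; exact p
    · rcases bq h hy with e | e
      · exact k _ (mul_mem (mul_mem z a) t) e
      · exact k _ (mul_mem f t) e
  · rintro _ (rfl | rfl | rfl | rfl | rfl | rfl | rfl | rfl | rfl | rfl)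
    exacts [.inl z, .inl f, .inl a, .inl x, .inl y, .inl m, .inl t,
      .inr (h.bb ▸ one_mem _), .inl p, .inl q]

theorem mem_N2 (hy : h.y ≠ 1) {u : G} (hu : u ∈ h.S) (c : Commute u h.a) : u ∈ h.N2 := by
  rcases mem_S h hy hu with k | k
  · exact k
  · have := (c.inv_left).mul_left (N2_a h k)
    rw [inv_mul_cancel_left] at this
    exact absurd this (not_ba h)

theorem relIndex (hy : h.y ≠ 1) : h.N2.relIndex h.S = 2 := by
  have hb : h.b ∈ h.S := S_eq h ▸ subset_closure (by simp)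
  rw [Subgroup.relIndex, index_eq_two_iff]
  refine ⟨⟨h.b, hb⟩, fun u => ?_⟩
  simp only [mem_subgroupOf, coe_mul]
  have k := mem_S h hy u.2
  have k2 : ¬ ((u : G) * h.b ∈ h.N2 ∧ (u : G) ∈ h.N2) := fun ⟨a, b⟩ =>
    not_ba h (N2_a h ((mul_mem_cancel_left b).1 a))
  rcases k with k | k
  · exact .inr ⟨k, fun a => k2 ⟨a, k⟩⟩
  · exact .inl ⟨k, fun a => k2 ⟨k, a⟩⟩

theorem cn_a (hy : h.y ≠ 1) {u : G} (hu : u ∈ h.S) : Commute (cn h.a u) h.a := by
  rcases mem_S h hy hu with k | k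
  · rw [cn_of (N2_a h k).symm]
  · have e : cn h.a u = cn (cn h.a (u * h.b)) h.b := by rw [cn_cn, mul_assoc, h.bb, mul_one]
    rw [e, cn_of (N2_a h k).symm, h.ab]
    exact (Commute.refl _).mul_left h.za

theorem T0_le : h.T0 ≤ h.S := by
  rw [S_eq]
  refine closure_mono fun u hu => ?_
  simp only [Set.mem_insert_iff, Set.mem_singleton_iff] at hu ⊢
  tauto

/-- no conjugate of `T` lies in `C_S(t)` -/
theorem no_T [Finite G] (K : Kit h.toHyp) (hy : h.y ≠ 1) (pS : IsPGroup 2 h.S) {g : G}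
    (hg : ∀ x ∈ h.T, cn x g ∈ h.S) (ht : cn h.t g = h.t) : False := by
  have h0 : h.T0 ≤ centralizer {h.t} := by
    rw [Pre.T0, closure_le]
    rintro _ (rfl | rfl | rfl | rfl) <;> rw [SetLike.mem_coe, mem_centralizer_singleton_iff]
    exacts [h.tf.symm, h.ta.symm, h.tb.symm]
  rcases K.cT2 (h.S ⊓ centralizer {h.t}) (pS.to_le inf_le_left) (le_inf (T0_le h) h0)
    inf_le_right with e | ⟨-, -, c, hc, e, -⟩
  · have c1 : Nat.card h.T = 64 := ((K.cT.resolve_left fun a => h.e1 a.1)).2.2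
    have : cj g⁻¹ h.T ≤ h.T0 := by
      rw [← e, cj_le_iff_le_cj_inv, inv_inv]
      intro x hx
      rw [mem_cj]
      refine ⟨hg x hx, mem_centralizer_singleton_iff.2 ?_⟩
      have c : Commute x h.t := mem_centralizer_singleton_iff.1 (h.syl.le hx)
      change cn x g * h.t = h.t * cn x g
      rw [← ht, ← cn_mul, ← cn_mul, c.eq]
    have := card_le_of_le this
    rw [card_cj, c1, K.cT0] at this
    omega
  · have := cn_a h hy hc.1
    rw [e] at this
    exact not_ba h this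

theorem not_W [Finite G] (hy : h.y ≠ 1) {u : G} (hu : IsConj h.t u) (v : G)
    (hv : v = 1 ∨ v = h.z ∨ v = h.a ∨ v = h.a * h.z) (e : u = v ∨ u = h.f * v) : False := by
  have z : h.z ∈ h.P := subset_closure (by simp)
  have f : h.f ∈ h.P := subset_closure (by simp)
  have r3 : cn (h.a * h.z) h.r = h.z := by
    rw [cn_mul, h.ar, h.zr, mul_assoc, h.za.eq, ← mul_assoc, h.aa, one_mul]
  have key : ∃ w, cn v w ∈ h.P ∧ cn h.f w = h.f := by
    rcases hv with rfl | rfl | rfl | rfl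
    · exact ⟨1, by simp [cn], by simp [cn]⟩
    · exact ⟨1, by simpa [cn] using z, by simp [cn]⟩
    · exact ⟨h.r * h.r, by rw [← cn_cn, h.ar, r3]; exact z,
        cn_of (h.rf.symm.mul_right h.rf.symm)⟩
    · exact ⟨h.r, by rw [r3]; exact z, cn_of h.rf.symm⟩
  obtain ⟨w, h1, h2⟩ := key
  refine (ty h hy).2 (cn u w) ?_ (hu.trans (isConj_cn _ _))
  rcases e with rfl | rfl
  · exact h1
  · rw [cn_mul, h2]; exact mul_mem f h1

end H

/-- the finite facts needed of a model of `S` -/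
structure Facts {M : Type} [Group M] (κ q p b t m k f a z : M) : Prop where
  c0 : ∀ x : M, x * x = 1 → x * a = a * x →
    ∃ v, (v = 1 ∨ v = z ∨ v = a ∨ v = a * z) ∧ (cn f x = f * v ∧ v ≠ 1 ∨
      cn f x = f ∧ (t * x * (t * x) = v ∨ t * x * (t * x) = f * v))
  c1 : ∀ x : M, x * x = 1 → x * a = a * x →
    (cn f x = f * z ∨ cn f x = f ∧ (t * x * (t * x) = 1 ∨ t * x * (t * x) = z ∨
      t * x * (t * x) = f ∨ t * x * (t * x) = f * z)) →
    (∃ v, (v = 1 ∨ v = z ∨ v = a ∨ v = a * z) ∧ (x = v ∨ x = f * v)) ∨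
      (∃ s, s * a = a * s ∧ x = cn t s) ∨ 128 ≤ Nat.card (centralizer ({x} : Set M))
  d8 : ∃ ψ : M →* DihedralGroup 4, ψ t = .sr 0 ∧ ψ κ = .r 1 ∧ ψ f = .r 2 ∧ ψ z = 1 ∧ ψ a = 1 ∧
    ψ k = 1 ∧ ψ m = 1 ∧ ψ b = 1 ∧ (∃ i, ψ p = .sr i) ∧ ∃ i, ψ q = .sr i

/-- a faithful model of `S` -/
structure Mod (h : H3 G) {M : Type} [Group M] (φ : M →* G) (κ q p b t m k f a z : M) : Prop where
  inj : Function.Injective φ
  rng : φ.range = h.S
  hκ : φ κ = h.y * h.t
  hq : φ q = h.q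
  hp : φ p = h.p
  hb : φ b = h.b
  ht : φ t = h.t
  hm : φ m = h.m
  hk : φ k = h.x * h.t
  hf : φ f = h.f
  ha : φ a = h.a
  hz : φ z = h.z

theorem map_cn {M : Type} [Group M] (φ : M →* G) (x g : M) : φ (cn x g) = cn (φ x) (φ g) := by
  simp [cn]

/-- the normalised position of an involution of `N₂` -/
def Good (h : H3 G) (u : G) : Prop :=
  cn h.f u = h.f * h.z ∨ cn h.f u = h.f ∧ (h.t * u * (h.t * u) = 1 ∨ h.t * u * (h.t * u) = h.z ∨
    h.t * u * (h.t * u) = h.f ∨ h.t * u * (h.t * u) = h.f * h.z)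

section Main

variable [Finite G] {h : H3 G} {M : Type} [Group M] {φ : M →* G} {κ q p b t m k f a z : M}

theorem conj_of_good (K : Kit h.toHyp) (hy : h.y ≠ 1) (pS : IsPGroup 2 h.S)
    (D : Mod h φ κ q p b t m k f a z) (F : Facts κ q p b t m k f a z) {u : G} (hu : u ∈ h.N2)
    (hc : IsConj h.t u) (hg : Good h u) : ∃ s ∈ h.N2, u = cn h.t s := by
  obtain ⟨x, rfl⟩ : u ∈ φ.range := D.rng ▸ N2_le h hu
  have h1 : x * x = 1 := D.inj (by
    obtain ⟨c, hc⟩ := isConj_iff.1 hc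
    rw [map_mul, map_one, ← hc, show c * h.t * c⁻¹ * (c * h.t * c⁻¹) = c * (h.t * h.t) * c⁻¹ by group,
      h.tt]; group)
  have h2 : x * a = a * x := D.inj (by rw [map_mul, map_mul, D.ha]; exact N2_a h hu)
  have h3 : cn f x = f * z ∨ cn f x = f ∧ (t * x * (t * x) = 1 ∨ t * x * (t * x) = z ∨
      t * x * (t * x) = f ∨ t * x * (t * x) = f * z) := by
    simp only [← D.inj.eq_iff, map_inv, map_mul, map_one, D.hf, D.hz, D.ht]
    exact hg
  rcases F.c1 x h1 h2 h3 with ⟨v, hv, e⟩ | ⟨s, hs, e⟩ | e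
  · refine (not_W h hy hc (φ v) ?_ ?_).elim
    · rcases hv with rfl | rfl | rfl | rfl <;> simp [D.hz, D.ha]
    · rcases e with rfl | rfl <;> simp [D.hf]
  · refine ⟨φ s, mem_N2 h hy (D.rng ▸ ⟨s, rfl⟩) ?_, by rw [e, map_cn, D.ht]⟩
    rw [← D.ha]
    exact (show Commute s a from hs).map φ
  · have hR : (centralizer ({x} : Set M)).map φ ≤ h.S := D.rng ▸ map_le_range _ _
    obtain ⟨g, -, hg⟩ := K.into (φ x) ((centralizer ({x} : Set M)).map φ) hc (pS.to_le hR) (by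
      rintro _ ⟨w, hw, rfl⟩
      rw [mem_centralizer_singleton_iff, ← map_mul, ← map_mul,
        mem_centralizer_singleton_iff.1 hw])
    have : cj g⁻¹ ((centralizer ({x} : Set M)).map φ) ≤ h.T := by
      rw [cj_le_iff_le_cj_inv, inv_inv]
      exact fun w hw => mem_cj.2 (hg w hw)
    have := card_le_of_le this
    rw [card_cj, card_map_of_injective D.inj, ((K.cT.resolve_left fun a => h.e1 a.1)).2.2] at this
    omega

theorem conj_of_N2 (K : Kit h.toHyp) (hy : h.y ≠ 1) (pS : IsPGroup 2 h.S)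
    (D : Mod h φ κ q p b t m k f a z) (F : Facts κ q p b t m k f a z) {u : G} (hu : u ∈ h.N2)
    (hc : IsConj h.t u) : ∃ s ∈ h.N2, u = cn h.t s := by
  have g : ∀ s ∈ ({h.z, h.f, h.a, h.x, h.y, h.m, h.t} : Set G), cn s h.ρ = cn s h.r :=
    fun s hs => h.ρR s (subset_closure hs)
  have r1 : cn h.z h.ρ = h.a := (g _ (by simp)).trans h.zr
  have r2 : cn h.a h.ρ = h.a * h.z := (g _ (by simp)).trans h.ar
  have r3 : cn (h.a * h.z) h.ρ = h.z := by
    rw [cn_mul, r1, r2, mul_assoc, h.za.eq, ← mul_assoc, h.aa, one_mul]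
  have rf : cn h.f h.ρ = h.f := (g _ (by simp)).trans (cn_of h.rf.symm)
  have rt : cn h.t h.ρ = h.t := (g _ (by simp)).trans (cn_of h.rt.symm)
  have key : ∀ w ∈ normalizer (h.N2 : Set G), cn h.t w = h.t → Good h (cn u w) →
      ∃ s ∈ h.N2, u = cn h.t s := fun w hw e hg => by
    obtain ⟨s, hs, e1⟩ := conj_of_good K hy pS D F (cn_nrm hu hw) (hc.trans (isConj_cn _ _)) hg
    refine ⟨cn s w⁻¹, cn_nrm hs (inv_mem hw), ?_⟩
    have e2 : cn h.t w⁻¹ = h.t := by conv_lhs => rw [← e, cn_cn, mul_inv_cancel]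
                                     simp [cn]
    rw [← e2, cn_conj, ← e1, cn_cn, mul_inv_cancel]; simp [cn]
  obtain ⟨x, rfl⟩ : u ∈ φ.range := D.rng ▸ N2_le h hu
  have h1 : x * x = 1 := D.inj (by
    obtain ⟨c, hc⟩ := isConj_iff.1 hc
    rw [map_mul, map_one, ← hc, show c * h.t * c⁻¹ * (c * h.t * c⁻¹) = c * (h.t * h.t) * c⁻¹ by group,
      h.tt]; group)
  have h2 : x * a = a * x := D.inj (by rw [map_mul, map_mul, D.ha]; exact N2_a h hu)
  obtain ⟨v, hv, e⟩ := F.c0 x h1 h2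
  simp only [ne_eq, ← D.inj.eq_iff, map_inv, map_mul, map_one, D.hf, D.hz, D.ht, D.ha] at hv e
  generalize φ v = v at hv e
  generalize φ x = u at *
  obtain ⟨w, hw, w1, w2, w3⟩ : ∃ w ∈ normalizer (h.N2 : Set G), cn h.t w = h.t ∧ cn h.f w = h.f ∧
      (v = 1 ∧ cn v w = 1 ∨ cn v w = h.z) := by
    rcases hv with rfl | rfl | rfl | rfl
    · exact ⟨1, one_mem _, by simp [cn], by simp [cn], by simp [cn]⟩
    · exact ⟨1, one_mem _, by simp [cn], by simp [cn], by simp [cn]⟩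
    · exact ⟨h.ρ * h.ρ, mul_mem h.ρN h.ρN, by rw [← cn_cn, rt, rt], by rw [← cn_cn, rf, rf],
        .inr (by rw [← cn_cn, r2, r3])⟩
    · exact ⟨h.ρ, h.ρN, rt, rf, .inr r3⟩
  refine key w hw w1 ?_
  have e1 : cn h.f (cn u w) = cn (cn h.f u) w := by rw [← cn_conj, w2]
  have e2 : h.t * cn u w * (h.t * cn u w) = cn (h.t * u * (h.t * u)) w := by
    rw [cn_mul, cn_mul, w1]
  rw [Good, e1, e2]
  rcases e with ⟨e, e'⟩ | ⟨e, e' | e'⟩ <;> change cn h.f u = _ at e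
  · rw [e, cn_mul, w2, w3.resolve_left fun c => e' c.1]
    exact .inl rfl
  · rw [e, e', w2]
    rcases w3 with ⟨-, c⟩ | c <;> simp [c]
  · rw [e, e', w2, cn_mul, w2]
    rcases w3 with ⟨-, c⟩ | c <;> simp [c]

theorem tX (K : Kit h.toHyp) (hy : h.y ≠ 1) (sS : IsSyl 2 h.S ⊤)
    (D : Mod h φ κ q p b t m k f a z) (F : Facts κ q p b t m k f a z) : h.t ∉ h.X := by
  refine (K.trT h.S h.N2 sS (N2_le h) (relIndex h hy) fun g hg hn => ?_).1
  obtain ⟨s, hs, e⟩ := conj_of_N2 K hy sS.isPGroup D F hn (isConj_cn _ _)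
  refine no_T h K hy sS.isPGroup (g := g * s⁻¹) (fun x hx => ?_) ?_
  · rw [← cn_cn]; exact cn_mem (hg x hx) (inv_mem (N2_le h hs))
  · rw [← cn_cn, e, cn_cn, mul_inv_cancel]; simp [cn]

omit [Finite G] in
theorem in_X (K : Kit h.toHyp) (hy : h.y ≠ 1) :
    h.x * h.t ∈ h.X ∧ h.m ∈ h.X ∧ h.p * h.t ∈ h.X ∧ h.q * h.t ∈ h.X := by
  have := h.Xn
  have hp : h.p * h.t ∈ h.X := by
    have h1 : cn h.b h.q ∈ h.X := h.Xn.conj_mem' _ K.aX.2.1 _
    have h2 : h.t * h.b * h.p ∈ h.X := by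
      rcases bq h hy with e | e <;> rw [e, mul_assoc, mul_assoc, ← mul_assoc h.t] at h1
      · exact (mul_mem_cancel_left (mul_mem K.aX.2.2 K.aX.1)).1 h1
      · exact (mul_mem_cancel_left h.fX).1 h1
    rw [h.tb.eq, mul_assoc, mul_mem_cancel_left K.aX.2.1] at h2
    exact h.Xn.mem_comm h2
  refine ⟨inv_mem_iff.1 (h.pp ▸ K.sqX _), inv_mem_iff.1 (h.qq ▸ K.sqX _), hp, ?_⟩
  have h1 : cn (h.p * h.t) h.ρ ∈ h.X := h.Xn.conj_mem' _ hp _
  rw [cn_mul, h.ρR h.t (subset_closure (by simp)), cn_of h.rt.symm] at h1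
  rcases h.pρ with e | e <;> rw [e] at h1
  · exact h1
  · rwa [mul_assoc, ← h.ta.eq, ← mul_assoc, mul_mem_cancel_right K.aX.1] at h1

/-- rotations -/
def rot : DihedralGroup 4 → Bool
  | .r _ => true
  | .sr _ => false

theorem rot_mul : ∀ g k : DihedralGroup 4, rot (g * k) = true ↔ (rot g = true ↔ rot k = true) := by
  decide

theorem rot_inv : ∀ g : DihedralGroup 4, rot g⁻¹ = rot g := by decide

theorem rot_comm : ∀ g k : DihedralGroup 4, rot g = true → rot k = true → g⁻¹ * k⁻¹ * g * k = 1 := by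
  decide

theorem yX (K : Kit h.toHyp) (hy : h.y ≠ 1) (sS : IsSyl 2 h.S ⊤)
    (hs : ∀ c : G, (∀ u ∈ h.K, cn u c ∈ h.S) → h.f⁻¹ * cn h.f c ∈ h.V1)
    (D : Mod h φ κ q p b t m k f a z) (F : Facts κ q p b t m k f a z) : h.y ∈ h.X := by
  by_contra hn
  have ht := tX K hy sS D F
  obtain ⟨hk, hm, hp, hq⟩ := in_X K hy
  have hκ := K.muX _ _ hn ht
  obtain ⟨ψ, e1, e2, e3, e4, e5, e6, e7, e8, ⟨i, e9⟩, j, e10⟩ := F.d8
  let Y : Subgroup M :=
    { carrier := {x | φ x ∈ h.X ↔ rot (ψ x) = true}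
      one_mem' := iff_of_true (by rw [map_one]; exact one_mem _) (by rw [map_one]; rfl)
      mul_mem' := fun {x y} hx hy => by
        simp only [Set.mem_ofPred_eq, map_mul, mul_iff K.muX, rot_mul] at hx hy ⊢
        rw [hx, hy]
      inv_mem' := fun {x} hx => by
        simpa only [Set.mem_ofPred_eq, map_inv, inv_mem_iff, rot_inv] using hx }
  have r1 : rot 1 = true := rfl
  have hY : ∀ x, φ x ∈ h.X ↔ rot (ψ x) = true := fun x => by
    have m1 : ∀ w, φ w ∈ h.X → rot (ψ w) = true → w ∈ Y := fun w a b => iff_of_true a b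
    have m2 : ∀ w, φ w ∉ h.X → rot (ψ w) = false → w ∈ Y := fun w a b =>
      iff_of_false a (by simp [b])
    have Yt := m2 t (D.ht ▸ ht) (e1 ▸ rfl)
    have : h.S ≤ Y.map φ := by
      rw [S_eq, closure_le]
      rintro _ (rfl | rfl | rfl | rfl | rfl | rfl | rfl | rfl | rfl | rfl)
      · exact ⟨z, m1 _ (D.hz ▸ K.aX.2.2) (e4 ▸ r1), D.hz⟩
      · exact ⟨f, m1 _ (D.hf ▸ h.fX) (e3 ▸ rfl), D.hf⟩
      · exact ⟨a, m1 _ (D.ha ▸ K.aX.1) (e5 ▸ r1), D.ha⟩
      · exact ⟨k * t, mul_mem (m1 _ (D.hk ▸ hk) (e6 ▸ r1)) Yt, by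
          rw [map_mul, D.hk, D.ht, mul_assoc, h.tt, mul_one]⟩
      · exact ⟨κ * t, mul_mem (m1 _ (D.hκ ▸ hκ) (e2 ▸ rfl)) Yt, by
          rw [map_mul, D.hκ, D.ht, mul_assoc, h.tt, mul_one]⟩
      · exact ⟨m, m1 _ (D.hm ▸ hm) (e7 ▸ r1), D.hm⟩
      · exact ⟨t, Yt, D.ht⟩
      · exact ⟨b, m1 _ (D.hb ▸ K.aX.2.1) (e8 ▸ r1), D.hb⟩
      · exact ⟨p, m2 _ (D.hp ▸ fun c => ht ((mul_mem_cancel_left c).1 hp)) (e9 ▸ rfl), D.hp⟩
      · exact ⟨q, m2 _ (D.hq ▸ fun c => ht ((mul_mem_cancel_left c).1 hq)) (e10 ▸ rfl), D.hq⟩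
    obtain ⟨w, hw, e⟩ := this (D.rng ▸ ⟨x, rfl⟩ : φ x ∈ h.S)
    exact D.inj e ▸ hw
  have gS : ∀ s ∈ ({h.z, h.f, h.a, h.x, h.y, h.m, h.t, h.b, h.p, h.q} : Set G), s ∈ h.S :=
    fun s hs => S_eq h ▸ subset_closure hs
  have hK : ∀ A : Subgroup G, h.z ∈ A → h.f ∈ A → h.a ∈ A → h.x * h.t ∈ A → h.m ∈ A →
      h.y * h.t ∈ A → h.K ≤ A := fun A a1 a2 a3 a4 a5 a6 => by
    rw [TT.K, TT.κ, if_neg hy, closure_le]
    rintro _ (rfl | rfl | rfl | rfl | rfl | rfl) <;> assumption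
  have hf : h.f ∈ ψ.ker.map φ := by
    refine K.trX (h.S ⊓ h.X) (ψ.ker.map φ) h.K h.f (K.sylX _ sS) ?_ ?_ h.ff
      ⟨gS _ (by simp), h.fX⟩ (subset_closure (by simp)) (hK _ K.aX.2.2 h.fX K.aX.1 hk hm hκ)
      (sS.isPGroup.to_le (hK _ (gS _ (by simp)) (gS _ (by simp)) (gS _ (by simp))
        (mul_mem (gS _ (by simp)) (gS _ (by simp))) (gS _ (by simp))
        (mul_mem (gS _ (by simp)) (gS _ (by simp))))) ?_ fun g _ hg => ?_
    · rintro _ ⟨w, hw, rfl⟩
      exact ⟨D.rng ▸ ⟨w, rfl⟩, (hY w).2 (by rw [MonoidHom.mem_ker.1 hw]; rfl)⟩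
    · rintro u ⟨hu, hu'⟩ w ⟨hw, hw'⟩
      obtain ⟨u, rfl⟩ : u ∈ φ.range := D.rng ▸ hu
      obtain ⟨w, rfl⟩ : w ∈ φ.range := D.rng ▸ hw
      refine ⟨u⁻¹ * w⁻¹ * u * w, ?_, by simp⟩
      rw [SetLike.mem_coe, MonoidHom.mem_ker, map_mul, map_mul, map_mul, map_inv, map_inv]
      exact rot_comm _ _ ((hY u).1 hu') ((hY w).1 hw')
    · refine hK _ ?_ ?_ ?_ ?_ ?_ ?_ <;> rw [mem_centralizer_singleton_iff]
      · have : h.z = h.a⁻¹ * cn h.a h.b := by rw [h.ab]; group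
        rw [this]
        exact (h.fa.symm.inv_left.mul_left
          ((h.fb.symm.inv_left.mul_left h.fa.symm).mul_left h.fb.symm)).eq
      exacts [h.fa.symm, h.xf.mul_left h.tf, h.mf, h.yf.mul_left h.tf]
    · refine (show h.V1 ≤ ψ.ker.map φ from ?_) (hs g fun u hu => (hg u hu).1)
      rw [Pre.V1, closure_le]
      rintro _ (rfl | rfl)
      exacts [⟨z, e4, D.hz⟩, ⟨a, e5, D.ha⟩]
  obtain ⟨w, hw, e⟩ := hf
  rw [D.inj (e.trans D.hf.symm), SetLike.mem_coe, MonoidHom.mem_ker, e3] at hw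
  exact absurd hw (by decide)

theorem inf_eq (K : Kit h.toHyp) (hy : h.y ≠ 1) (ht : h.t ∉ h.X) (hyX : h.y ∈ h.X) :
    h.S ⊓ h.X = h.S0 := by
  obtain ⟨hk, hm, hp, hq⟩ := in_X K hy
  have gS : ∀ s ∈ ({h.z, h.f, h.a, h.x, h.y, h.m, h.t, h.b, h.p, h.q} : Set G), s ∈ h.S :=
    fun s hs => S_eq h ▸ subset_closure hs
  have hle : h.S0 ≤ h.S ⊓ h.X := by
    rw [S0_eq, closure_le]
    rintro _ (rfl | rfl | rfl | rfl | rfl | rfl | rfl | rfl | rfl)
    exacts [⟨gS _ (by simp), K.aX.2.2⟩, ⟨gS _ (by simp), h.fX⟩, ⟨gS _ (by simp), K.aX.1⟩,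
      ⟨mul_mem (gS _ (by simp)) (gS _ (by simp)), hk⟩, ⟨gS _ (by simp), hm⟩, ⟨gS _ (by simp), hyX⟩,
      ⟨mul_mem (gS _ (by simp)) (gS _ (by simp)), hp⟩,
      ⟨mul_mem (gS _ (by simp)) (gS _ (by simp)), hq⟩, ⟨gS _ (by simp), K.aX.2.1⟩]
  refine le_antisymm (fun u hu => ?_) hle
  have g : ∀ s ∈ ({h.z, h.f, h.a, h.x * h.t, h.m, h.y, h.p * h.t, h.q * h.t, h.b} : Set G),
      s ∈ h.S0 := fun s hs => S0_eq h ▸ subset_closure hs
  have z := g h.z (by simp); have f := g h.f (by simp); have a := g h.a (by simp)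
  have x := g (h.x * h.t) (by simp); have y := g h.y (by simp); have m := g h.m (by simp)
  have b := g h.b (by simp); have p := g (h.p * h.t) (by simp); have q := g (h.q * h.t) (by simp)
  have ti : h.t⁻¹ = h.t := inv_eq_of_mul_eq_one_right h.tt
  have sw : ∀ w : G, cn (w * h.t) h.t = (w * h.t)⁻¹ * (w * w) := fun w => by
    rw [cn, mul_assoc, mul_assoc, h.tt]; group
  have cj' : ∀ w c : G, cn h.t w = h.t * c → Commute h.t c → cn w h.t = w * c := fun w c e hc => by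
    have : h.t * w = w * (h.t * c) := by rw [← e, cn]; group
    rw [cn, ti, this, mul_assoc, hc.eq, mul_assoc, h.tt, mul_one]
  have key : u ∈ h.S0 ∨ u * h.t ∈ h.S0 := by
    refine mem_or h.tt (fun w hw => cn_closure ?_ (S0_eq h ▸ hw)) ?_ (S_eq h ▸ hu.1)
    · rintro _ (rfl | rfl | rfl | rfl | rfl | rfl | rfl | rfl | rfl)
      · have : h.z = h.a⁻¹ * cn h.a h.b := by rw [h.ab]; group
        have c : Commute h.z h.t := by
          rw [this]
          exact h.ta.symm.inv_left.mul_left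
            ((h.tb.symm.inv_left.mul_left h.ta.symm).mul_left h.tb.symm)
        rw [cn_of c]; exact z
      · rw [cn_of h.tf.symm]; exact f
      · rw [cn_of h.ta.symm]; exact a
      · rw [sw, h.xx, mul_one]; exact inv_mem x
      · rw [cj' _ _ h.tm h.ta]; exact mul_mem m a
      · rw [cj' _ _ (ty h hy).1 h.tf]; exact mul_mem y f
      · rw [sw, h.pp]; exact mul_mem (inv_mem p) (inv_mem x)
      · rw [sw, h.qq]; exact mul_mem (inv_mem q) (inv_mem m)
      · rw [cn_of h.tb.symm]; exact b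
    · rintro _ (rfl | rfl | rfl | rfl | rfl | rfl | rfl | rfl | rfl | rfl)
      exacts [.inl z, .inl f, .inl a, .inr x, .inl y, .inl m, .inr (h.tt ▸ one_mem _), .inl b,
        .inr p, .inr q]
  rcases key with k | k
  · exact k
  · exact absurd ((mul_mem_cancel_left (mem_inf.1 hu).2).1 (mem_inf.1 (hle k)).2) ht

theorem h4_of (K : Kit h.toHyp) (hy : h.y ≠ 1) (sS : IsSyl 2 h.S ⊤)
    (hs : ∀ c : G, (∀ u ∈ h.K, cn u c ∈ h.S) → h.f⁻¹ * cn h.f c ∈ h.V1)
    (D : Mod h φ κ q p b t m k f a z) (F : Facts κ q p b t m k f a z) : Nonempty (H4 G) :=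
  ⟨⟨h, hy, tX K hy sS D F, sS,
    inf_eq K hy (tX K hy sS D F) (yX K hy sS hs D F) ▸ K.sylX _ sS⟩⟩

end Main

end Cfsg.Agent.H37.LtHE
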