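import Cfsg.Agent.H37.LtHE1
import Cfsg.Agent.H13.LTMod

/-! Type HH with `y ≠ 1`: the finite checks, and `HEStmt`. -/

set_option autoImplicit false

namespace Cfsg.Agent.H37.LtHE

open Subgroup Cfsg.Agent.H96

/-- the number of `i < n` with `p i` -/
noncomputable def cnt (n : ℕ) (p : ℕ → Bool) : ℕ :=
  Nat.rec 0 (fun i r => iteB (p i) (Nat.succ r) r) n

theorem cnt_eq (n : ℕ) (p : ℕ → Bool) : cnt n p = Nat.count (fun i => p i = true) n := by
  induction n with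
  | zero => rfl
  | succ n ih =>
    have : cnt (n + 1) p = iteB (p n) (Nat.succ (cnt n p)) (cnt n p) := rfl
    rw [this, Nat.count_succ, ih, iteB_eq]
    split_ifs <;> rfl

theorem card_cent {T : Pc} [T.OK] (μ : ℕ → ℕ → ℕ) (hμ : ∀ a b : T.G, μ a.val b.val = (a * b).val)
    (x : T.G) : Nat.card (centralizer ({x} : Set T.G)) =
      cnt T.n fun i => Nat.beq (μ i x.val) (μ x.val i) := by
  rw [cnt_eq, Nat.count_eq_card_fintype, ← @Nat.card_eq_fintype_card _ (Nat.CountSet.fintype _ _)]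
  refine Nat.card_congr ⟨fun w => ⟨w.1.val, w.1.lt, ?_⟩, fun i => ⟨⟨i.1, i.2.1⟩, ?_⟩,
    fun _ => rfl, fun _ => rfl⟩
  · rw [hμ, hμ, mem_centralizer_singleton_iff.1 w.2, Nat.beq_eq]
  · have := i.2.2
    rw [Nat.beq_eq] at this
    refine mem_centralizer_singleton_iff.2 (Pc.G.ext ?_)
    rw [← hμ, ← hμ]; exact this

/-- `p i` for some `i < n` -/
noncomputable def exLt (n : ℕ) (p : ℕ → Bool) : Bool :=
  Nat.rec false (fun i r => or (p i) r) n

theorem exLt_iff {n : ℕ} {p : ℕ → Bool} : exLt n p = true ↔ ∃ i < n, p i = true := by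
  induction n with
  | zero => simp [exLt]
  | succ n ih =>
    have : exLt (n + 1) p = (p n || exLt n p) := rfl
    rw [this, Bool.or_eq_true, ih]
    constructor
    · rintro (h | ⟨i, hi, h⟩)
      exacts [⟨n, by omega, h⟩, ⟨i, by omega, h⟩]
    · rintro ⟨i, hi, h⟩
      rcases Nat.lt_succ_iff_lt_or_eq.mp hi with c | rfl
      exacts [.inr ⟨i, c, h⟩, .inl h]

open Cfsg.Agent.H93.LT

section Chk

variable (T : Pc) [T.OK] (μ : ℕ → ℕ → ℕ)

noncomputable def q0 (t f a z x : T.G) : Bool :=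
  decide (x * x = 1 → x * a = a * x →
    (cn f x = f * 1 ∧ (1 : T.G) ≠ 1 ∨
      cn f x = f ∧ (t * x * (t * x) = 1 ∨ t * x * (t * x) = f * 1)) ∨
    (cn f x = f * z ∧ z ≠ 1 ∨ cn f x = f ∧ (t * x * (t * x) = z ∨ t * x * (t * x) = f * z)) ∨
    (cn f x = f * a ∧ a ≠ 1 ∨ cn f x = f ∧ (t * x * (t * x) = a ∨ t * x * (t * x) = f * a)) ∨
    (cn f x = f * (a * z) ∧ a * z ≠ 1 ∨
      cn f x = f ∧ (t * x * (t * x) = a * z ∨ t * x * (t * x) = f * (a * z))))

noncomputable def q1 (t f a z x : T.G) : Bool :=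
  decide (¬ (x * x = 1 ∧ x * a = a * x ∧
    (cn f x = f * z ∨ cn f x = f ∧ (t * x * (t * x) = 1 ∨ t * x * (t * x) = z ∨
      t * x * (t * x) = f ∨ t * x * (t * x) = f * z)))) ||
  decide ((x = 1 ∨ x = f * 1) ∨ (x = z ∨ x = f * z) ∨ (x = a ∨ x = f * a) ∨
    (x = a * z ∨ x = f * (a * z))) ||
  Nat.ble 128 (cnt T.n fun i => Nat.beq (μ i x.val) (μ x.val i)) ||
  exLt T.n fun s => Nat.beq (μ s x.val) (μ t.val s) && Nat.beq (μ s a.val) (μ a.val s)

variable {T μ}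

theorem facts_of (hμ : ∀ a b : T.G, μ a.val b.val = (a * b).val) {κ q p b t m k f a z : T.G}
    (h0 : allLt T.n (fun i => q0 T t f a z (T.el i)) = true)
    (h1 : allLt T.n (fun i => q1 T μ t f a z (T.el i)) = true)
    (d8 : ∃ ψ : T.G →* DihedralGroup 4, ψ t = .sr 0 ∧ ψ κ = .r 1 ∧ ψ f = .r 2 ∧ ψ z = 1 ∧
      ψ a = 1 ∧ ψ k = 1 ∧ ψ m = 1 ∧ ψ b = 1 ∧ (∃ i, ψ p = .sr i) ∧ ∃ i, ψ q = .sr i) :
    Facts κ q p b t m k f a z := by
  refine ⟨fun x e1 e2 => ?_, fun x e1 e2 e3 => ?_, d8⟩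
  · have := allLt_iff.1 h0 x.val x.lt
    rw [Pc.el_self, q0, decide_eq_true_iff] at this
    rcases this e1 e2 with c | c | c | c
    exacts [⟨1, by simp, c⟩, ⟨z, by simp, c⟩, ⟨a, by simp, c⟩, ⟨a * z, by simp, c⟩]
  · have := allLt_iff.1 h1 x.val x.lt
    rw [Pc.el_self, q1] at this
    simp only [Bool.or_eq_true, decide_eq_true_iff, Nat.ble_eq, exLt_iff, Bool.and_eq_true,
      Nat.beq_eq] at this
    rcases this with ((c | c) | c) | ⟨s, hs, c1, c2⟩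
    · exact absurd ⟨e1, e2, e3⟩ c
    · refine .inl ?_
      rcases c with c | c | c | c
      exacts [⟨1, by simp, c⟩, ⟨z, by simp, c⟩, ⟨a, by simp, c⟩, ⟨a * z, by simp, c⟩]
    · exact .inr (.inr (card_cent μ hμ x ▸ c))
    · refine .inr (.inl ⟨⟨s, hs⟩, Pc.G.ext ?_, ?_⟩)
      · rw [← hμ, ← hμ]; exact c2
      · have : (⟨s, hs⟩ : T.G) * x = t * ⟨s, hs⟩ := Pc.G.ext (by rw [← hμ, ← hμ]; exact c1)
        rw [cn, mul_assoc, ← this, inv_mul_cancel_left]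

end Chk

open Cfsg.Agent.H13.LT

universe u

theorem chk0 : ∀ v, allLt (T10 v).n (fun i => q0 (T10 v) ((T10 v).el 16) ((T10 v).el 128)
    ((T10 v).el 256) ((T10 v).el 512) ((T10 v).el i)) = true := by decide +kernel

theorem chk1 : ∀ v, allLt (T10 v).n (fun i => q1 (T10 v) (FF v).mul ((T10 v).el 16) ((T10 v).el 128)
    ((T10 v).el 256) ((T10 v).el 512) ((T10 v).el i)) = true := by decide +kernel

/-- the images of the generators in `D₈` -/
def im (v : Bool) : List (DihedralGroup 4) :=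
  [.r 1, .sr (cond v 2 0), .sr (cond v 2 0), 1, .sr 0, 1, 1, .r 2, 1, 1]

theorem rel_im : ∀ v, (T10 v).Rel (im v) := by decide +kernel

theorem facts (v : Bool) : Facts ((T10 v).el 1) ((T10 v).el 2) ((T10 v).el 4) ((T10 v).el 8)
    ((T10 v).el 16) ((T10 v).el 32) ((T10 v).el 64) ((T10 v).el 128) ((T10 v).el 256)
    ((T10 v).el 512) := by
  have e := fun i hi => lift_el (rel_im v) i hi
  exact facts_of (H13.Pk.fast_mul (f10 v)) (chk0 v) (chk1 v) ⟨_, e 4 (by simp [im]),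
    e 0 (by simp [im]), e 7 (by simp [im]), e 9 (by simp [im]), e 8 (by simp [im]),
    e 6 (by simp [im]), e 5 (by simp [im]), e 3 (by simp [im]), ⟨_, e 2 (by simp [im])⟩,
    ⟨_, e 1 (by simp [im])⟩⟩

theorem he (hk : KitStmt.{u}) (hs : HSStmt.{u}) : HEStmt.{u} := by
  intro G _ _ h hy
  obtain ⟨v, φ, -, d⟩ := exists_phi h hy
  exact h4_of (hk G h.toHyp) hy (hs G h).1 (hs G h).2
    ⟨d.inj, d.ran, d.κ.trans (if_neg hy), d.q, d.p, d.b, d.t, d.m, d.k, d.f, d.a, d.z⟩ (facts v)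

end Cfsg.Agent.H37.LtHE
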