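import Cfsg.Agent.H1.SpD

/-! Project SP4, piece CUB0: reduction to a minimal configuration. -/

set_option autoImplicit false

universe u

namespace Cfsg.Agent.H37.SpC

open Cfsg.Agent.H1.SP Subgroup Cfsg.Agent.H83

variable {K : Type u} [Field K] {p : ℕ}

instance [Finite K] : Finite (Au K) := Finite.of_injective _ (DFunLike.coe_injective (F := Au K))

theorem inv_app {g : Au K} {a b : K × K × K} (h : g a = b) : g⁻¹ b = a := h ▸ g.symm_apply_apply a

theorem app_inv (g : Au K) (a : K × K × K) : g (g⁻¹ a) = a := g.apply_symm_apply a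

/-- the pointwise stabilizer of `W` -/
def Fx (W : AddSubgroup K) : Subgroup (Au K) where
  carrier := {g | ∀ w ∈ W, g (0, 0, w) = (0, 0, w)}
  one_mem' _ _ := rfl
  mul_mem' h k w hw := by rw [LinearEquiv.mul_apply, k w hw, h w hw]
  inv_mem' h w hw := inv_app (h w hw)

theorem xa_fix {g : Au K} (h : g ∈ XA K) (w : K) : g (0, 0, w) = (0, 0, w) := by
  obtain ⟨t, rfl⟩ := h
  simpa using xa_apply t.toAdd (0, 0, w)

theorem pow_fix [CharP K p] {g : Au K} {a : K × K × K} (h : g (g a - a) = g a - a) : (g ^ p) a = a := by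
  have : ∀ k : ℕ, (g ^ k) a = a + k • (g a - a) := fun k => by
    induction k with
    | zero => simp
    | succ k ih => rw [pow_succ', LinearEquiv.mul_apply, ih, map_add, map_nsmul, h, succ_nsmul]; abel
  rw [this, ← Nat.cast_smul_eq_nsmul K, CharP.cast_eq_zero, zero_smul, add_zero]

/-- the stability group of the flag -/
def TT (K : Type u) [Field K] : Subgroup (Au K) where
  carrier := {g | (∀ w, g (0, 0, w) = (0, 0, w)) ∧ (∀ a, (g a).1 = a.1) ∧
    ∀ a, a.1 = 0 → (g a).2.1 = a.2.1}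
  one_mem' := ⟨fun _ => rfl, fun _ => rfl, fun _ _ => rfl⟩
  mul_mem' {g g'} h k := ⟨fun w => by rw [LinearEquiv.mul_apply, k.1, h.1],
    fun a => by rw [LinearEquiv.mul_apply, h.2.1, k.2.1],
    fun a e => by rw [LinearEquiv.mul_apply, h.2.2 _ ((k.2.1 a).trans e), k.2.2 a e]⟩
  inv_mem' {g} h := ⟨fun w => inv_app (h.1 w), fun a => by rw [← h.2.1, app_inv], fun a e => by
    rw [← h.2.2 _ (by rw [← h.2.1, app_inv, e]), app_inv]⟩

theorem tt_p [CharP K p] : IsPGroup p (TT K) := fun ⟨g, h⟩ => ⟨2, Subtype.ext (by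
  have h1 : ∀ a : K × K × K, a.1 = 0 → (g ^ p) a = a := fun a e => pow_fix (by
    rw [show g a - a = (0, 0, (g a - a).2.2) from
      Prod.ext (sub_eq_zero.2 (h.2.1 a)) (Prod.ext (sub_eq_zero.2 (h.2.2 a e)) rfl), h.1])
  refine LinearEquiv.ext fun a => ?_
  rw [coe_pow, sq, pow_mul]
  exact pow_fix (h1 _ (sub_eq_zero.2 ((pow_mem h p).2.1 a))))⟩

theorem mem_X [CharP K p] {Γ : Subgroup (Au K)} (h : IsSylowIn p (XA K) Γ) {g : Au K} (h1 : g ∈ Γ)
    (h2 : g ∈ TT K) : ∃ t, g = xa (.ofAdd t) := by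
  obtain ⟨t, e⟩ := (h.max (Γ ⊓ TT K) inf_le_left (tt_p.to_inf_right) (le_inf h.le fun x hx => by
    refine ⟨xa_fix hx, ?_⟩
    obtain ⟨t, rfl⟩ := hx
    exact ⟨fun _ => rfl, fun a e => (congrArg (·.2.1) (xa_apply t.toAdd a)).trans (by simp [e])⟩)).le
      ⟨h1, h2⟩
  exact ⟨t.toAdd, e.symm⟩

theorem main [Finite K] [Fact p.Prime] [CharP K p] (h1 : Cb1Stmt.{u}) (h2 : Cb2Stmt.{u}) (hp : p ≠ 2)
    {Γ : Subgroup (Au K)} (hS : IsSylowIn p (XA K) Γ) (ht : ∀ c, da c ∈ Γ) {w : K} (h0 : w ≠ 0)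
    (hw : ∀ g ∈ Γ, g (0, 0, w) = (0, 0, w)) : Γ ≤ normalizer (XA K : Set (Au K)) := by
  by_contra hn
  have sup : ∀ (g : Au K) (W : AddSubgroup K) w, g ∈ Fx W → g (0, 0, w) = (0, 0, w) →
      g ∈ Fx (W ⊔ AddSubgroup.zmultiples w) := fun g W w h e _ hx => by
    obtain ⟨a, ha, _, ⟨m, rfl⟩, rfl⟩ := AddSubgroup.mem_sup.1 hx
    have : ((0, 0, a + m • w) : K × K × K) = (0, 0, a) + m • (0, 0, w) := by simp
    rw [this, map_add, map_zsmul, h a ha, e]
  obtain ⟨W, ⟨hW, hN⟩, hm⟩ := (wellFounded_gt (α := AddSubgroup K)).has_min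
    {W | w ∈ W ∧ ¬ Γ ⊓ Fx W ≤ normalizer (XA K : Set (Au K))}
    ⟨_, AddSubgroup.mem_sup_right (AddSubgroup.mem_zmultiples w), fun h => hn fun g hg =>
      h ⟨hg, sup g ⊥ w (by rintro _ rfl; exact map_zero g) (hw g hg)⟩⟩
  have C : Cb p (Γ ⊓ Fx W) W :=
    { syl := hS.mono (le_inf hS.le fun x hx w _ => xa_fix hx w) inf_le_left
      tor := fun c => ⟨ht c, fun w _ => by simp [da_apply]⟩
      ne := fun e => h0 (AddSubgroup.mem_bot.1 (e ▸ hW))
      fix := fun _ h => h.2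
      nn := hN
      unif := fun g hg hn w w' e => by
        by_contra hw
        refine hm (W ⊔ AddSubgroup.zmultiples w) ⟨AddSubgroup.mem_sup_left hW, fun h => hn ?_⟩
          (left_lt_sup.2 (mt AddSubgroup.zmultiples_le.1 hw))
        have le : cj g⁻¹ (XA K) ≤ Γ := cj_le_of_mem hS.le (inv_mem hg.1)
        have := hS.le_of_norm' le (isPGroup_cj hS.isPGroup _) fun y hy => h ⟨le hy, by
          obtain ⟨x, hx, rfl⟩ := hy
          refine sup _ W w (mul_mem (mul_mem (inv_mem hg.2) fun w _ => xa_fix hx w)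
            (inv_mem (inv_mem hg.2))) ?_
          change g⁻¹ (x (g (0, 0, w))) = _
          rw [e, xa_fix hx, inv_app e]⟩
        exact inv_mem_iff.1 (mem_normalizer_fintype fun x hx => this ⟨x, hx, rfl⟩) }
  exact h2 K p hp _ W C (h1 K p hp _ W C)

theorem nf [Fact p.Prime] [CharP K p] (hp : p ≠ 2) {Γ : Subgroup (Au K)} (hS : IsSylowIn p (XA K) Γ)
    {c : Kˣ} {d : Au K} (hd : d ∈ Γ) (h1 : ∀ w, d (0, 0, w) = (0, 0, w))
    (h2 : ∀ v w, (d (0, v, w)).1 = 0 ∧ (d (0, v, w)).2.1 = c * v) (h3 : ∀ a, (d a).1 = c ^ 2 * a.1) :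
    ∃ d' ∈ Γ, ∃ γ : K →+ K, ∀ a, d' a = (c ^ 2 * a.1, c * a.2.1, a.2.2 + γ a.1) := by
  have two : (2 : K) ≠ 0 := Ring.two_ne_zero (by rwa [ringChar.eq K p])
  have dec : ∀ (g : Au K) u v w, g (u, v, w) = g (u, 0, 0) + g (0, v, 0) + g (0, 0, w) := fun g u v w => by
    rw [← map_add, ← map_add]; simp
  have key : ∀ t u, (d (0, t * u, 0)).2.2 = 2 * (t / c) * (d (u, 0, 0)).2.1 := fun t u => by
    refine (mem_X hS (g := d * xa (.ofAdd t) * d⁻¹) (mul_mem (mul_mem hd (hS.le ⟨_, rfl⟩)) (inv_mem hd))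
      ⟨fun w => ?_, fun a => ?_, fun a e => ?_⟩).elim fun s e => ?_
    rotate_right
    · have e1 := fun u => DFunLike.congr_fun (mul_inv_eq_iff_eq_mul.1 e) (u, 0, 0)
      simp only [LinearEquiv.mul_apply, xa_apply, zero_add, mul_zero] at e1
      have e2 := congrArg (·.2.1) (e1 1)
      have e3 := congrArg (·.2.2) (e1 u)
      rw [dec] at e2 e3
      simp only [h1, h3, (h2 _ _).2, Prod.fst_add, Prod.snd_add] at e2 e3
      obtain rfl : s = t / c := by
        rw [eq_div_iff c.ne_zero]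
        exact mul_left_cancel₀ c.ne_zero (by linear_combination -e2)
      rw [div_pow, ← mul_assoc, div_mul_cancel₀ _ (pow_ne_zero 2 c.ne_zero)] at e3
      linear_combination e3
    · change d (xa _ (d⁻¹ _)) = _
      rw [inv_app (h1 w), xa_fix ⟨_, rfl⟩, h1]
    · change (d (xa _ (d⁻¹ a))).1 = _
      rw [h3, ← congrArg (·.1) (app_inv d a), h3]; rfl
    · change (d (xa _ (d⁻¹ a))).2.1 = _
      obtain ⟨⟨u, v, w⟩, rfl⟩ := d.surjective a
      obtain rfl : u = 0 := by simpa [h3] using e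
      rw [inv_app rfl, xa_apply]
      simp [(h2 _ _).2]
  set α := (d (1, 0, 0)).2.1
  have k1 : ∀ t, (d (0, t, 0)).2.2 = 2 * (t / c) * α := fun t => by simpa using key t 1
  have k2 : ∀ u, (d (u, 0, 0)).2.1 = α * u := fun u => by
    have := key 1 u
    rw [one_mul, k1] at this
    field_simp at this
    linear_combination -this
  let d' := xa (.ofAdd (-α / c ^ 2)) * d
  refine ⟨d', mul_mem (hS.le ⟨_, rfl⟩) hd, AddMonoidHom.mk' (fun u => (d' (u, 0, 0)).2.2)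
    fun a b => by rw [← Prod.snd_add, ← Prod.snd_add, ← map_add]; simp, fun ⟨u, v, w⟩ => ?_⟩
  rw [dec]
  ext <;> simp only [d', LinearEquiv.mul_apply, xa_apply, h1, h3, (h2 _ _).2, k1, k2, Prod.fst_add,
    Prod.snd_add, AddMonoidHom.mk'_apply] <;> field_simp <;> ring

/-- a shear -/
def sh (κ : K →+ K) : Au K := AddEquiv.toIntLinearEquiv
  { toFun a := (a.1, a.2.1, a.2.2 - κ a.1)
    invFun a := (a.1, a.2.1, a.2.2 + κ a.1)
    left_inv a := by simp
    right_inv a := by simp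
    map_add' a b := by ext <;> simp; ring }

theorem sh_apply (κ : K →+ K) (a : K × K × K) : sh κ a = (a.1, a.2.1, a.2.2 - κ a.1) := rfl

/-- **CUB0** -/
theorem cub (h1 : Cb1Stmt.{u}) (h2 : Cb2Stmt.{u}) : CubStmt.{u} := by
  intro K _ _ p _ _ hp Γ hS hd ⟨w, h0, hw⟩
  have two : (2 : K) ≠ 0 := Ring.two_ne_zero (by rwa [ringChar.eq K p])
  obtain ⟨c, hc⟩ := IsCyclic.exists_generator (α := Kˣ)
  obtain ⟨d, a1, a2, a3, a4⟩ := hd c
  obtain ⟨d, hd, γ, e⟩ := nf hp hS a1 a2 a3 a4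
  obtain ⟨κ, hκ⟩ : ∃ κ : K →+ K, ∀ u, κ ((c ^ 2 - 1) * u) = γ u := by
    by_cases h : (c : K) ^ 2 = 1
    · have e2 : ∀ a, (d * d) a = (a.1, a.2.1, a.2.2 + 2 * γ a.1) := fun a => by
        rw [LinearEquiv.mul_apply]
        simp only [e, h, one_mul, ← mul_assoc, ← sq, two_mul, add_assoc]
      obtain ⟨s, e3⟩ := mem_X hS (mul_mem hd hd) ⟨fun w => by simp [e2], fun a => by rw [e2],
        fun a _ => by rw [e2]⟩
      have e4 := e2 (0, 1, 0)
      refine ⟨0, fun u => ?_⟩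
      have e5 := e2 (u, 0, 0)
      rw [e3, xa_apply] at e4 e5
      obtain rfl : s = 0 := by simpa [two] using e4
      simpa [two, eq_comm] using e5
    · exact ⟨γ.comp (.mulLeft (c ^ 2 - 1)⁻¹), fun u => by
        simp [inv_mul_cancel_left₀ (sub_ne_zero.2 h)]⟩
  have hN : sh κ ∈ normalizer (XA K : Set (Au K)) := mem_normalizer_fintype (by
    rintro _ ⟨t, rfl⟩
    refine ⟨t, eq_mul_inv_of_mul_eq (LinearEquiv.ext fun a => ?_)⟩
    change xa (.ofAdd t.toAdd) (sh κ a) = sh κ (xa (.ofAdd t.toAdd) a)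
    simp only [xa_apply, sh_apply]
    congr 2
    ring)
  have hz : sh κ (0, 0, w) = (0, 0, w) := by simp [sh_apply]
  have := main h1 h2 hp (Γ := cj (sh κ) Γ) (by simpa only [cj_eq_self hN] using hS.cj (sh κ))
    (fun b => ?_) h0 ?_
  · exact fun g hg => by simpa [mul_assoc] using mul_mem (mul_mem (inv_mem hN) (this ⟨g, hg, rfl⟩)) hN
  · obtain ⟨k, rfl⟩ := hc b
    rw [map_zpow]
    refine zpow_mem (mem_map.2 ⟨d, hd, mul_inv_eq_iff_eq_mul.2 (LinearEquiv.ext fun a => ?_)⟩) k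
    simp only [LinearEquiv.mul_apply, sh_apply, e, da_apply, ← hκ, sub_mul, map_sub, one_mul]
    congr 2
    ring
  · rintro _ ⟨g, hg, rfl⟩
    change sh κ (g ((sh κ)⁻¹ _)) = _
    rw [inv_app hz, hw g hg, hz]

end Cfsg.Agent.H37.SpC
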