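import Cfsg.Agent.H56.SpDefs

/-! Project CY, chapter SP, piece P2. -/

set_option autoImplicit false

namespace Cfsg.Agent.H37.SpP2

open Subgroup MulAction Cfsg.Agent.H11.Cy Cfsg.Agent.H56.Sp
open scoped MatrixGroups Pointwise

section Mat
variable {F : Type} [Field F]

theorem scal {X : Matrix (Fin 2) (Fin 2) F} (h : ∀ u : SL(2, F), X * u.1 = u.1 * X) :
    X 0 1 = 0 ∧ X 1 0 = 0 ∧ X 0 0 = X 1 1 := by
  have h1 := h ⟨!![1, 1; 0, 1], by simp [Matrix.det_fin_two]⟩
  have h2 := h ⟨!![1, 0; 1, 1], by simp [Matrix.det_fin_two]⟩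
  have a := congrFun (congrFun h1 0) 0
  have b := congrFun (congrFun h1 0) 1
  have c := congrFun (congrFun h2 0) 0
  simp [Matrix.mul_apply, Fin.sum_univ_two] at a b c
  exact ⟨c, a, by linear_combination b⟩

theorem cancel {M X Y : Matrix (Fin 2) (Fin 2) F} (hM : M.det ≠ 0) (h : X * M = Y * M) : X = Y :=
  ((Matrix.isUnit_iff_isUnit_det M).2 (IsUnit.mk0 _ hM)).mul_right_cancel h

theorem sq_of {p : ℕ} [Fact p.Prime] [CharP F p] {M U : Matrix (Fin 2) (Fin 2) F} {i : ℕ}
    (ht : M 0 0 + M 1 1 = 0) (h1 : U ≠ 1) (hp : U ^ p = 1) (h : M * U = U ^ i * M) :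
    IsSquare (-M.det) := by
  obtain ⟨N, rfl⟩ : ∃ N, U = N + 1 := ⟨U - 1, by simp⟩
  have hN : N ^ p = 0 := by
    rwa [add_pow_char_of_commute _ (Commute.one_right N), one_pow, add_eq_right] at hp
  have t0 := (Matrix.isNilpotent_trace_of_isNilpotent ⟨p, hN⟩).eq_zero
  have d0 : N.det = 0 := by
    have := congrArg Matrix.det hN
    rw [Matrix.det_pow, Matrix.det_zero] at this
    exact pow_eq_zero_iff (Fact.out : p.Prime).ne_zero |>.1 this
  rw [Matrix.trace_fin_two] at t0
  rw [Matrix.det_fin_two] at d0 ⊢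
  have hd : N 1 1 = -N 0 0 := by linear_combination t0
  have hm : M 1 1 = -M 0 0 := by linear_combination ht
  rw [hd] at d0
  have h2 : N * N = 0 := by
    ext i j
    fin_cases i <;> fin_cases j <;> simp [Matrix.mul_apply, Fin.sum_univ_two, hd]
    · linear_combination -d0
    · ring
    · ring
    · linear_combination -d0
  have h3 : ∀ k : ℕ, N * (N + 1) ^ k = N := fun k => by
    induction k with
    | zero => simp
    | succ k ih => rw [pow_succ, ← mul_assoc, ih, mul_add, h2, zero_add, mul_one]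
  have h4 : N * M * N = 0 := by
    have := congrArg (N * ·) h
    simp only [← mul_assoc, h3] at this
    rwa [mul_add, mul_one, add_eq_right] at this
  have e1 := congrFun (congrFun h4 0) 1
  have e2 := congrFun (congrFun h4 1) 0
  simp only [Matrix.mul_apply, Fin.sum_univ_two, hd, hm, Matrix.zero_apply] at e1 e2
  rw [hm]
  by_cases b0 : N 0 1 = 0
  · have a0 : N 0 0 = 0 := by
      rw [b0] at d0
      exact pow_eq_zero_iff two_ne_zero |>.1 (by linear_combination -d0)
    have c0 : N 1 0 ≠ 0 := fun c0 => h1 (by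
      ext i j
      fin_cases i <;> fin_cases j <;> simp [a0, b0, c0, hd])
    have : M 0 1 = 0 := mul_left_cancel₀ (pow_ne_zero 2 c0) (by
      rw [a0] at e2; linear_combination e2)
    exact ⟨M 0 0, by rw [this]; ring⟩
  · refine ⟨(N 0 1 * M 0 0 - N 0 0 * M 0 1) / N 0 1, ?_⟩
    field_simp
    linear_combination (M 0 1) * e1

theorem ex_unip (h2 : (2 : F) ≠ 0) {M : Matrix (Fin 2) (Fin 2) F} (ht : M 0 0 + M 1 1 = 0)
    (hM : M.det ≠ 0) (h : IsSquare (-M.det)) : ∃ N : Matrix (Fin 2) (Fin 2) F,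
    N ≠ 0 ∧ N * N = 0 ∧ (N + 1).det = 1 ∧ (N + 1) * M * (N + 1) = M := by
  obtain ⟨l, hl⟩ := h
  have hm : M 1 1 = -M 0 0 := by linear_combination ht
  rw [Matrix.det_fin_two, hm] at hl hM
  obtain ⟨v, w, h0, e1, e2⟩ : ∃ v w : F, (v ≠ 0 ∨ w ≠ 0) ∧ M 0 0 * v + M 0 1 * w = l * v ∧
      M 1 0 * v - M 0 0 * w = l * w := by
    by_cases k : l = M 0 0
    · refine ⟨l + M 0 0, M 1 0, .inl fun z => hM ?_, by linear_combination hl, by ring⟩
      have : l = 0 := mul_left_cancel₀ h2 (by linear_combination z + k)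
      rw [this] at hl
      linear_combination -hl
    · exact ⟨M 0 1, l - M 0 0, .inr (sub_ne_zero.2 k), by ring, by linear_combination hl⟩
  refine ⟨!![-(v * w), v ^ 2; -w ^ 2, v * w], fun z => ?_, ?_, ?_, ?_⟩
  · have a := congrFun (congrFun z 0) 1
    have b := congrFun (congrFun z 1) 0
    simp at a b
    tauto
  · ext i j
    fin_cases i <;> fin_cases j <;> simp [Matrix.mul_apply, Fin.sum_univ_two] <;> ring
  · simp [Matrix.det_fin_two]; ring
  · have a : M * !![-(v * w), v ^ 2; -w ^ 2, v * w] = l • !![-(v * w), v ^ 2; -w ^ 2, v * w] := by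
      ext i j
      fin_cases i <;> fin_cases j <;> simp [Matrix.mul_apply, Fin.sum_univ_two, hm]
      · linear_combination (-w) * e1
      · linear_combination v * e1
      · linear_combination (-w) * e2
      · linear_combination v * e2
    have b : !![-(v * w), v ^ 2; -w ^ 2, v * w] * M = (-l) • !![-(v * w), v ^ 2; -w ^ 2, v * w] := by
      ext i j
      fin_cases i <;> fin_cases j <;> simp [Matrix.mul_apply, Fin.sum_univ_two, hm]
      · linear_combination v * e2
      · linear_combination (-v) * e1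
      · linear_combination w * e2
      · linear_combination (-w) * e1
    have c : !![-(v * w), v ^ 2; -w ^ 2, v * w] * !![-(v * w), v ^ 2; -w ^ 2, v * w] = 0 := by
      ext i j
      fin_cases i <;> fin_cases j <;> simp [Matrix.mul_apply, Fin.sum_univ_two] <;> ring
    generalize !![-(v * w), v ^ 2; -w ^ 2, v * w] = N at a b c
    rw [add_mul, one_mul, mul_add, mul_one, add_mul, a, b, smul_mul_assoc, c]
    module

end Mat

theorem p2 : P2Stmt' := by
  intro G _ _ Ω _ _ p A S hp2 ep x y hxy lf ⟨F, _, _, e, hF, hM⟩ g ⟨gN, g2, gK⟩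
  classical
  have : Fact p.Prime := ⟨S.pp⟩
  have : CharP F p := charP_of_card_eq_prime hF
  have h2 : (2 : F) ≠ 0 := Ring.two_ne_zero (by rw [ringChar.eq F p]; exact hp2)
  obtain ⟨M, d0, hM⟩ := hM g gN
  let c : Fl A x y → Fl A x y := fun f => ⟨g * f * g⁻¹, (mem_normalizer_iff.1 gN f.1).1 f.2⟩
  have hc : ∀ f, M * (e f).1 = (e (c f)).1 * M := fun f => hM f (c f) rfl
  have ht : M 0 0 + M 1 1 = 0 := by
    have k1 := scal (X := M * M) fun u => by
      obtain ⟨f, rfl⟩ := e.surjective u
      have : c (c f) = f := Subtype.ext (by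
        change g * (g * f * g⁻¹) * g⁻¹ = f
        have := g2 f.1 f.2
        rw [show g * (g * f * g⁻¹) * g⁻¹ = g * g * f * (g * g)⁻¹ by group, ← this,
          mul_inv_cancel_right])
      rw [mul_assoc, hc, ← mul_assoc, hc, this, mul_assoc]
    simp only [Matrix.mul_apply, Fin.sum_univ_two] at k1
    by_contra k
    have a : M 0 1 = 0 := mul_left_cancel₀ k (by linear_combination k1.1)
    have b : M 1 0 = 0 := mul_left_cancel₀ k (by linear_combination k1.2.1)
    have d : M 1 1 = M 0 0 := mul_left_cancel₀ k (by linear_combination -k1.2.2)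
    refine gK fun f hf => ?_
    have k2 : (e ⟨f, hf⟩).1 * M = (e (c ⟨f, hf⟩)).1 * M := by
      rw [← hc]
      ext i j
      fin_cases i <;> fin_cases j <;> simp [Matrix.mul_apply, Fin.sum_univ_two, a, b, d, mul_comm]
    have k3 : f = g * f * g⁻¹ := congrArg Subtype.val (e.injective (Subtype.ext (cancel d0 k2)))
    exact mul_inv_eq_iff_eq_mul.1 k3.symm |>.symm
  have hFK : FK A x y g ↔ IsSquare M.det := by
    constructor
    · rintro ⟨f, hf, k, hk, rfl⟩
      have k1 := scal (X := ((e ⟨f, hf⟩)⁻¹).1 * M) fun u => by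
        obtain ⟨a, rfl⟩ := e.surjective u
        have : c a = ⟨f, hf⟩ * a * ⟨f, hf⟩⁻¹ := Subtype.ext (by
          change f * k * a * (f * k)⁻¹ = f * a * f⁻¹
          rw [mul_assoc f, ← hk a.1 a.2]; group)
        rw [mul_assoc, hc, this, ← mul_assoc, ← mul_assoc, ← Matrix.SpecialLinearGroup.coe_mul,
          ← Matrix.SpecialLinearGroup.coe_mul, map_mul, map_mul, map_inv, mul_assoc (e _),
          inv_mul_cancel_left]
      have k2 : (((e ⟨f, hf⟩)⁻¹).1 * M).det = M.det := by
        rw [Matrix.det_mul, Matrix.SpecialLinearGroup.det_coe, one_mul]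
      rw [Matrix.det_fin_two (_ * M), k1.1, k1.2.2, zero_mul, sub_zero] at k2
      exact ⟨_, k2.symm⟩
    · rintro ⟨s, hs⟩
      have s0 : s ≠ 0 := by rintro rfl; exact d0 (by rw [hs, mul_zero])
      obtain ⟨f, hf⟩ := e.surjective ⟨s⁻¹ • M, by
        rw [Matrix.det_smul, hs, Fintype.card_fin]; field_simp⟩
      refine ⟨f, f.2, f.1⁻¹ * g, fun a ha => ?_, by group⟩
      have k1 : f * ⟨a, ha⟩ = c ⟨a, ha⟩ * f := e.injective (Subtype.ext (by
        rw [map_mul, map_mul, Matrix.SpecialLinearGroup.coe_mul,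
          Matrix.SpecialLinearGroup.coe_mul, show (e f).1 = s⁻¹ • M from congrArg Subtype.val hf,
          smul_mul_assoc, mul_smul_comm, hc]))
      have k2 : f.1 * a = g * a * g⁻¹ * f.1 := congrArg Subtype.val k1
      calc a * (f.1⁻¹ * g) = f.1⁻¹ * (f.1 * a) * (f.1⁻¹ * g) := by group
        _ = f.1⁻¹ * g * a := by rw [k2]; group
  have hFp : ¬ Fp A x y g ↔ IsSquare (-M.det) := by
    constructor
    · intro h
      simp only [Fp, not_forall, not_not] at h
      obtain ⟨z, hz, gz⟩ := h
      obtain ⟨a, a1⟩ : ∃ a : A z, a ≠ 1 := by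
        have : Nontrivial (A z) := Finite.one_lt_card_iff_nontrivial.1 (by
          rw [S.card z]; exact S.pp.one_lt)
        exact exists_ne 1
      have ap : a ^ p = 1 := by rw [← S.card z]; exact pow_card_eq_one'
      obtain ⟨i, hi⟩ := mem_powers_of_prime_card (S.card z) a1
        (g' := ⟨g * a * g⁻¹, by have := S.eqv g z a.1 a.2; rwa [gz] at this⟩)
      refine sq_of (p := p) (U := (e ⟨a.1, hz a.2⟩).1) (i := i) ht (fun k => a1 ?_) ?_ ?_
      · exact Subtype.ext (congrArg (fun u : Fl A x y => u.1)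
          (e.map_eq_one_iff.1 (Subtype.ext k)))
      · rw [← Matrix.SpecialLinearGroup.coe_pow, ← map_pow,
          show (⟨a.1, hz a.2⟩ : Fl A x y) ^ p = 1 from
            Subtype.ext (congrArg (fun u : A z => u.1) ap), map_one]
        rfl
      · rw [← Matrix.SpecialLinearGroup.coe_pow, ← map_pow]
        exact hM _ _ (congrArg (fun u : A z => u.1) hi)
    · intro h hfp
      obtain ⟨N, n0, n2, n1, n3⟩ := ex_unip h2 ht d0 h
      obtain ⟨u, hu⟩ := e.surjective ⟨N + 1, n1⟩
      replace hu : (e u).1 = N + 1 := congrArg Subtype.val hu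
      have u1 : u ≠ 1 := fun k => n0 (by
        rw [k, map_one] at hu
        exact add_eq_right.1 hu.symm)
      have up : u ^ p = 1 := e.map_eq_one_iff.1 (Subtype.ext (by
        rw [map_pow, Matrix.SpecialLinearGroup.coe_pow, hu]
        change (N + 1) ^ p = 1
        rw [add_pow_char_of_commute _ (Commute.one_right N), one_pow,
          pow_eq_zero_of_le S.pp.two_le (by rw [pow_two, n2]), zero_add]))
      have cu : u * c u = 1 := e.map_eq_one_iff.1 (Subtype.ext (cancel d0 (by
        rw [map_mul, Matrix.SpecialLinearGroup.coe_mul, mul_assoc, ← hc, hu, ← mul_assoc]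
        exact n3.trans (one_mul M).symm)))
      have cA : Nat.card ((A x).subgroupOf (Fl A x y)) = p := by
        rw [Nat.card_congr (subgroupOfEquivOfLe le_sup_left).toEquiv, S.card x]
      have ix := ((A x).subgroupOf (Fl A x y)).card_mul_index
      rw [cA, lf.crd] at ix
      let P : Sylow p (Fl A x y) := IsPGroup.toSylow (P := (A x).subgroupOf (Fl A x y))
        (IsPGroup.of_card (n := 1) (by rw [cA, pow_one])) (by
          rw [Nat.eq_of_mul_eq_mul_left S.pp.pos ix]
          intro k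
          have k1 : p ∣ p ^ 2 := dvd_pow_self p two_ne_zero
          have := Nat.le_of_dvd one_pos ((Nat.dvd_sub_iff_right
            (Nat.one_le_pow 2 p S.pp.pos) k1).1 k)
          have := S.pp.two_le
          omega)
      obtain ⟨Q, hQ⟩ := (IsPGroup.of_card (p := p) (n := 1) (G := zpowers u) (by
        rw [Nat.card_zpowers, orderOf_eq_prime up u1, pow_one])).exists_le_sylow
      obtain ⟨f, rfl⟩ := exists_smul_eq (Fl A x y) P Q
      have m1 := hQ (mem_zpowers u)
      rw [Sylow.coe_subgroup_smul, mem_smul_pointwise_iff_exists] at m1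
      obtain ⟨a, ha, ea⟩ := m1
      have m2 : u.1 ∈ A (f.1 • x) := by
        rw [← ea]; exact S.eqv f.1 x a.1 ha
      have m3 : f.1 • x ∈ Ln A x y := (ep.nrm x y hxy f.1).1 (le_normalizer f.2) x lf.mem.1
      have m4 := S.fix _ _ (S.eqv g _ _ m2)
      have m5 : g * u.1 * g⁻¹ = u.1⁻¹ :=
        eq_inv_of_mul_eq_one_right (congrArg Subtype.val cu)
      rw [m5] at m4
      rcases S.semi _ _ _ (inv_mem m2) m4 with k | k
      · exact u1 (Subtype.ext (inv_eq_one.1 k))
      · exact hfp _ m3 k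
  have hn := FiniteField.isSquare_neg_one_iff (F := F)
  rw [hF] at hn
  rw [hFK, ← not_iff_not, hFp, ← not_not (a := p % 4 = 3), ← Ne, ← hn,
    ← quadraticChar_one_iff_isSquare d0, ← quadraticChar_one_iff_isSquare (neg_ne_zero.2 d0),
    ← quadraticChar_one_iff_isSquare (neg_ne_zero.2 one_ne_zero), ← neg_one_mul M.det, map_mul]
  rcases quadraticChar_dichotomy d0 with k | k <;>
    rcases quadraticChar_dichotomy (neg_ne_zero.2 (one_ne_zero (α := F))) with k' | k' <;>
    rw [k, k'] <;> decide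

end Cfsg.Agent.H37.SpP2
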