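import Cfsg.Agent.H37.F4inE6

/-! Subgroups of `²E₆(2)` moved by the diagonal automorphism. -/

set_option autoImplicit false

namespace Cfsg.Agent.H37

open Cfsg.Lie Matrix H34 H40

variable {K : Type*} [Field K]

theorem diag_inner {D : ChevalleyDatum} {C : Cert D} [Finite K] {g : D.group K} {c : Fin D.rank → Kˣ} {l : K}
    (h : (g.1 * dG D K (rootChar C c)).1 = l • 1) : ∃ d, ∀ i : Fin D.rank, torChar D d (D.simple i) * c i = 1 := by
  have h1 : ∀ y, g * diagHom C c y * g⁻¹ = y := fun y => Subtype.ext (by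
    have : g.1 * dG D K (rootChar C c) * y.1 = y.1 * (g.1 * dG D K (rootChar C c)) :=
      Units.ext (by rw [Units.val_mul, Units.val_mul y.1, h]; simp)
    rw [Subgroup.coe_mul, Subgroup.coe_mul, diagHom_apply, C.V.coe_diagAut, ← mul_assoc, ← mul_assoc, this]
    simp [mul_assoc])
  have h3 : MulAut.conj g = diagHom C c⁻¹ := by
    rw [map_inv, eq_inv_iff_mul_eq_one]
    exact MulEquiv.ext h1
  obtain ⟨d, rfl⟩ := Cert.mem_H_iff.1 (pres_conj_iff.1 (by rw [h3]; exact (isStd_diagHom (C := C) c⁻¹).pres))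
  refine ⟨d, fun i => Units.ext (C.V.xE_injective (C.V.basic.simple_lt i i.2) ?_)⟩
  have := h1 (C.V.xE K (D.simple i) 1)
  rw [diagHom_simple, mul_one] at this
  exact (Cert.tg_conj d (C.V.basic.simple_lt i i.2) _).symm.trans this

/-- a subgroup with trivial commutant and outer automorphism group of order two has three classes of images -/
theorem three_classes [Fintype K] (hK : Fintype.card K = 4) {Γ : Type*} [Group Γ] (hΓ : Nat.card (Out Γ) = 2)
    {Ψ : Γ →* twistedE6 K 2} (hΨ : Function.Injective Ψ)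
    (hS : ∀ P : Matrix chevE6.Idx chevE6.Idx K, (∀ y, Commute P (Ψ y).1.1) → ∃ l : K, P = l • 1) :
    ∃ H : Fin 3 → Subgroup (twistedE6 K 2), (∀ i, Nonempty (H i ≃* Γ)) ∧
      ∀ i j, i ≠ j → ∀ g : twistedE6 K 2, (H i).map (MulAut.conj g).toMonoidHom ≠ H j := by
  obtain ⟨φ, hφ, h2, -⟩ := exists_frob2 (K := K) (q := 2) Nat.prime_two.isPrimePow hK
  set X := twE6 φ h2 hφ
  obtain ⟨ω, hω⟩ : ∃ ω : Kˣ, orderOf ω = 3 := by
    obtain ⟨ω, h⟩ := IsCyclic.exists_ofOrder_eq_natCard (α := Kˣ)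
    exact ⟨ω, by rw [h, Nat.card_units, Nat.card_eq_fintype_card, hK]⟩
  obtain ⟨c, hc, hc'⟩ : ∃ c : Fin 3 → Fin chevE6.rank → Kˣ, (∀ i, df cE6 (c i) 1 ∈ twAmb X) ∧ ∀ i, c i (0 : Fin 6) ^ 2 *
      (c i (2 : Fin 6) ^ 2) ^ 2 * c i (4 : Fin 6) ^ 2 * (c i (5 : Fin 6) ^ 2) ^ 2 = ω ^ (10 * i : ℕ) :=
    ⟨fun i => parE6 φ (ω ^ (i : ℕ), 1, 1, 1), fun i => E6_df_mem φ h2 hφ _ 1, fun i => Units.ext (by
      simp [parE6, hφ]; ring)⟩
  have hd : ∀ c, df cE6 c (1 : RingAut K) = diagHom cE6 c := fun c => by rw [df, map_one, mul_one]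
  let A : Fin 3 → Γ →* twistedE6 K 2 := fun i => (twRes ⟨_, hc i⟩).1.toMonoidHom.comp Ψ
  have hA : ∀ i y, X.j (A i y) = diagHom cE6 (c i) (X.j (Ψ y)) := fun i y => by rw [← hd]; rfl
  have hA' : ∀ i, Function.Injective (A i) := fun i => (twRes ⟨_, hc i⟩).1.injective.comp hΨ
  refine ⟨fun i => (A i).range, fun i => ⟨(MonoidHom.ofInjective (hA' i)).symm⟩, fun i j hij g e => ?_⟩
  rw [← MonoidHom.range_comp] at e
  let θ : MulAut Γ := ((MonoidHom.ofInjective (f := (MulAut.conj g).toMonoidHom.comp (A i))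
    ((MulAut.conj g).injective.comp (hA' i))).trans (MulEquiv.subgroupCongr e)).trans (MonoidHom.ofInjective (hA' j)).symm
  have hθ : ∀ y, A j (θ y) = g * A i y * g⁻¹ := fun y => MonoidHom.apply_ofInjective_symm (hA' j) _
  obtain ⟨g', h3⟩ : ∃ g', ∀ y, X.j (Ψ (θ y)) = g' * diagHom cE6 ((c j)⁻¹ * c i) (X.j (Ψ y)) * g'⁻¹ :=
    ⟨(diagHom cE6 (c j))⁻¹ (X.j g), fun y => (diagHom cE6 (c j)).injective (by rw [← hA, hθ]; simp [hA])⟩
  obtain ⟨x, hx⟩ : θ ^ 2 ∈ Inn Γ := (QuotientGroup.eq_one_iff _).1 (hΓ ▸ pow_card_eq_one' (x := (θ : Out Γ)))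
  generalize hc2 : (c j)⁻¹ * c i = c' at h3
  obtain ⟨l, hl⟩ := hS (((X.j (Ψ x))⁻¹ * (g' * diagHom cE6 c' g')).1 * dG chevE6 K (rootChar cE6 (c' * c'))).1 fun y => by
    have h4 := h3 (θ y)
    rw [show θ (θ y) = x * y * x⁻¹ from (DFunLike.congr_fun hx y).symm, h3] at h4
    have h5 : (X.j (Ψ x))⁻¹ * (g' * diagHom cE6 c' g') * diagHom cE6 (c' * c') (X.j (Ψ y)) =
        X.j (Ψ y) * ((X.j (Ψ x))⁻¹ * (g' * diagHom cE6 c' g')) := by
      simp only [map_mul, map_inv, MulAut.mul_apply] at h4 ⊢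
      have : ∀ {G : Type _} [Group G] {a y g d z : G}, a * y * a⁻¹ = g * (d * z * d⁻¹) * g⁻¹ →
          a⁻¹ * (g * d) * z = y * (a⁻¹ * (g * d)) := fun {_ _ a y g d z} h => by
        calc _ = a⁻¹ * (g * (d * z * d⁻¹) * g⁻¹) * (g * d) := by group
          _ = _ := by rw [← h]; group
      exact this h4
    have h6 := congrArg (fun z => z.1 * dG chevE6 K (rootChar cE6 (c' * c'))) h5
    simp only [Subgroup.coe_mul, diagHom_apply (c' * c'), Valid.coe_diagAut, mul_assoc, inv_mul_cancel, mul_one] at h6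
    have h7 : Commute (((X.j (Ψ x))⁻¹ * (g' * diagHom cE6 c' g')).1 * dG chevE6 K (rootChar cE6 (c' * c'))) (Ψ y).1 := by
      simpa only [commute_iff_eq, Subgroup.coe_mul, mul_assoc, TwGrp.coe_j] using h6
    exact h7.map (Units.coeHom _)
  obtain ⟨d, hd⟩ := diag_inner hl
  have h7 := E6_diag_inner hK (d := d) (a := fun k => c j k ^ 2) (c := fun k => c i k ^ 2) fun k => by
    rw [← hd k, ← hc2, ← inv_pow, ← mul_pow, sq]; rfl
  have h8 := pow_eq_pow_iff_modEq.1 ((hc' i).symm.trans (h7.trans (hc' j)))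
  rw [hω, Nat.ModEq] at h8
  omega

end Cfsg.Agent.H37
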