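import Cfsg.Agent.H37.TwK1A

/-! # Subgroups of the automorphism group of the sign changes -/

set_option autoImplicit false
set_option maxRecDepth 100000
set_option exponentiation.threshold 10000

namespace Cfsg.Agent.H37.K1

open Equiv Subgroup Cfsg.Agent.H89.TG Cfsg.Agent.H89.Rec Cfsg.Agent.H17.Ya Cfsg.Agent.H17.Tw

/-- A complement to the sign changes in the Sylow subgroup. -/
noncomputable def pe : ℕ → El := fam (nat_lit 0x98ba1032547698ba3210547698ba1032765498ba32107654ba9810325476ba9832105476ba9810327654ba983210765498ba5476103298ba5476321098ba7654103298ba76543210ba9854761032ba9854763210ba9876541032ba9876543210) 15 (by decide +kernel)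

/-- Its action. -/
noncomputable def pc (i : ℕ) : ℕ := fld 25 33554431 (nat_lit 0x84654c4251a621196290947148044444041222011209010504853119429894618a4650c52518110114088106082045041041) i

/-- The transpositions. -/
noncomputable def se : ℕ → El := fam (nat_lit 0x98ba765432107698ba543210ba7698543210549876ba3210ba5476983210ba985476321032987654ba10ba3276549810ba9832547610ba98763254101098765432baba1076543298ba9810543276ba9876103254ba9876541032) 14 (by decide +kernel)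

/-- Their action. -/
noncomputable def sc (i : ℕ) : ℕ := fld 25 33554431 (nat_lit 0x4314947086292881041a308629110106044083251843120900c0444060811031494610a08284024122080889041022) i

/-- Four automorphisms. -/
noncomputable def fc (i : ℕ) : ℕ := fld 25 33554431 (nat_lit 0x81d7df431410617df7d041041) i

/-- The vectors of weight two. -/
noncomputable def w2 (x : ℕ) : Bool := bt (nat_lit 0x117177e) x

attribute [irreducible] pc sc fc w2

/-- The Sylow subgroup. -/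
noncomputable abbrev PP : Subgroup (MulAut E0) := T.map cj

theorem pe_spec : ∀ i < 16, pe i ∈ T ∧ ac (pe i).val = pc i := by kdt

theorem se_spec : ∀ i < 15, ac (se i).val = sc i := by kdt

theorem mem_PP {β : MulAut E0} : β ∈ PP ↔ ∃ i < 16, cd β = pc i := by
  constructor
  · have : ∀ h : El, h ∈ T → forceB (ac h.val) (fun m => anyF (fun i => Nat.beq m (pc i)) 16) = true := by
      wdt
    rintro ⟨h, hh, rfl⟩
    have := this h hh
    rw [forceB_eq, ← anyF_iff] at this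
    simpa only [cd_cj, neq_iff] using this
  · rintro ⟨i, hi, e⟩
    exact ⟨pe i, (pe_spec i hi).1, cd_inj (by rw [cd_cj, e, (pe_spec i hi).2])⟩

theorem exists_PP {i : ℕ} (hi : i < 16) : ∃ p ∈ PP, cd p = pc i :=
  ⟨cj (pe i), ⟨_, (pe_spec i hi).1, rfl⟩, by rw [cd_cj, (pe_spec i hi).2]⟩

/-- No product of two transvections is a transvection. -/
def St (Δ : Subgroup (MulAut E0)) : Prop := ∀ a ∈ Δ, ∀ b ∈ Δ, Tv a → Tv b → ¬ Tv (a * b)

theorem st_of {Δ : Subgroup (MulAut E0)} (h : Syl PP Δ) : St Δ := by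
  intro a ha b hb ta tb tab
  have hc : Commute a b := by
    have := tab.inv
    rw [mul_inv_rev, ta.inv, tb.inv] at this
    exact this.symm
  let K : Subgroup (MulAut E0) :=
    { carrier := {x | x * x = 1 ∧ ∀ y, Commute y a → Commute y b → Commute y x}
      one_mem' := ⟨one_mul 1, fun y _ _ => Commute.one_right y⟩
      mul_mem' := fun {x x'} hx hx' => ⟨by
        have : Commute x x' := hx'.2 x (hx.2 a (Commute.refl a) hc).symm
          (hx.2 b hc.symm (Commute.refl b)).symm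
        rw [mul_assoc, ← mul_assoc x', ← this.eq, mul_assoc, hx'.1, mul_one, hx.1],
        fun y h1 h2 => (hx.2 y h1 h2).mul_right (hx'.2 y h1 h2)⟩
      inv_mem' := fun {x} hx => by rwa [inv_eq_of_mul_eq_one_right hx.1] }
  obtain ⟨k, -, hk⟩ := h.exists_conj_le (X := K ⊓ Δ) inf_le_right fun x =>
    ⟨1, Subtype.ext (by simpa [sq] using x.2.1.1)⟩
  obtain ⟨i, hi, ei⟩ := mem_PP.1 (hk a ⟨⟨ta.sq, fun _ h _ => h⟩, ha⟩)
  obtain ⟨j, hj, ej⟩ := mem_PP.1 (hk b ⟨⟨tb.sq, fun _ _ h => h⟩, hb⟩)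
  have : ∀ i < 16, ∀ j < 16, tvB (pc i) = true → tvB (pc j) = true →
    ¬ tvB (mm (pc i) (pc j)) = true := by kdt
  refine this i hi j hj (ei ▸ (ta.conj k).test) (ej ▸ (tb.conj k).test) ?_
  rw [← ei, ← ej, ← cd_mul, show k * a * k⁻¹ * (k * b * k⁻¹) = k * (a * b) * k⁻¹ by group]
  exact (tab.conj k).test

/-- A forbidden pair. -/
noncomputable def vB (m n : ℕ) : Bool := forceB (mm m n) fun r => bor (tvB r) (tvB (mm r r))

theorem St.not_vB {Δ : Subgroup (MulAut E0)} (h : St Δ) {a b : MulAut E0} (ha : a ∈ Δ) (hb : b ∈ Δ)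
    (ta : Tv a) (tb : Tv b) : ¬ vB (cd a) (cd b) = true := by
  rw [vB, forceB_eq, ← bor_iff, ← cd_mul, ← cd_mul]
  rintro (e | e)
  · exact h a ha b hb ta tb (tv_of e)
  · refine h a ha _ (mul_mem (mul_mem hb ha) (inv_mem hb)) ta (ta.conj b) ?_
    rw [tb.inv, ← mul_assoc, ← mul_assoc, mul_assoc (a * b)]
    exact tv_of e

attribute [irreducible] vB

/-- The code of the permutation of the pairs. -/
noncomputable def wc5 (a b c d e : ℕ) : ℕ :=
  force (Nat.land (ext6 a) (ext6 b)) fun z =>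
    Nat.add (pr2 (Nat.xor (ext6 a) z)) (Nat.add (Nat.shiftLeft (pr2 (Nat.xor (ext6 b) z)) 8)
      (Nat.add (Nat.shiftLeft (pr2 (Nat.xor (ext6 c) z)) 16)
        (Nat.add (Nat.shiftLeft (pr2 (Nat.xor (ext6 d) z)) 24)
          (Nat.add (Nat.shiftLeft (pr2 (Nat.xor (ext6 e) z)) 32) (Nat.shiftLeft (pr2 z) 40)))))
where
  /-- The sixth bit. -/
  ext6 (a : ℕ) : ℕ := Nat.lor a (Nat.mul 32 (bi 65814 a))
  /-- The two digits of a pair. -/
  pr2 (a : ℕ) : ℕ := Nat.add 16 (Nat.mul 34 (Nat.log2 a))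

attribute [irreducible] wc5

theorem star_el {z m : ℕ} (h : forceB z (fun z => band (okB z) (Nat.beq (ac z) m)) = true) :
    ∃ g : El, cd (cj g) = m := by
  rw [forceB_eq, ← band_iff, ← neq_iff] at h
  exact ⟨nm _ h.1, (cd_cj _).trans h.2⟩

theorem star : ∀ a < 32, w2 a = true → ∀ b < 32, w2 b = true → w2 (Nat.xor a b) = true →
    ∀ c < 32, w2 c = true → w2 (Nat.xor a c) = true → w2 (Nat.xor b c) = true →
    ∀ d < 32, w2 d = true → w2 (Nat.xor a d) = true → w2 (Nat.xor b d) = true →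
      w2 (Nat.xor c d) = true →
    ∀ e < 32, w2 e = true → w2 (Nat.xor a e) = true → w2 (Nat.xor b e) = true →
      w2 (Nat.xor c e) = true → w2 (Nat.xor d e) = true →
    forceB (wc5 a b c d e) (fun z => band (okB z) (Nat.beq (ac z) (pk5 a b c d e))) = true := by
  kdt

theorem main {Δ : Subgroup (MulAut E0)} (hP : PP ≤ Δ) (h : St Δ) (h4 : cj g4 ∈ Δ) :
    Δ = cj.range := by
  have hT : ∀ x ∈ T, x ∈ Δ.comap cj := fun x hx => hP ⟨x, hx, rfl⟩
  have all : ∀ x, cj x ∈ Δ := by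
    have m1 := hT g1 (by kdt)
    have m3 := hT g3 (by kdt)
    have ms := hT sw (by kdt)
    have m4 : g4 ∈ Δ.comap cj := h4
    have my : g3 * g4 * g3 ∈ Δ.comap cj := mul_mem (mul_mem m3 m4) m3
    have mx := mul_mem (mul_mem (mul_mem (mul_mem m1 ms) my) ms) m1
    refine mem6 (K := Δ.comap cj) m1 ?_ m3 m4 (hT g5 (by kdt)) (hT g6 (by kdt))
    have := mul_mem (mul_mem mx my) mx
    rwa [show g1 * sw * (g3 * g4 * g3) * sw * g1 * (g3 * g4 * g3) *
      (g1 * sw * (g3 * g4 * g3) * sw * g1) = g2 by kdt] at this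
  refine le_antisymm (fun β hβ => ?_) (by rintro _ ⟨x, rfl⟩; exact all x)
  have c1 : ∀ c < 32, w2 c = true → ∃ i < 15, tcB (sc i) c = true := by kdt
  have c2 : ∀ c < 32, ∀ l < 32, vl (tvc c l) = true → w2 c = true ∨
      ∃ i < 15, tvB (sc i) = true ∧ vB (tvc c l) (sc i) = true := by kdt
  have key : ∀ x < 32, ∀ y < 32, β (ev x) = ev y → w2 x = true → w2 y = true := by
    intro x hx y hy e hw
    obtain ⟨i, hi, t⟩ := c1 x hx hw
    rw [← se_spec i hi, ← cd_cj] at t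
    have t' := (tc_of hx t).conj β
    rw [e] at t'
    obtain ⟨l, hl, e', v⟩ := t'.code hy
    refine (c2 y hy l hl v).resolve_right ?_
    rintro ⟨j, hj, t1, t2⟩
    rw [← se_spec j hj, ← cd_cj] at t1 t2
    rw [← e'] at t2
    exact h.not_vB (mul_mem (mul_mem hβ (all _)) (inv_mem hβ)) (all _) ⟨_, t'⟩ (tv_of t1) t2
  have k2 : ∀ {x y i j : ℕ}, β (ev x) = ev (col (cd β) i) → β (ev y) = ev (col (cd β) j) → x < 32 →
      y < 32 → w2 (Nat.xor x y) = true → w2 (Nat.xor (col (cd β) i) (col (cd β) j)) = true :=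
    fun e e' hx hy => key _ (xlt hx hy) _ (xlt (col_lt _ _) (col_lt _ _)) (by
      rw [← ev_mul hx hy, map_mul, e, e', ev_mul (col_lt _ _) (col_lt _ _)])
  have k1 : ∀ {x i : ℕ}, β (ev x) = ev (col (cd β) i) → x < 32 → w2 x = true →
      w2 (col (cd β) i) = true := fun e hx => key _ hx _ (col_lt _ _) e
  obtain ⟨h0, h1, h2, h3, h4⟩ := cd_col β
  have := star _ (col_lt _ _) (k1 h0 (by decide) (by decide +kernel)) _ (col_lt _ _) (k1 h1 (by decide) (by decide +kernel))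
    (k2 h0 h1 (by decide) (by decide) (by decide +kernel)) _ (col_lt _ _) (k1 h2 (by decide) (by decide +kernel))
    (k2 h0 h2 (by decide) (by decide) (by decide +kernel)) (k2 h1 h2 (by decide) (by decide) (by decide +kernel))
    _ (col_lt _ _) (k1 h3 (by decide) (by decide +kernel)) (k2 h0 h3 (by decide) (by decide) (by decide +kernel))
    (k2 h1 h3 (by decide) (by decide) (by decide +kernel)) (k2 h2 h3 (by decide) (by decide) (by decide +kernel))
    _ (col_lt _ _) (k1 h4 (by decide) (by decide +kernel)) (k2 h0 h4 (by decide) (by decide) (by decide +kernel))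
    (k2 h1 h4 (by decide) (by decide) (by decide +kernel)) (k2 h2 h4 (by decide) (by decide) (by decide +kernel))
    (k2 h3 h4 (by decide) (by decide) (by decide +kernel))
  obtain ⟨g, hg⟩ := star_el this
  exact ⟨g, cd_inj (hg.trans (cd_of (col_lt _ _) (col_lt _ _)
    (col_lt _ _) (col_lt _ _) (col_lt _ _) h0 h1 h2 h3 h4).symm)⟩

theorem cd_g : cd (cj g1) = pc 1 ∧ cd (cj g3) = pc 2 ∧ cd (cj g5) = pc 4 ∧ cd (cj sw) = pc 8 ∧
    cd (cj g4) = sc 12 := by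
  simp only [cd_cj]
  kdt

theorem g_PP : cj g1 ∈ PP ∧ cj g3 ∈ PP ∧ cj g5 ∈ PP ∧ cj sw ∈ PP :=
  have : g1 ∈ T ∧ g3 ∈ T ∧ g5 ∈ T ∧ sw ∈ T := by kdt
  ⟨⟨_, this.1, rfl⟩, ⟨_, this.2.1, rfl⟩, ⟨_, this.2.2.1, rfl⟩, ⟨_, this.2.2.2, rfl⟩⟩

theorem tc_g : Tc (cj g1) (ev 3) ∧ Tc (cj g3) (ev 12) ∧ Tc (cj g5) (ev 16) :=
  ⟨tc_of (by decide) (by rw [cd_g.1]; decide +kernel),
    tc_of (by decide) (by rw [cd_g.2.1]; decide +kernel),
    tc_of (by decide) (by rw [cd_g.2.2.1]; decide +kernel)⟩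

theorem exists_fc {f : ℕ} (hf : f < 4) : ∃ φ ∈ normalizer (PP : Set (MulAut E0)),
    φ * φ = 1 ∧ cd φ = fc f := by
  have k1 : ∀ f < 4, (∀ x < 32, ∀ y < 32, app (fc f) (Nat.xor x y) =
      Nat.xor (app (fc f) x) (app (fc f) y)) ∧ (∀ x < 32, app (fc f) (app (fc f) x) = x) ∧
      pk5 (app (fc f) 1) (app (fc f) 2) (app (fc f) 4) (app (fc f) 8) (app (fc f) 16) = fc f ∧
      mm (fc f) (fc f) = idc ∧ ∀ i < 16, ∃ j < 16, mm (mm (fc f) (pc i)) (fc f) = pc j := by kdt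
  obtain ⟨a, b, c, d, e⟩ := k1 f hf
  obtain ⟨φ, hφ⟩ := exists_cd a b c
  have sq : φ * φ = 1 := cd_inj (by rw [cd_mul, hφ, d, cd_one])
  have i : φ⁻¹ = φ := inv_eq_of_mul_eq_one_right sq
  have n : ∀ p ∈ PP, φ * p * φ⁻¹ ∈ PP := fun p hp => by
    obtain ⟨i', hi, e'⟩ := mem_PP.1 hp
    rw [mem_PP, i, cd_mul, cd_mul, hφ, e']
    exact e i' hi
  refine ⟨φ, mem_normalizer_iff.2 fun p => ⟨n p, fun hp => ?_⟩, sq, hφ⟩
  have := n _ hp
  rwa [i, ← mul_assoc, ← mul_assoc, sq, one_mul, mul_assoc, sq, mul_one] at this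

theorem caseA {Δ : Subgroup (MulAut E0)} (hP : PP ≤ Δ) (h : St Δ) {τ : MulAut E0} (hτ : τ ∈ Δ)
    (t : Tv τ) (hc : ¬ Commute τ (cj g5)) : ∃ φ ∈ normalizer (PP : Set (MulAut E0)),
      ∀ β, β ∈ Δ ↔ φ⁻¹ * β * φ ∈ cj.range := by
  have k : ∀ c < 32, ∀ l < 32, forceB (tvc c l) (fun m => bimp (vl m)
      (bor (Nat.beq (mm m (pc 4)) (mm (pc 4) m)) (bor (anyF (fun i => band (tvB (pc i)) (vB m (pc i))) 16)
        (bor (anyF (fun i => band (Nat.beq (mm (pc i) (pc i)) idc) (vB m (mm (mm (pc i) m) (pc i)))) 16)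
          (anyF (fun f => anyF (fun i =>
            Nat.beq (mm (pc i) m) (mm (mm (mm (fc f) (sc 12)) (fc f)) (pc i))) 16) 4))))) = true := by
    kdt
  obtain ⟨c, t'⟩ := t
  obtain ⟨c, lc, rfl⟩ := exists_ev c
  obtain ⟨l, hl, e, v⟩ := t'.code lc
  have := k c lc l hl
  rw [forceB_eq, ← bimp_iff] at this
  have := this v
  simp only [← bor_iff, ← anyF_iff, ← band_iff, ← neq_iff, ← e] at this
  rcases this with a | ⟨i, hi, a, b⟩ | ⟨i, hi, a, b⟩ | ⟨f, hf, i, hi, a⟩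
  · rw [← cd_g.2.2.1, ← cd_mul, ← cd_mul] at a
    exact absurd (cd_inj a) hc
  · obtain ⟨p, hp, e'⟩ := exists_PP hi
    rw [← e'] at a b
    exact absurd b (h.not_vB hτ (hP hp) ⟨_, t'⟩ (tv_of a))
  · obtain ⟨p, hp, e'⟩ := exists_PP hi
    rw [← e', ← cd_mul] at a b
    rw [← cd_mul] at b
    have i : p⁻¹ = p := inv_eq_of_mul_eq_one_right (cd_inj (a.trans cd_one.symm))
    refine absurd b (h.not_vB hτ (mul_mem (mul_mem (hP hp) hτ) (hP hp)) ⟨_, t'⟩ ?_)
    simpa only [i] using Tv.conj ⟨_, t'⟩ p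
  obtain ⟨p, hp, e'⟩ := exists_PP hi
  obtain ⟨φ, hφ, sq, e''⟩ := exists_fc hf
  have i : φ⁻¹ = φ := inv_eq_of_mul_eq_one_right sq
  rw [← e', ← e'', ← cd_g.2.2.2.2, ← cd_mul, ← cd_mul, ← cd_mul, ← cd_mul] at a
  have m : φ * cj g4 * φ ∈ Δ := by
    rw [← mul_inv_eq_iff_eq_mul.2 (cd_inj a)]
    exact mul_mem (mul_mem (hP hp) hτ) (inv_mem (hP hp))
  have hm := main (Δ := Δ.comap (MulAut.conj φ).toMonoidHom)
    (fun p hp => hP ((mem_normalizer_iff.1 hφ p).1 hp)) (fun a ha b hb ta tb tab =>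
      h _ ha _ hb (ta.conj φ) (tb.conj φ) (by
        rw [← map_mul]; exact tab.conj φ)) (by rw [← i] at m; simpa [i] using m)
  refine ⟨φ, hφ, fun β => ?_⟩
  rw [← hm, mem_comap]
  simp [mul_assoc]

theorem caseB {Δ : Subgroup (MulAut E0)} (hP : PP ≤ Δ) (h : St Δ)
    (hc : ∀ τ ∈ Δ, Tv τ → Commute τ (cj g5)) {β : MulAut E0} (hβ : β ∈ Δ) {u : E0}
    (h1 : Commute (u : El) g5) (h2 : ¬ Commute (β u : El) g5) :
    (∀ β ∈ Δ, ∀ u : E0, (u : El) ∈ A0 → (β u : El) ∈ A0) ∧ ∃ β ∈ Δ, ∀ u : E0,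
      ((u : El) = av 1 → (β u : El) = av 4) ∧ ((u : El) = av 4 → (β u : El) = av 16) ∧
        ((u : El) = av 16 → (β u : El) = av 1) := by
  obtain ⟨p1, p3, p5, ps⟩ := g_PP
  obtain ⟨t1, t3, t5⟩ := tc_g
  obtain ⟨c1, c3, c5, cs, -⟩ := cd_g
  have k : ∀ c < 32, ∀ l < 32, vl (tvc c l) = true → mm (tvc c l) (pc 1) = mm (pc 1) (tvc c l) →
      mm (tvc c l) (pc 2) = mm (pc 2) (tvc c l) → mm (tvc c l) (pc 4) = mm (pc 4) (tvc c l) →
      vB (tvc c l) (pc 1) = true ∨ vB (tvc c l) (pc 2) = true ∨ vB (tvc c l) (pc 4) = true ∨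
      (c = 3 ∧ tvc c l = pc 1) ∨ (c = 12 ∧ tvc c l = pc 2) ∨ (c = 16 ∧ tvc c l = pc 4) := by kdt
  have three : ∀ τ ∈ Δ, ∀ c, Tc τ c → Commute τ (cj g1) → Commute τ (cj g3) →
      (c = ev 3 ∧ τ = cj g1) ∨ (c = ev 12 ∧ τ = cj g3) ∨ (c = ev 16 ∧ τ = cj g5) := by
    intro τ hτ c t m1 m3
    obtain ⟨c, lc, rfl⟩ := exists_ev c
    obtain ⟨l, hl, e, v⟩ := t.code lc
    have := k c lc l hl v
    rw [← e, ← c1, ← c3, ← c5] at this
    simp only [← cd_mul] at this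
    rcases this (congrArg cd m1) (congrArg cd m3) (congrArg cd (hc τ hτ ⟨_, t⟩)) with
      a | a | a | a
    · exact absurd a (h.not_vB hτ (hP p1) ⟨_, t⟩ ⟨_, t1⟩)
    · exact absurd a (h.not_vB hτ (hP p3) ⟨_, t⟩ ⟨_, t3⟩)
    · exact absurd a (h.not_vB hτ (hP p5) ⟨_, t⟩ ⟨_, t5⟩)
    · exact a.imp (And.imp (congrArg ev) cd_inj)
        (Or.imp (And.imp (congrArg ev) cd_inj) (And.imp (congrArg ev) cd_inj))
  have cen : ∀ δ ∈ Δ, ∀ τ ∈ Δ, Tv τ → Commute τ (δ * cj g5 * δ⁻¹) := fun δ hδ τ hτ t => by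
    have := (hc _ (mul_mem (mul_mem (inv_mem hδ) hτ) (inv_mem (inv_mem hδ))) (t.conj δ⁻¹)).map
      (MulAut.conj δ)
    simpa [mul_assoc] using this
  have s13 : cj sw * cj g1 * (cj sw)⁻¹ = cj g3 := by
    rw [← map_inv, ← map_mul, ← map_mul]; exact congrArg cj (by kdt)
  have s31 : cj sw * cj g3 * (cj sw)⁻¹ = cj g1 := by
    rw [← map_inv, ← map_mul, ← map_mul]; exact congrArg cj (by kdt)
  have sv : cj sw (ev 3) = ev 12 ∧ cj sw (ev 12) = ev 3 ∧ cj sw (ev 16) = ev 16 := by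
    simp only [Subtype.ext_iff, cj_val, ev]
    kdt
  obtain ⟨γ, hγ, e1, e2⟩ : ∃ γ ∈ Δ, γ (ev 16) = ev 3 ∧ γ * cj g5 * γ⁻¹ = cj g1 := by
    rcases three _ (mul_mem (mul_mem hβ (hP p5)) (inv_mem hβ)) _ (t5.conj β)
      (cen β hβ _ (hP p1) ⟨_, t1⟩).symm (cen β hβ _ (hP p3) ⟨_, t3⟩).symm with a | a | a
    · exact ⟨β, hβ, a⟩
    · refine ⟨cj sw * β, mul_mem (hP ps) hβ, by rw [MulAut.mul_apply, a.1, sv.2.1], ?_⟩
      rw [← s31, ← a.2]
      group
    · refine absurd ?_ h2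
      have e : cj g5 u = u := Subtype.ext (by rw [cj_val, ← h1.eq, mul_inv_cancel_right])
      have e' : cj g5 (β u) = β u := by
        rw [← a.2, MulAut.mul_apply, MulAut.mul_apply, MulAut.inv_apply_self, e]
      exact (mul_inv_eq_iff_eq_mul.1 (congrArg Subtype.val e')).symm
  have all : ∀ δ ∈ Δ, ∀ τ ∈ Δ, ∀ c, Tc τ c → δ c = ev 3 ∨ δ c = ev 12 ∨ δ c = ev 16 := by
    intro δ hδ τ hτ c t
    have m := mul_mem (mul_mem hδ hτ) (inv_mem hδ)
    refine (three _ m _ (t.conj δ) (e2 ▸ cen γ hγ _ m ⟨_, t.conj δ⟩) ?_).imp And.left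
      (Or.imp And.left And.left)
    have := cen _ (mul_mem (hP ps) hγ) _ m ⟨_, t.conj δ⟩
    rwa [show cj sw * γ * cj g5 * (cj sw * γ)⁻¹ = cj g3 by rw [← s13, ← e2]; group] at this
  have ea : evE 3 = av 1 ∧ evE 12 = av 4 ∧ evE 16 = av 16 := by kdt
  refine ⟨fun δ hδ u hu => ?_, ?_⟩
  · have q : ∀ τ ∈ Δ, ∀ c, Tc τ c → c ∈ A0.comap (E0.subtype.comp δ.toMonoidHom) := fun τ hτ c t => by
      change (δ c : El) ∈ A0
      rcases all δ hδ τ hτ c t with a | a | a <;> rw [a]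
      exacts [⟨1, by decide, ea.1⟩, ⟨4, by decide, ea.2.1⟩, ⟨16, by decide, ea.2.2⟩]
    have q1 := q _ (hP p1) _ t1
    have q3 := q _ (hP p3) _ t3
    have q5 := q _ (hP p5) _ t5
    have : ∀ x < 32, evE x ∈ A0 → ∃ a < 2, ∃ b < 2, ∃ c < 2,
      evE x = evE 3 ^ a * evE 12 ^ b * evE 16 ^ c := by kdt
    obtain ⟨x, hx, rfl⟩ := exists_ev u
    obtain ⟨a, -, b, -, c, -, e⟩ := this x hx hu
    have := mul_mem (mul_mem (pow_mem q1 a) (pow_mem q3 b)) (pow_mem q5 c)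
    rwa [← show ev x = ev 3 ^ a * ev 12 ^ b * ev 16 ^ c from Subtype.ext e] at this
  have n : ∀ {x y z : ℕ}, γ (ev x) = ev z → γ (ev y) = ev z → x < 32 → y < 32 → x = y :=
    fun a b hx hy => ev_inj hx hy (γ.injective (a.trans b.symm))
  obtain ⟨δ, hδ, d1, d2, d3⟩ : ∃ δ ∈ Δ, δ (ev 3) = ev 12 ∧ δ (ev 12) = ev 16 ∧ δ (ev 16) = ev 3 := by
    rcases all γ hγ _ (hP p1) _ t1 with a | a | a
    · exact absurd (n a e1 (by decide) (by decide)) (by decide)
    all_goals rcases all γ hγ _ (hP p3) _ t3 with b | b | b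
    · exact absurd (n b e1 (by decide) (by decide)) (by decide)
    · exact absurd (n a b (by decide) (by decide)) (by decide)
    · exact ⟨γ, hγ, a, b, e1⟩
    · exact absurd (n b e1 (by decide) (by decide)) (by decide)
    · exact ⟨γ * cj sw, mul_mem hγ (hP ps), by rw [MulAut.mul_apply, sv.1, b],
        by rw [MulAut.mul_apply, sv.2.1, a], by rw [MulAut.mul_apply, sv.2.2, e1]⟩
    · exact absurd (n a b (by decide) (by decide)) (by decide)
  refine ⟨δ, hδ, fun u => ⟨fun e => ?_, fun e => ?_, fun e => ?_⟩⟩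
  · rw [show u = ev 3 from Subtype.ext (e.trans ea.1.symm), d1]; exact ea.2.1
  · rw [show u = ev 12 from Subtype.ext (e.trans ea.2.1.symm), d2]; exact ea.2.2
  · rw [show u = ev 16 from Subtype.ext (e.trans ea.2.2.symm), d3]; exact ea.1

theorem k1 : K1Stmt := by
  rintro Δ h ⟨β, hβ, u, h1, h2⟩
  by_cases hc : ∀ τ ∈ Δ, Tv τ → Commute τ (cj g5)
  · exact Or.inl (caseB h.le (st_of h) hc hβ h1 h2)
  · push Not at hc
    obtain ⟨τ, hτ, t, hc⟩ := hc
    exact Or.inr (caseA h.le (st_of h) hτ t hc)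

end Cfsg.Agent.H37.K1
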