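import Cfsg.Agent.H17.TwA

/-! # The automorphisms of the sign changes, coded -/

set_option autoImplicit false
set_option maxRecDepth 100000
set_option exponentiation.threshold 10000

namespace Cfsg.Agent.H37.K1

open Equiv Subgroup Cfsg.Agent.H89.TG Cfsg.Agent.H89.Rec Cfsg.Agent.H17.Ya Cfsg.Agent.H17.Tw

/-- The sign changes. -/
noncomputable def evE : ℕ → El := fam (nat_lit 0xab8967452301ba8967452310ba8967453201ab8967453210ba8967542301ab8967542310ab8967543201ba8967543210ba8976452301ab8976452310ab8976453201ba8976453210ab8976542301ba8976542310ba8976543201ab8976543210ba9867452301ab9867452310ab9867453201ba9867453210ab9867542301ba9867542310ba9867543201ab9867543210ab9876452301ba9876452310ba9876453201ab9876453210ba9876542301ab9876542310ab9876543201ba9876543210) 31 (by decide +kernel)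

theorem evE_mod (i : ℕ) : evE (i % 32) = evE i :=
  El.ext' (congrArg (fld 48 mk48 _) (Nat.mod_mod _ _))

theorem evE_mem (i : ℕ) : evE i ∈ E0 := by
  have : ∀ i < 32, evE i ∈ E0 := by kdt
  exact evE_mod i ▸ this _ (Nat.mod_lt _ (by decide))

/-- The sign changes. -/
noncomputable def ev (i : ℕ) : E0 := ⟨evE i, evE_mem i⟩

/-- A bit. -/
def bi (x i : ℕ) : ℕ := Nat.land (Nat.shiftRight x i) 1

/-- Five fields. -/
def pk5 (a b c d e : ℕ) : ℕ :=
  Nat.add a (Nat.add (Nat.mul 32 b) (Nat.add (Nat.mul 1024 c) (Nat.add (Nat.mul 32768 d)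
    (Nat.mul 1048576 e))))

/-- A field. -/
def col (m i : ℕ) : ℕ := Nat.land (Nat.shiftRight m (Nat.mul 5 i)) 31

/-- The index of a sign change. -/
noncomputable def ix (c : ℕ) : ℕ := force c fun c => Nat.land (Nat.add (bi c 0) (Nat.add
  (Nat.mul 2 (bi c 8)) (Nat.add (Nat.mul 4 (bi c 16)) (Nat.add (Nat.mul 8 (bi c 24))
    (Nat.mul 16 (bi c 32)))))) 31

/-- The image of a vector. -/
noncomputable def app (m x : ℕ) : ℕ := force x fun x => Nat.xor (Nat.mul (bi x 0) (col m 0))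
  (Nat.xor (Nat.mul (bi x 1) (col m 1)) (Nat.xor (Nat.mul (bi x 2) (col m 2))
    (Nat.xor (Nat.mul (bi x 3) (col m 3)) (Nat.mul (bi x 4) (col m 4)))))

/-- The product. -/
noncomputable def mm (m n : ℕ) : ℕ := force m fun m => force n fun n =>
  pk5 (app m (col n 0)) (app m (col n 1)) (app m (col n 2)) (app m (col n 3)) (app m (col n 4))

/-- The identity. -/
def idc : ℕ := nat_lit 17043521

/-- The action by conjugation. -/
noncomputable def ac (h : ℕ) : ℕ := force h fun h => force (iv h) fun h' =>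
  pk5 (ix (mu (mu h (evE 1).val) h')) (ix (mu (mu h (evE 2).val) h'))
    (ix (mu (mu h (evE 4).val) h')) (ix (mu (mu h (evE 8).val) h')) (ix (mu (mu h (evE 16).val) h'))

theorem ix_lt (c : ℕ) : ix c < 32 := Nat.lt_succ_of_le Nat.and_le_right

theorem col_lt (m i : ℕ) : col m i < 32 := Nat.lt_succ_of_le Nat.and_le_right

theorem bi_cases (x i : ℕ) : bi x i = 0 ∨ bi x i = 1 :=
  Nat.le_one_iff_eq_zero_or_eq_one.1 Nat.and_le_right

theorem xlt {a b : ℕ} (ha : a < 32) (hb : b < 32) : Nat.xor a b < 32 :=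
  Nat.xor_lt_two_pow (n := 5) ha hb

theorem bm_lt (x i : ℕ) {a : ℕ} (ha : a < 32) : Nat.mul (bi x i) a < 32 := by
  rcases bi_cases x i with e | e <;> simp [e, ha]

theorem app_lt (m x : ℕ) : app m x < 32 :=
  xlt (bm_lt _ _ (col_lt _ _)) (xlt (bm_lt _ _ (col_lt _ _)) (xlt (bm_lt _ _ (col_lt _ _))
    (xlt (bm_lt _ _ (col_lt _ _)) (bm_lt _ _ (col_lt _ _)))))

theorem col_eq (m i : ℕ) : col m i = m / 2 ^ (5 * i) % 32 := by
  change (m >>> (5 * i)) &&& (2 ^ 5 - 1) = _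
  rw [Nat.and_two_pow_sub_one_eq_mod, Nat.shiftRight_eq_div_pow]

theorem col_pk {a b c d e : ℕ} (ha : a < 32) (hb : b < 32) (hc : c < 32) (hd : d < 32)
    (he : e < 32) : col (pk5 a b c d e) 0 = a ∧ col (pk5 a b c d e) 1 = b ∧
      col (pk5 a b c d e) 2 = c ∧ col (pk5 a b c d e) 3 = d ∧ col (pk5 a b c d e) 4 = e := by
  simp only [col_eq, pk5, Nat.add_eq, Nat.mul_eq]
  omega

attribute [irreducible] ix

theorem ev_ix (u : E0) : ev (ix u.1.val) = u := by
  have : ∀ h : El, h ∈ E0 → evE (ix h.val) = h := by wdt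
  exact Subtype.ext (this u u.2)

theorem ix_ev : ∀ x < 32, ix (evE x).val = x := by kdt

theorem ev_mul {x y : ℕ} (hx : x < 32) (hy : y < 32) : ev x * ev y = ev (Nat.xor x y) := by
  have : ∀ x < 32, ∀ y < 32, evE x * evE y = evE (Nat.xor x y) := by kdt
  exact Subtype.ext (this x hx y hy)

theorem ev0 : ev 0 = 1 := Subtype.ext (show evE 0 = 1 by kdt)

theorem exists_ev (u : E0) : ∃ x < 32, u = ev x := ⟨_, ix_lt _, (ev_ix u).symm⟩

theorem ev_inj {x y : ℕ} (hx : x < 32) (hy : y < 32) (h : ev x = ev y) : x = y := by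
  rw [← ix_ev x hx, ← ix_ev y hy]
  exact congrArg (fun u : E0 => ix u.1.val) h

theorem e_sq (u : E0) : u * u = 1 := by
  obtain ⟨x, hx, rfl⟩ := exists_ev u
  rw [ev_mul hx hx, ← ev0]
  exact congrArg ev (Nat.xor_self x)

theorem e_comm (u v : E0) : u * v = v * u := by
  obtain ⟨x, hx, rfl⟩ := exists_ev u
  obtain ⟨y, hy, rfl⟩ := exists_ev v
  rw [ev_mul hx hy, ev_mul hy hx]
  exact congrArg ev (Nat.xor_comm x y)

theorem app_id : ∀ x < 32, app (pk5 1 2 4 8 16) x = x := by decide +kernel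

theorem ev_app {m : ℕ} (x : ℕ) : ev (app m x) = ev (Nat.mul (bi x 0) (col m 0)) *
    (ev (Nat.mul (bi x 1) (col m 1)) * (ev (Nat.mul (bi x 2) (col m 2)) *
      (ev (Nat.mul (bi x 3) (col m 3)) * ev (Nat.mul (bi x 4) (col m 4))))) := by
  have l := fun i => bm_lt x i (col_lt m i)
  rw [ev_mul (l 3) (l 4), ev_mul (l 2) (xlt (l 3) (l 4)), ev_mul (l 1) (xlt (l 2) (xlt (l 3) (l 4))),
    ev_mul (l 0) (xlt (l 1) (xlt (l 2) (xlt (l 3) (l 4))))]
  rfl

theorem ev_dec {x : ℕ} (hx : x < 32) : ev x = ev (Nat.mul (bi x 0) 1) * (ev (Nat.mul (bi x 1) 2) *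
    (ev (Nat.mul (bi x 2) 4) * (ev (Nat.mul (bi x 3) 8) * ev (Nat.mul (bi x 4) 16)))) := by
  conv_lhs => rw [← app_id x hx, ev_app]
  rfl

/-- The code of an automorphism. -/
noncomputable def cd (β : MulAut E0) : ℕ := pk5 (ix (β (ev 1)).1.val) (ix (β (ev 2)).1.val)
  (ix (β (ev 4)).1.val) (ix (β (ev 8)).1.val) (ix (β (ev 16)).1.val)

theorem cd_col (β : MulAut E0) : β (ev 1) = ev (col (cd β) 0) ∧ β (ev 2) = ev (col (cd β) 1) ∧
    β (ev 4) = ev (col (cd β) 2) ∧ β (ev 8) = ev (col (cd β) 3) ∧ β (ev 16) = ev (col (cd β) 4) := by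
  obtain ⟨h0, h1, h2, h3, h4⟩ := col_pk (ix_lt (β (ev 1)).1.val) (ix_lt (β (ev 2)).1.val)
    (ix_lt (β (ev 4)).1.val) (ix_lt (β (ev 8)).1.val) (ix_lt (β (ev 16)).1.val)
  rw [cd, h0, h1, h2, h3, h4]
  simp only [ev_ix, and_self]

theorem cd_app (β : MulAut E0) {x : ℕ} (hx : x < 32) : β (ev x) = ev (app (cd β) x) := by
  have k : ∀ i a b, β (ev a) = ev b → β (ev (Nat.mul (bi x i) a)) = ev (Nat.mul (bi x i) b) :=
    fun i a b h => by rcases bi_cases x i with e | e <;> simp [e, h, ev0]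
  obtain ⟨h0, h1, h2, h3, h4⟩ := cd_col β
  rw [ev_app, ev_dec hx, map_mul, map_mul, map_mul, map_mul, k _ _ _ h0, k _ _ _ h1, k _ _ _ h2,
    k _ _ _ h3, k _ _ _ h4]

theorem cd_inj {β γ : MulAut E0} (h : cd β = cd γ) : β = γ := MulEquiv.ext fun u => by
  obtain ⟨x, hx, rfl⟩ := exists_ev u
  rw [cd_app β hx, cd_app γ hx, h]

theorem cd_of {β : MulAut E0} {a b c d e : ℕ} (ha : a < 32) (hb : b < 32) (hc : c < 32)
    (hd : d < 32) (he : e < 32) (h0 : β (ev 1) = ev a) (h1 : β (ev 2) = ev b) (h2 : β (ev 4) = ev c)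
    (h3 : β (ev 8) = ev d) (h4 : β (ev 16) = ev e) : cd β = pk5 a b c d e := by
  rw [cd, h0, h1, h2, h3, h4]
  simp only [ev, ix_ev, ha, hb, hc, hd, he]

theorem cd_mul (β γ : MulAut E0) : cd (β * γ) = mm (cd β) (cd γ) := by
  obtain ⟨h0, h1, h2, h3, h4⟩ := cd_col γ
  have k : ∀ {a i}, γ (ev a) = ev (col (cd γ) i) →
      (β * γ) (ev a) = ev (app (cd β) (col (cd γ) i)) := fun h => by
    rw [MulAut.mul_apply, h, cd_app β (col_lt _ _)]
  exact cd_of (app_lt _ _) (app_lt _ _) (app_lt _ _) (app_lt _ _) (app_lt _ _) (k h0) (k h1) (k h2)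
    (k h3) (k h4)

theorem cd_one : cd 1 = idc :=
  cd_of (a := 1) (b := 2) (c := 4) (d := 8) (e := 16) (by decide) (by decide) (by decide)
    (by decide) (by decide) rfl rfl rfl rfl rfl

theorem cj_val (h : El) (u : E0) : (cj h u : El) = h * u * h⁻¹ := rfl

theorem cd_cj (h : El) : cd (cj h) = ac h.val := by
  simp only [cd, cj_val, val_mul, val_inv, ac, force_eq, ev]

theorem exists_cd {m : ℕ} (hl : ∀ x < 32, ∀ y < 32, app m (Nat.xor x y) = Nat.xor (app m x) (app m y))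
    (hi : ∀ x < 32, app m (app m x) = x)
    (hc : pk5 (app m 1) (app m 2) (app m 4) (app m 8) (app m 16) = m) : ∃ β, cd β = m := by
  have k : ∀ x < 32, ix (ev x).1.val = x := ix_ev
  have i : ∀ u : E0, ev (app m (ix (ev (app m (ix u.1.val))).1.val)) = u := fun u => by
    rw [k _ (app_lt _ _), hi _ (ix_lt _), ev_ix]
  refine ⟨⟨⟨fun u => ev (app m (ix u.1.val)), fun u => ev (app m (ix u.1.val)), i, i⟩,
    fun u v => ?_⟩, hc ▸ cd_of (app_lt _ _) (app_lt _ _) (app_lt _ _) (app_lt _ _) (app_lt _ _)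
      ?_ ?_ ?_ ?_ ?_⟩
  · obtain ⟨x, hx, rfl⟩ := exists_ev u
    obtain ⟨y, hy, rfl⟩ := exists_ev v
    change ev _ = ev _ * ev _
    rw [ev_mul hx hy, k _ (xlt hx hy), k x hx, k y hy, hl x hx y hy, ev_mul (app_lt _ _) (app_lt _ _)]
  all_goals exact congrArg (fun x => ev (app m x)) (k _ (by decide))

/-! ### Transvections -/

/-- A transvection with the given centre. -/
def Tc (β : MulAut E0) (c : E0) : Prop := β ≠ 1 ∧ ∀ u, β u = u ∨ β u = u * c

/-- A transvection. -/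
def Tv (β : MulAut E0) : Prop := ∃ c, Tc β c

theorem Tc.conj {β : MulAut E0} {c : E0} (h : Tc β c) (δ : MulAut E0) :
    Tc (δ * β * δ⁻¹) (δ c) := by
  refine ⟨fun e => h.1 (by simpa using e), fun u => ?_⟩
  refine (h.2 (δ⁻¹ u)).imp (fun e => ?_) fun e => ?_ <;>
    rw [MulAut.mul_apply, MulAut.mul_apply, e] <;> simp

theorem Tv.conj {β : MulAut E0} (h : Tv β) (δ : MulAut E0) : Tv (δ * β * δ⁻¹) :=
  let ⟨_, h⟩ := h; ⟨_, h.conj δ⟩

theorem Tv.sq {β : MulAut E0} (h : Tv β) : β * β = 1 := by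
  obtain ⟨c, h1, h⟩ := h
  have hc : β c = c := (h c).elim id fun e => by
    rw [e_sq, MulEquiv.map_eq_one_iff] at e
    rw [e, map_one]
  refine MulEquiv.ext fun u => ?_
  rcases h u with e | e
  · rw [MulAut.mul_apply, e, e]; rfl
  · rw [MulAut.mul_apply, e, map_mul, e, hc, mul_assoc, e_sq, mul_one]; rfl

theorem Tv.inv {β : MulAut E0} (h : Tv β) : β⁻¹ = β := inv_eq_of_mul_eq_one_right h.sq

/-- The code of a transvection. -/
def tvc (c l : ℕ) : ℕ := pk5 (Nat.xor 1 (Nat.mul (bi l 0) c)) (Nat.xor 2 (Nat.mul (bi l 1) c))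
  (Nat.xor 4 (Nat.mul (bi l 2) c)) (Nat.xor 8 (Nat.mul (bi l 3) c)) (Nat.xor 16 (Nat.mul (bi l 4) c))

/-- The test for a transvection with a given centre. -/
noncomputable def tcB (m c : ℕ) : Bool := band (bnot (Nat.beq m idc))
  (allF (fun i => bor (Nat.beq (col m i) (Nat.pow 2 i)) (Nat.beq (col m i) (Nat.xor (Nat.pow 2 i) c))) 5)

/-- The test for a transvection. -/
noncomputable def tvB (m : ℕ) : Bool := forceB m fun m => forceB (Nat.land (Nat.lor
  (Nat.xor 1 (col m 0)) (Nat.lor (Nat.xor 2 (col m 1)) (Nat.lor (Nat.xor 4 (col m 2))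
    (Nat.lor (Nat.xor 8 (col m 3)) (Nat.xor 16 (col m 4)))))) 31) (tcB m)

/-- An involution. -/
noncomputable def vl (m : ℕ) : Bool := band (bnot (Nat.beq m idc)) (Nat.beq (mm m m) idc)

theorem bits : ∀ a < 2, ∀ b < 2, ∀ c < 2, ∀ d < 2, ∀ e < 2, ∃ l < 32, bi l 0 = a ∧ bi l 1 = b ∧
    bi l 2 = c ∧ bi l 3 = d ∧ bi l 4 = e := by kdt

theorem Tc.code {β : MulAut E0} {c : ℕ} (hc : c < 32) (h : Tc β (ev c)) :
    ∃ l < 32, cd β = tvc c l ∧ vl (tvc c l) = true := by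
  have k : ∀ x < 32, ∃ a < 2, Nat.xor x (Nat.mul a c) < 32 ∧
      β (ev x) = ev (Nat.xor x (Nat.mul a c)) := fun x hx => by
    rcases h.2 (ev x) with e | e
    · exact ⟨0, by decide, by simpa using hx, by simpa using e⟩
    · exact ⟨1, by decide, by simpa using xlt hx hc, by rw [e, ev_mul hx hc]; simp⟩
  obtain ⟨a0, l0, m0, e0⟩ := k 1 (by decide)
  obtain ⟨a1, l1, m1, e1⟩ := k 2 (by decide)
  obtain ⟨a2, l2, m2, e2⟩ := k 4 (by decide)
  obtain ⟨a3, l3, m3, e3⟩ := k 8 (by decide)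
  obtain ⟨a4, l4, m4, e4⟩ := k 16 (by decide)
  obtain ⟨l, hl, rfl, rfl, rfl, rfl, rfl⟩ := bits a0 l0 a1 l1 a2 l2 a3 l3 a4 l4
  have e : cd β = tvc c l := cd_of m0 m1 m2 m3 m4 e0 e1 e2 e3 e4
  refine ⟨l, hl, e, ?_⟩
  rw [vl, ← band_iff, ← bnot_iff, ← neq_iff, ← neq_iff, ← e, ← cd_mul, Tv.sq ⟨_, h⟩, ← cd_one]
  exact ⟨fun e => h.1 (cd_inj e), rfl⟩

theorem tc_of {β : MulAut E0} {c : ℕ} (hc : c < 32) (h : tcB (cd β) c = true) : Tc β (ev c) := by
  rw [tcB, ← band_iff, ← bnot_iff, ← neq_iff, ← allF_iff] at h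
  refine ⟨fun e => h.1 (e ▸ cd_one), ?_⟩
  let K : Subgroup E0 :=
    { carrier := {u | β u = u ∨ β u = u * ev c}
      one_mem' := Or.inl (map_one β)
      mul_mem' := by
        rintro u v (a | a) (b | b)
        · exact Or.inl (by rw [map_mul, a, b])
        · exact Or.inr (by rw [map_mul, a, b, mul_assoc])
        · exact Or.inr (by rw [map_mul, a, b, mul_assoc, e_comm _ v, mul_assoc])
        · exact Or.inl (by
            rw [map_mul, a, b, mul_assoc, e_comm v, ← mul_assoc (ev c), e_sq, one_mul])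
      inv_mem' := fun {u} a => by rwa [inv_eq_of_mul_eq_one_right (e_sq u)] }
  have k : ∀ x i, i < 5 → β (ev (2 ^ i)) = ev (col (cd β) i) → ev (Nat.mul (bi x i) (2 ^ i)) ∈ K := by
    intro x i hi e
    rcases bi_cases x i with e' | e'
    · simp [e', ev0]
    · have := h.2 i hi
      rw [← bor_iff, ← neq_iff, ← neq_iff] at this
      rw [e', Nat.mul_eq, one_mul]
      refine this.imp (fun a => e.trans (congrArg ev a)) fun a => e.trans ?_
      rw [a, ev_mul (Nat.pow_lt_pow_right (a := 2) (n := 5) (by decide) hi) hc]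
      rfl
  intro u
  obtain ⟨x, hx, rfl⟩ := exists_ev u
  obtain ⟨h0, h1, h2, h3, h4⟩ := cd_col β
  change ev x ∈ K
  rw [ev_dec hx]
  exact mul_mem (k x 0 (by decide) h0) (mul_mem (k x 1 (by decide) h1) (mul_mem
    (k x 2 (by decide) h2) (mul_mem (k x 3 (by decide) h3) (k x 4 (by decide) h4))))

theorem tv_of {β : MulAut E0} (h : tvB (cd β) = true) : Tv β :=
  ⟨_, tc_of (Nat.lt_succ_of_le Nat.and_le_right) h⟩

attribute [irreducible] app mm ac tcB tvB vl

theorem Tv.test {β : MulAut E0} (h : Tv β) : tvB (cd β) = true := by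
  have : ∀ c < 32, ∀ l < 32, vl (tvc c l) = true → tvB (tvc c l) = true := by kdt
  obtain ⟨c, h⟩ := h
  obtain ⟨c, hc, rfl⟩ := exists_ev c
  obtain ⟨l, hl, e, hv⟩ := h.code hc
  exact e ▸ this c hc l hl hv

end Cfsg.Agent.H37.K1
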