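import Cfsg.Agent.H97.XSDefs
import Cfsg.Agent.H29.G2Oct
import Cfsg.Agent.S0242

/-! Models of the relations `R22` in `SL₄(p)` and `RG2` in `G₂(p)`, by reduction of integral
matrices. -/

set_option autoImplicit false

namespace Cfsg.Agent.H37.XsM

open Cfsg.Agent.H97.XS Matrix
open scoped commutatorElement

theorem comm_eq {G : Type*} [Group G] {a b c : G} (h : a * b = c * (b * a)) : ⁅a, b⁆ = c := by
  rw [commutatorElement_def, h]; group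

theorem pow_unip {n : ℕ} {p : ℕ} [hp : Fact p.Prime] (h3 : 3 ≤ p) {A : Matrix (Fin (n + 1)) (Fin (n + 1)) ℤ}
    (h : (A - 1) * ((A - 1) * (A - 1)) = 0) :
    ((Int.castRingHom (ZMod p)).mapMatrix A) ^ p = 1 := by
  have e : A = 1 + (A - 1) := by abel
  have h' : (A - 1) ^ p = 0 := by
    obtain ⟨k, rfl⟩ := Nat.exists_eq_add_of_le h3
    rw [pow_add, pow_three, h, zero_mul]
  rw [e, map_add, map_one, add_pow_char_of_commute p (Commute.one_left _), one_pow, ← map_pow, h',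
    map_zero, add_zero]

theorem root6 {G : Type*} [Group G] {c : G} {p : ℕ} {a b : ℤ} (h : c ^ p = 1)
    (hab : a * 6 + b * p = 1) : c = (c ^ 6) ^ a := by
  rw [← zpow_natCast, ← _root_.zpow_mul]
  conv_lhs => rw [← _root_.zpow_one c, ← hab, _root_.zpow_add, mul_comm b,
    _root_.zpow_mul _ (p : ℤ), zpow_natCast, h, _root_.one_zpow, mul_one, mul_comm]
  rfl

theorem fact_eq {p a b N : ℕ} (hp : p.Prime) (h : a * N = p ^ 6 * b) (ha : ¬ p ∣ a) (hb : ¬ p ∣ b) :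
    N.factorization p = 6 := by
  have a0 : a ≠ 0 := fun c => ha (c ▸ dvd_zero p)
  have b0 : b ≠ 0 := fun c => hb (c ▸ dvd_zero p)
  have p0 : p ^ 6 ≠ 0 := pow_ne_zero _ hp.ne_zero
  have N0 : N ≠ 0 := fun c => mul_ne_zero p0 b0 (by rw [← h, c, mul_zero])
  have := congrArg (fun n => n.factorization p) h
  simpa [Nat.factorization_mul a0 N0, Nat.factorization_mul p0 b0, hp.factorization_pow,
    Nat.factorization_eq_zero_of_not_dvd ha, Nat.factorization_eq_zero_of_not_dvd hb] using this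

theorem ndvd {p : ℕ} (hp : p.Prime) (k : ℕ) : ¬ p ∣ p ^ (k + 1) - 1 := fun h =>
  hp.one_lt.ne' (Nat.dvd_one.1 ((Nat.dvd_sub_iff_right (Nat.one_le_pow _ _ hp.pos)
    (dvd_pow_self p k.succ_ne_zero)).1 h))

/-! ### `G₂` -/

/-- an integral automorphism of the Zorn algebra -/
def gv : GL (Fin 8) ℤ :=
  ⟨!![1, 0, 0, 0, 0, 0, 0, 0; 0, 1, 1, 0, 0, 0, 0, 0; 0, 0, 1, 0, 0, 0, 0, 0; 0, 0, 0, 1, 0, 0, 0, 0; 0, 0, 0, 0, 1, 0, 0, 0; 0, 0, 0, 0, -1, 1, 0, 0; 0, 0, 0, 0, 0, 0, 1, 0; 0, 0, 0, 0, 0, 0, 0, 1],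
   !![1, 0, 0, 0, 0, 0, 0, 0; 0, 1, -1, 0, 0, 0, 0, 0; 0, 0, 1, 0, 0, 0, 0, 0; 0, 0, 0, 1, 0, 0, 0, 0; 0, 0, 0, 0, 1, 0, 0, 0; 0, 0, 0, 0, 1, 1, 0, 0; 0, 0, 0, 0, 0, 0, 1, 0; 0, 0, 0, 0, 0, 0, 0, 1],
   by decide +kernel, by decide +kernel⟩

/-- an integral automorphism of the Zorn algebra -/
def ge : GL (Fin 8) ℤ :=
  ⟨!![1, 0, 0, 0, 0, 1, 0, 0; 0, 1, 0, 0, 0, 0, 0, 0; -1, 0, 1, 0, 0, -1, 0, 1; 0, 0, 0, 1, 0, 0, 0, 0; 0, 0, 0, -1, 1, 0, 0, 0; 0, 0, 0, 0, 0, 1, 0, 0; 0, 1, 0, 0, 0, 0, 1, 0; 0, 0, 0, 0, 0, -1, 0, 1],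
   !![1, 0, 0, 0, 0, -1, 0, 0; 0, 1, 0, 0, 0, 0, 0, 0; 1, 0, 1, 0, 0, -1, 0, -1; 0, 0, 0, 1, 0, 0, 0, 0; 0, 0, 0, 1, 1, 0, 0, 0; 0, 0, 0, 0, 0, 1, 0, 0; 0, -1, 0, 0, 0, 0, 1, 0; 0, 0, 0, 0, 0, 1, 0, 1],
   by decide +kernel, by decide +kernel⟩

/-- an integral automorphism of the Zorn algebra -/
def gv2 : GL (Fin 8) ℤ :=
  ⟨!![1, 0, 0, 1, 1, 0, 0, 0; -1, 1, 0, -1, -1, 1, 0, 1; 0, 0, 1, -1, -1, 0, 0, 0; 0, 0, 0, 1, 0, 0, 0, 0; 0, 0, 0, 0, 1, 0, 0, 0; 0, 0, 0, 1, 0, 1, 0, 0; -1, 0, -1, 0, 0, 1, 1, 1; 0, 0, 0, -1, -1, 0, 0, 1],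
   !![1, 0, 0, -1, -1, 0, 0, 0; 1, 1, 0, 0, -1, -1, 0, -1; 0, 0, 1, 1, 1, 0, 0, 0; 0, 0, 0, 1, 0, 0, 0, 0; 0, 0, 0, 0, 1, 0, 0, 0; 0, 0, 0, -1, 0, 1, 0, 0; 1, 0, 1, 0, -1, -1, 1, -1; 0, 0, 0, 1, 1, 0, 0, 1],
   by decide +kernel, by decide +kernel⟩

/-- an integral automorphism of the Zorn algebra -/
def gv3 : GL (Fin 8) ℤ :=
  ⟨!![1, 0, 0, -2, 0, 0, 0, 0; 0, 1, 0, 3, 0, -2, 0, 0; 0, 0, 1, 6, 2, 0, 0, 0; 0, 0, 0, 1, 0, 0, 0, 0; 0, 0, 0, 0, 1, 0, 0, 0; 0, 0, 0, 0, 0, 1, 0, 0; 2, 0, 0, -4, -3, -6, 1, -2; 0, 0, 0, 2, 0, 0, 0, 1],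
   !![1, 0, 0, 2, 0, 0, 0, 0; 0, 1, 0, -3, 0, 2, 0, 0; 0, 0, 1, -6, -2, 0, 0, 0; 0, 0, 0, 1, 0, 0, 0, 0; 0, 0, 0, 0, 1, 0, 0, 0; 0, 0, 0, 0, 0, 1, 0, 0; -2, 0, 0, -4, 3, 6, 1, 2; 0, 0, 0, -2, 0, 0, 0, 1],
   by decide +kernel, by decide +kernel⟩

/-- an integral automorphism of the Zorn algebra -/
def gv4 : GL (Fin 8) ℤ :=
  ⟨!![1, 0, 0, 0, 0, 0, 0, 0; 0, 1, 0, 0, 0, 0, 0, 0; 0, 0, 1, -6, 0, 0, 0, 0; 0, 0, 0, 1, 0, 0, 0, 0; 0, 0, 0, 0, 1, 0, 0, 0; 0, 0, 0, 0, 0, 1, 0, 0; 0, 0, 0, 0, 0, 6, 1, 0; 0, 0, 0, 0, 0, 0, 0, 1],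
   !![1, 0, 0, 0, 0, 0, 0, 0; 0, 1, 0, 0, 0, 0, 0, 0; 0, 0, 1, 6, 0, 0, 0, 0; 0, 0, 0, 1, 0, 0, 0, 0; 0, 0, 0, 0, 1, 0, 0, 0; 0, 0, 0, 0, 0, 1, 0, 0; 0, 0, 0, 0, 0, -6, 1, 0; 0, 0, 0, 0, 0, 0, 0, 1],
   by decide +kernel, by decide +kernel⟩

/-- an integral automorphism of the Zorn algebra -/
def gz : GL (Fin 8) ℤ :=
  ⟨!![1, 0, 0, 0, 0, 0, 0, 0; 0, 1, 0, -6, 0, 0, 0, 0; 0, 0, 1, 0, 0, 0, 0, 0; 0, 0, 0, 1, 0, 0, 0, 0; 0, 0, 0, 0, 1, 0, 0, 0; 0, 0, 0, 0, 0, 1, 0, 0; 0, 0, 0, 0, 6, 0, 1, 0; 0, 0, 0, 0, 0, 0, 0, 1],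
   !![1, 0, 0, 0, 0, 0, 0, 0; 0, 1, 0, 6, 0, 0, 0, 0; 0, 0, 1, 0, 0, 0, 0, 0; 0, 0, 0, 1, 0, 0, 0, 0; 0, 0, 0, 0, 1, 0, 0, 0; 0, 0, 0, 0, 0, 1, 0, 0; 0, 0, 0, 0, -6, 0, 1, 0; 0, 0, 0, 0, 0, 0, 0, 1],
   by decide +kernel, by decide +kernel⟩

/-- an integral automorphism of the Zorn algebra -/
def gc : GL (Fin 8) ℤ :=
  ⟨!![1, 0, 0, 0, 0, 0, 0, 0; 0, 1, 0, -1, 0, 0, 0, 0; 0, 0, 1, 0, 0, 0, 0, 0; 0, 0, 0, 1, 0, 0, 0, 0; 0, 0, 0, 0, 1, 0, 0, 0; 0, 0, 0, 0, 0, 1, 0, 0; 0, 0, 0, 0, 1, 0, 1, 0; 0, 0, 0, 0, 0, 0, 0, 1],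
   !![1, 0, 0, 0, 0, 0, 0, 0; 0, 1, 0, 1, 0, 0, 0, 0; 0, 0, 1, 0, 0, 0, 0, 0; 0, 0, 0, 1, 0, 0, 0, 0; 0, 0, 0, 0, 1, 0, 0, 0; 0, 0, 0, 0, 0, 1, 0, 0; 0, 0, 0, 0, -1, 0, 1, 0; 0, 0, 0, 0, 0, 0, 0, 1],
   by decide +kernel, by decide +kernel⟩

theorem h2 : ⁅gv, ge⁆ = gv2 := comm_eq (Units.ext (by decide +kernel))
theorem h3 : ⁅gv2, ge⁆ = gv3 := comm_eq (Units.ext (by decide +kernel))
theorem h4 : ⁅gv3, ge⁆ = gv4 := comm_eq (Units.ext (by decide +kernel))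
theorem hz : ⁅gv, gv4⁆ = gz := comm_eq (Units.ext (by decide +kernel))
theorem hc : ⁅gv, gv2⁆ = gc := comm_eq (Units.ext (by decide +kernel))
theorem h13 : ⁅gv, gv3⁆ = gz⁻¹ := comm_eq (Units.ext (by decide +kernel))
theorem h23 : ⁅gv2, gv3⁆ = gz⁻¹ := comm_eq (Units.ext (by decide +kernel))
theorem c4e : Commute gv4 ge := Units.ext (by decide +kernel)
theorem c24 : Commute gv2 gv4 := Units.ext (by decide +kernel)
theorem c34 : Commute gv3 gv4 := Units.ext (by decide +kernel)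
theorem czv : Commute gz gv := Units.ext (by decide +kernel)
theorem cze : Commute gz ge := Units.ext (by decide +kernel)

theorem c6 : gc ^ 6 = gz := by
  have e1 : (gc : Matrix (Fin 8) (Fin 8) ℤ) = 1 + ((gc : Matrix (Fin 8) (Fin 8) ℤ) - 1) := by abel
  have e2 : ((gc : Matrix (Fin 8) (Fin 8) ℤ) - 1) * ((gc : Matrix (Fin 8) (Fin 8) ℤ) - 1) = 0 := by
    decide +kernel
  have e3 : (gz : Matrix (Fin 8) (Fin 8) ℤ) = 1 + 6 * ((gc : Matrix (Fin 8) (Fin 8) ℤ) - 1) := by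
    decide +kernel
  refine Units.ext ?_
  rw [Units.val_pow_eq_pow_val, e3, e1]
  generalize (gc : Matrix (Fin 8) (Fin 8) ℤ) - 1 = N at e2 ⊢
  have k : ∀ n : ℕ, (1 + N) ^ n = 1 + n * N := fun n => by
    induction n with
    | zero => simp
    | succ n ih => rw [pow_succ, ih, add_mul, one_mul, mul_add, mul_one, mul_assoc, e2]; push_cast; noncomm_ring
  rw [k, add_sub_cancel_left]; rfl

theorem rg2_of {G : Type*} [Group G] {p : ℕ} (φ : GL (Fin 8) ℤ →* G) {m : ℤ} (h1 : φ gv ^ p = 1)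
    (h2' : φ ge ^ p = 1) (hm : φ gc = φ gz ^ m) (hne : φ gz ≠ 1) : RG2 p m (φ gv) (φ ge) := by
  refine ⟨h1, h2', ?_, ?_, ?_, ?_, ?_, ?_, ?_, ?_, ?_⟩ <;>
    simp only [← map_commutatorElement, h2, h3, h4, hz, hc, h13, h23, map_inv]
  exacts [c4e.map φ, hm, c24.map φ, c34.map φ, czv.map φ, cze.map φ, hne]

theorem rg2_inj {G H : Type*} [Group G] [Group H] {p : ℕ} {m : ℤ} (ι : G →* H)
    (hι : Function.Injective ι) {v e : G} (h : RG2 p m (ι v) (ι e)) : RG2 p m v e := by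
  obtain ⟨a1, a2, a3, a4, a5, a6, a7, a8, a9, a10, a11⟩ := h
  simp only [← map_commutatorElement, ← map_pow, ← map_zpow, ← map_inv, hι.eq_iff,
    map_eq_one_iff _ hι, ne_eq] at a1 a2 a4 a5 a6 a11
  simp only [← map_commutatorElement] at a3 a7 a8 a9 a10
  exact ⟨a1, a2, a3.of_map hι, a4, a5, a6, a7.of_map hι, a8.of_map hι, a9.of_map hι,
    a10.of_map hι, a11⟩

/-- reduction modulo `p` -/
def red (p : ℕ) : GL (Fin 8) ℤ →* GL (Fin 8) (ZMod p) :=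
  GeneralLinearGroup.map (Int.castRingHom (ZMod p))

theorem red_val (p : ℕ) (g : GL (Fin 8) ℤ) : (red p g : Matrix (Fin 8) (Fin 8) (ZMod p)) =
    (Int.castRingHom (ZMod p)).mapMatrix (g : Matrix (Fin 8) (Fin 8) ℤ) := rfl

theorem red_pow {p : ℕ} [Fact p.Prime] (h3 : 3 ≤ p) {g : GL (Fin 8) ℤ}
    (h : ((g : Matrix (Fin 8) (Fin 8) ℤ) - 1) * (((g : Matrix (Fin 8) (Fin 8) ℤ) - 1) *
      ((g : Matrix (Fin 8) (Fin 8) ℤ) - 1)) = 0) : red p g ^ p = 1 :=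
  Units.ext (by rw [Units.val_pow_eq_pow_val, red_val, pow_unip h3 h]; rfl)

theorem mem_v (p : ℕ) [Fact p.Prime] : red p gv ∈ Lie.G2 (ZMod p) := by
  have e : ∀ x : Fin 8 → ZMod p, (Units.coeHom _ (red p gv)) *ᵥ x =
      ![x 0, x 1 + x 2, x 2, x 3, x 4, -x 4 + x 5, x 6, x 7] := fun x => by
    funext i
    fin_cases i <;> simp [red_val, gv, mulVec, dotProduct, Fin.sum_univ_eight, sub_eq_add_neg]
  intro x y
  rw [e, e, e]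
  funext i
  fin_cases i <;> simp [Lie.zornMul, Lie.dot3, Lie.cross3] <;> ring

theorem mem_e (p : ℕ) [Fact p.Prime] : red p ge ∈ Lie.G2 (ZMod p) := by
  have e : ∀ x : Fin 8 → ZMod p, (Units.coeHom _ (red p ge)) *ᵥ x =
      ![x 0 + x 5, x 1, -x 0 + x 2 - x 5 + x 7, x 3, -x 3 + x 4, x 5, x 1 + x 6, -x 5 + x 7] := fun x => by
    funext i
    fin_cases i <;> simp [red_val, ge, mulVec, dotProduct, Fin.sum_univ_eight] <;> ring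
  intro x y
  rw [e, e, e]
  funext i
  fin_cases i <;> simp [Lie.zornMul, Lie.dot3, Lie.cross3] <;> ring

theorem mG2 : MG2Stmt := by
  intro p hp h5
  have hp' := hp.out
  have h6 : Nat.Coprime 6 p := by
    refine Nat.Coprime.mul_left (m := 2) (n := 3) ?_ ?_ <;>
      refine (Nat.coprime_primes (by norm_num) hp').2 (by omega)
  refine ⟨?_, ?_⟩
  · obtain ⟨a, b, hab⟩ : IsCoprime (6 : ℤ) p := Nat.isCoprime_iff_coprime.2 h6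
    refine ⟨a, ⟨_, mem_v p⟩, ⟨_, mem_e p⟩, rg2_inj (Lie.G2 (ZMod p)).subtype
      Subtype.val_injective (rg2_of (red p) (red_pow (by omega) (by decide +kernel))
        (red_pow (by omega) (by decide +kernel)) ?_ fun h => ?_)⟩
    · have h1 : red p gc ^ p = 1 := red_pow (by omega) (by decide +kernel)
      rw [← c6, map_pow]
      exact root6 h1 hab
    · have : (red p gz : Matrix (Fin 8) (Fin 8) (ZMod p)) 6 4 =
          ((1 : GL (Fin 8) (ZMod p)) : Matrix (Fin 8) (Fin 8) (ZMod p)) 6 4 := by rw [h]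
      rw [red_val] at this
      have h0 : ((6 : ℕ) : ZMod p) = 0 := by simpa [gz] using this
      rw [ZMod.natCast_eq_zero_iff] at h0
      exact hp'.one_lt.ne' (Nat.Coprime.eq_one_of_dvd h6.symm h0)
  · obtain ⟨e⟩ := H29.nonempty_chevG2_equiv_G2 (ZMod p)
    refine fact_eq (a := 1) (b := (p ^ 2 - 1) * (p ^ 6 - 1)) hp' ?_ hp'.not_dvd_one
      (hp'.not_dvd_mul (ndvd hp' 1) (ndvd hp' 5))
    rw [one_mul, ← Nat.card_congr e.toEquiv, S1059.result (ZMod.card p), mul_assoc]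

/-! ### `SL₄` -/

/-- an integral unitriangular matrix -/
def sy1 : SpecialLinearGroup (Fin 4) ℤ := ⟨!![1, 1, 0, 0; 0, 1, 0, 0; 0, 0, 1, 1; 0, 0, 0, 1], by decide +kernel⟩

/-- an integral unitriangular matrix -/
def sy2 : SpecialLinearGroup (Fin 4) ℤ := ⟨!![1, 1, 0, 0; 0, 1, 0, 0; 0, 0, 1, -1; 0, 0, 0, 1], by decide +kernel⟩

/-- an integral unitriangular matrix -/
def se : SpecialLinearGroup (Fin 4) ℤ := ⟨!![1, 0, 0, 0; 0, 1, 1, 0; 0, 0, 1, 0; 0, 0, 0, 1], by decide +kernel⟩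

/-- an integral unitriangular matrix -/
def sh1 : SpecialLinearGroup (Fin 4) ℤ := ⟨!![1, 0, 1, -1; 0, 1, 0, -1; 0, 0, 1, 0; 0, 0, 0, 1], by decide +kernel⟩

/-- an integral unitriangular matrix -/
def sh2 : SpecialLinearGroup (Fin 4) ℤ := ⟨!![1, 0, 1, 1; 0, 1, 0, 1; 0, 0, 1, 0; 0, 0, 0, 1], by decide +kernel⟩

/-- an integral unitriangular matrix -/
def sz : SpecialLinearGroup (Fin 4) ℤ := ⟨!![1, 0, 0, -2; 0, 1, 0, 0; 0, 0, 1, 0; 0, 0, 0, 1], by decide +kernel⟩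

/-- an integral unitriangular matrix -/
def sw : SpecialLinearGroup (Fin 4) ℤ := ⟨!![1, 0, 0, 2; 0, 1, 0, 0; 0, 0, 1, 0; 0, 0, 0, 1], by decide +kernel⟩

theorem k1 : ⁅sy1, se⁆ = sh1 := comm_eq (Subtype.ext (by decide +kernel))
theorem k2 : ⁅sy2, se⁆ = sh2 := comm_eq (Subtype.ext (by decide +kernel))
theorem kz : ⁅sy1, sh1⁆ = sz := comm_eq (Subtype.ext (by decide +kernel))
theorem kw : ⁅sy2, sh2⁆ = sz⁻¹ :=
  (comm_eq (c := sw) (Subtype.ext (by decide +kernel))).trans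
    (eq_inv_of_mul_eq_one_left (Subtype.ext (by decide +kernel)))

theorem cm {a b : SpecialLinearGroup (Fin 4) ℤ} (h : a.1 * b.1 = b.1 * a.1) : Commute a b :=
  Subtype.ext h

theorem mSL : MSLStmt := by
  intro p hp h2
  have hp' := hp.out
  have h3 : 3 ≤ p := by have := hp'.two_le; omega
  refine ⟨?_, ?_⟩
  · let φ : SpecialLinearGroup (Fin 4) ℤ →* SpecialLinearGroup (Fin 4) (ZMod p) :=
      SpecialLinearGroup.map (Int.castRingHom (ZMod p))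
    have pw : ∀ g : SpecialLinearGroup (Fin 4) ℤ, (g.1 - 1) * ((g.1 - 1) * (g.1 - 1)) = 0 →
        φ g ^ p = 1 := fun g h => Subtype.ext
      ((Matrix.SpecialLinearGroup.coe_pow (φ g) p).trans (pow_unip h3 h))
    refine ⟨φ sy1, φ sy2, φ se, pw _ (by decide +kernel), pw _ (by decide +kernel),
      pw _ (by decide +kernel), ?_, ?_, ?_, ?_, ?_, ?_, ?_, ?_, ?_, ?_, ?_, by simp⟩ <;>
      try simp only [← map_commutatorElement φ, k1, k2, kz, kw, map_inv, _root_.zpow_neg,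
        _root_.zpow_one]
    any_goals exact (cm (by decide +kernel)).map φ
    intro h
    have : ((Int.castRingHom (ZMod p)).mapMatrix sz.1) 0 3 =
        (1 : Matrix (Fin 4) (Fin 4) (ZMod p)) 0 3 :=
      congrFun (congrFun (congrArg Subtype.val h) 0) 3
    have h0 : ((2 : ℕ) : ZMod p) = 0 := by simpa [sz] using this
    rw [ZMod.natCast_eq_zero_iff] at h0
    exact h2 ((Nat.prime_dvd_prime_iff_eq hp' Nat.prime_two).1 h0)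
  · refine fact_eq (a := p ^ 1 - 1) (b := (p ^ 4 - 1) * (p ^ 3 - 1) * (p ^ 2 - 1) * (p ^ 1 - 1)) hp'
      ?_ (ndvd hp' 0) (hp'.not_dvd_mul (hp'.not_dvd_mul (hp'.not_dvd_mul (ndvd hp' 3) (ndvd hp' 2))
        (ndvd hp' 1)) (ndvd hp' 0))
    rw [pow_one, S0242.result (ZMod.card p) 4 (by norm_num), Fin.prod_univ_four]
    have e : ∀ i j : ℕ, p ^ (i + j) - p ^ i = p ^ i * (p ^ j - 1) := fun i j => by
      rw [Nat.mul_sub_one, pow_add]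
    have e1 := e 1 3; have e2 := e 2 2; have e3 := e 3 1
    norm_num at e1 e2 e3 ⊢
    rw [e1, e2, e3]; ring

end Cfsg.Agent.H37.XsM
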