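import Cfsg.Agent.H56.ZCKit
import Cfsg.Agent.H21.FsCL
import Cfsg.Agent.H3.Fitting

/-! # Solvable normal subgroups of a minimal non-solvable member are central -/

set_option autoImplicit false

namespace Cfsg.Agent.H37.ZC

open Subgroup Cfsg.Agent.H56.FS Cfsg.Agent.H56.ZC Cfsg.Agent.H3
open scoped commutatorElement

universe u

theorem odd_central {G : Type u} [Group G] [Finite G] {p : ℕ} {D : Set (Subgroup G)} (h : Mc p D)
    {q : ℕ} (hq : q.Prime) (q2 : q ≠ 2) {Q : Subgroup G} [hQ : Q.Normal] (hp : IsPGroup q Q) :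
    Q ≤ center G := by
  have := Fact.mk hq
  intro x hx
  have key : sSup D ≤ Ce x := sSup_le fun A hA => by
    refine le_Ce_iff.2 (h.eps A hA (cj_eq_iff.1 ?_))
    by_contra ne
    have hB := h.inv A hA x
    refine h.toCn.toCl2.RR_pair_ne hA hB (Ne.symm ne) ?_
    have hle : LL D (A ⊔ cj x A) ≤ Q ⊔ A := (LL_le _).trans
      (sup_le le_sup_right (cj_le_of_mem (mem_sup_left hx) le_sup_right))
    have h1 : RR D (A ⊔ cj x A) ≤ Q := (commutator_mono hle hle).trans
      (H21.FsCL.comm_sup_le le_normalizer_of_normal (h.toCn.toCl2.toBs2.comm hA))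
    have h2 := h.pg _ (h.toCn.toCl2.sol_pair hA hB)
    exact disjoint_self.1 (IsPGroup.disjoint_of_ne 2 q q2.symm _ _ h2 (hp.to_le h1))
  rw [h.gen] at key
  exact mem_center_iff.2 fun g => mem_Ce.1 (key (mem_top g))

theorem rad (hol : HolStmt.{u}) : RadStmt.{u} := by
  intro G _ _ p D h
  refine ⟨h, fun N hN hs => ?_⟩
  have hF : fittingSubgroup G ≤ center G := by
    rw [fitting_eq_iSup_pCore]
    refine iSup_le fun q => ?_
    have := Fact.mk q.2
    have := pCore_normal (q : ℕ) G
    by_cases q2 : (q : ℕ) = 2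
    · exact hol G p D h _ this (q2 ▸ pCore_isPGroup (q : ℕ) G)
    · exact odd_central h q.2 q2 (pCore_isPGroup (q : ℕ) G)
  exact (le_fitting_of_isSolvable_of_le_centralizer hs fun x _ y hy =>
    (mem_center_iff.1 (hF hy) x).symm).trans hF

end Cfsg.Agent.H37.ZC
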